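import Cfsg.Agent.EqLemmas
import Mathlib.Algebra.Order.Group.Nat
import Mathlib.Tactic.Ring
import Mathlib.Tactic.SplitIfs
/-
The arithmetic of necessity in the elusiveness criteria for isotropic subspaces.
* `necessity_of_witnesses`
-/

set_option autoImplicit false

namespace Cfsg.Agent.Elusive

/-- Necessity from the two kinds of witnesses. -/
theorem necessity_of_witnesses {r d m i c c' l : ℕ} (hi : 0 < i) (hir : i ∣ r - 1) (hr : 1 < r)
    (hc' : 2 * c' = c) (hc : c = if Even i then i else 2 * i) (hmd : m ≤ d)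
    (hl1 : d - m < l) (hl2 : l ≤ d) (hl : i ∣ 2 * l)
    (H1 : ∀ u d0, 0 < u → d0 + u * c' = d → ∃ j s, m = j + s * i ∧ j ≤ d0)
    (H2 : Even i → ∀ u d0, 0 < u → u * i ≤ r - 1 → d0 + u * c' = d → m ≤ d0) :
    i ≤ m ∧ 2 * (m % i) ≤ (2 * d) % c ∧ (Odd i ∨ (r - 1) / i + 2 * (m / i) ≤ (2 * d) / i) := by
  have hcpos : 0 < c' := by split_ifs at hc <;> omega
  have hcl : c ∣ 2 * l := by
    split_ifs at hc with he
    · rw [hc]; exact hl
    · rw [hc]
      exact mul_dvd_mul_left 2 ((Nat.not_even_iff_odd.1 he).coprime_two_right.dvd_of_dvd_mul_left hl)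
  have hcl' : c' ∣ l := Nat.dvd_of_mul_dvd_mul_left two_pos (by rwa [hc'])
  have hul : l ≤ d / c' * c' := by
    obtain ⟨a, rfl⟩ := hcl'
    rw [mul_comm c' a]
    exact Nat.mul_le_mul_right _ ((Nat.le_div_iff_mul_le hcpos).2 (by rw [mul_comm]; exact hl2))
  have hmod : (2 * d) % c = 2 * (d % c') := by rw [← hc', Nat.mul_mod_mul_left]
  have hdd := Nat.div_add_mod d c'
  rw [mul_comm c'] at hdd
  obtain ⟨j, s, hjs, hj⟩ := H1 (d / c') (d % c')
    (Nat.div_pos ((Nat.le_of_dvd (by omega) hcl').trans hl2) hcpos) (by omega)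
  have him : i ≤ m := by
    by_contra hlt
    rcases Nat.eq_zero_or_pos s with rfl | hs
    · omega
    · have := Nat.le_mul_of_pos_left i hs
      omega
  have hres : 2 * (m % i) ≤ (2 * d) % c := by
    rw [hmod, hjs, Nat.add_mul_mod_self_right]
    have := Nat.mod_le j i
    omega
  refine ⟨him, hres, ?_⟩
  rcases Nat.even_or_odd i with he | ho
  swap
  · exact .inl ho
  refine .inr (le_of_not_gt fun hgt => ?_)
  have hci : c = i := by rw [hc, if_pos he]
  have hin : i ≤ 2 * d := by omega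
  set u := min ((r - 1) / i) ((2 * d) / i) with hu
  have hupos : 0 < u := lt_min (Nat.div_pos (Nat.le_of_dvd (Nat.sub_pos_of_lt hr) hir) hi)
    (Nat.div_pos hin hi)
  have hui : u * i ≤ r - 1 :=
    (Nat.mul_le_mul_right _ (min_le_left _ _)).trans (Nat.div_mul_le_self _ _)
  have hud : u * i ≤ 2 * d :=
    (Nat.mul_le_mul_right _ (min_le_right _ _)).trans (Nat.div_mul_le_self _ _)
  have huc : 2 * (u * c') = u * i := by rw [← hci, ← hc']; ring
  have hm := H2 he u (d - u * c') hupos hui (by omega)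
  have hm1 := Nat.div_mul_le_self m i
  rcases min_choice ((r - 1) / i) ((2 * d) / i) with hmin | hmin
  · rw [← hu] at hmin
    have : (u + 2 * (m / i)) * i ≤ 2 * d := by rw [add_mul, mul_assoc]; omega
    have := (Nat.le_div_iff_mul_le hi).2 this
    omega
  · rw [← hu] at hmin
    have h1 := Nat.div_add_mod (2 * d) i
    have h2 := Nat.mod_lt (2 * d) hi
    rw [← hmin, mul_comm] at h1
    omega

end Cfsg.Agent.Elusive
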