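import Cfsg.Agent.Lib.Elusive.Witness
/-
Tools common to the elusiveness criteria.
* `HasInv B f m`       : an invariant totally isotropic subspace of dimension `m`
* `exists_unscale`     : an element with scalar odd power, divided by the scalar
* `exists_range_dim`   : the dimension of `range (y - 1)` is a multiple of `i`, doubly so for `i` odd
* `exists_iso0_range`  : isotropic invariant subspaces inside `range (y - 1)`
* `exists_fix_part`    : what an invariant isotropic subspace leaves in the fixed space
-/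

set_option autoImplicit false
set_option linter.unusedSectionVars false
set_option linter.style.haveILetI false

namespace Cfsg.Agent.Elusive

open Module
open Cfsg.Agent.PrimeGraphBC (IsSymF isoMon prodForm prodForm_apply)
open Cfsg.Agent.PrimeOrderElt (Inv inv_apply fix mem_fix inv_fix inv_inf inv_sup invariant_iff_smul
  orderOf_card_pos exists_dims)

variable {F : Type*} [Field F] {V : Type*} [AddCommGroup V] [Module F V]

/-- An invariant totally isotropic subspace of dimension `m`. -/
def HasInv (B : LinearMap.BilinForm F V) (f : Module.End F V) (m : ℕ) : Prop :=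
  ∃ W : Submodule F V, finrank F W = m ∧ Iso0 B W ∧ Inv f W

theorem iso0_bot (B : LinearMap.BilinForm F V) : Iso0 B (⊥ : Submodule F V) := fun u hu v _ => by
  rw [(Submodule.mem_bot F).1 hu, map_zero, LinearMap.zero_apply]

theorem inv_of_le_fix {y : Module.End F V} {W : Submodule F V} (h : W ≤ fix y) : Inv y W := by
  rintro _ ⟨v, hv, rfl⟩
  rwa [mem_fix.1 (h hv)]

theorem exists_le_finrank [FiniteDimensional F V] (W : Submodule F V) {m : ℕ} (hm : m ≤ finrank F W) :
    ∃ U : Submodule F V, U ≤ W ∧ finrank F U = m := by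
  let b := Module.finBasis F W
  refine ⟨Submodule.span F (Set.range fun i : Fin m => ((b (Fin.castLE hm i) : W) : V)),
    Submodule.span_le.2 (by rintro _ ⟨i, rfl⟩; exact Subtype.coe_prop _), ?_⟩
  exact (finrank_span_eq_card ((b.linearIndependent.comp _ (Fin.castLE_injective hm)).map' W.subtype
    (Submodule.ker_subtype W))).trans (Fintype.card_fin m)

variable {ε : F} {B : LinearMap.BilinForm F V} {y : Module.End F V} {r : ℕ}

theorem sq_eq_one_of_scalar [Nontrivial V] (hB : IsSymF ε B) {f : Module.End F V} (hf : f ∈ isoMon B)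
    {z : F} (hz : f = z • (1 : Module.End F V)) : z * z = 1 := by
  obtain ⟨v, hv⟩ := exists_ne (0 : V)
  obtain ⟨w, hw⟩ : ∃ w, B v w ≠ 0 := by
    by_contra h
    push Not at h
    exact hv (hB.nd v h)
  have := hf v w
  rw [hz] at this
  simp only [LinearMap.smul_apply, Module.End.one_apply, map_smul, LinearMap.smul_apply, smul_eq_mul] at this
  rw [← mul_assoc] at this
  exact (mul_eq_right₀ hw).1 this

/-- Divide an element with scalar odd power by the scalar. -/
theorem exists_unscale [Nontrivial V] (hB : IsSymF ε B) {f : Module.End F V} (hf : f ∈ isoMon B)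
    (hr : Odd r) (hrF : (r : F) ≠ 0) {z : F} (hfr : f ^ r = z • (1 : Module.End F V))
    (hns : ∀ c : F, f ≠ c • (1 : Module.End F V)) :
    ∃ y : Module.End F V, Isom ε B y r ∧ y ≠ 1 ∧ ∀ W : Submodule F V, Inv y W → Inv f W := by
  have hz : z * z = 1 := sq_eq_one_of_scalar hB ((isoMon B).pow_mem hf r) hfr
  obtain ⟨k, hk⟩ := hr
  refine ⟨z • f, ⟨hB, fun u v => ?_, ?_, by omega, hrF⟩, fun h => hns z ?_, fun W hW => ?_⟩
  · simp only [LinearMap.smul_apply, map_smul, smul_eq_mul]
    rw [← mul_assoc, hz, one_mul, hf]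
  · rw [_root_.smul_pow, hfr, smul_smul, hk, pow_succ, mul_assoc, pow_mul, pow_two, hz, one_pow,
      one_mul, one_smul]
  · rw [← h, smul_smul, hz, one_smul]
  · exact (invariant_iff_smul f (fun h0 => one_ne_zero (α := F) (by rw [← hz, h0, zero_mul])) W).1 hW

/-- An isometry of odd order dividing `r` is scalar only if trivial. -/
theorem Isom.ne_scalar [Nontrivial V] (h : Isom ε B y r) (hr : Odd r) (hy : y ≠ 1) (z : F) :
    y ≠ z • (1 : Module.End F V) := by
  intro hz
  have h2 := sq_eq_one_of_scalar h.sym h.iso hz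
  obtain ⟨k, hk⟩ := hr
  refine hy ?_
  have hp := h.pow
  rw [hz, _root_.smul_pow, one_pow, hk, pow_succ, pow_mul, pow_two, h2, one_pow, one_mul] at hp
  rw [hz, hp]

theorem range_ne_bot (hy : y ≠ 1) : LinearMap.range (y - 1) ≠ ⊥ := by
  rw [Ne, LinearMap.range_eq_bot, sub_eq_zero]
  exact hy

section Sum

variable [FiniteDimensional F V]

/-- Join an isotropic piece of the fixed space and one of `range (y - 1)`. -/
theorem hasInv_sup (h : Isom ε B y r) {U W : Submodule F V} (hU : U ≤ fix y) (hUB : Iso0 B U)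
    (hW : W ≤ LinearMap.range (y - 1)) (hWi : Inv y W) (hWB : Iso0 B W) :
    HasInv B y (finrank F U + finrank F W) := by
  refine ⟨U ⊔ W, ?_, hUB.sup h.sym hWB ?_, inv_sup (inv_of_le_fix hU) hWi⟩
  · have := Submodule.finrank_sup_add_finrank_inf_eq U W
    rw [show U ⊓ W = ⊥ from le_bot_iff.1 ((inf_le_inf hU hW).trans h.fix_inf_range.le), finrank_bot] at this
    omega
  · exact hW.trans (h.range_le_orth_fix.trans fun v hv s hs => hv s (hU hs))

variable [Fintype F] [Fact r.Prime]

theorem exists_range_dim (h : Isom ε B y r) :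
    ∃ N, finrank F ↥(LinearMap.range (y - 1)) = N * orderOf (Fintype.card F : ZMod r) := by
  obtain ⟨N, hN, -⟩ := exists_dims h.rF h.pow (Isom.inv_range y)
  rw [inf_comm, h.fix_inf_range, finrank_bot, zero_add] at hN
  exact ⟨N, hN⟩

/-- Isotropic invariant subspaces of `range (y - 1)`. -/
theorem exists_iso0_range (h : Isom ε B y r) (hr2 : r ≠ 2) {N k : ℕ}
    (hN : finrank F ↥(LinearMap.range (y - 1)) = N * orderOf (Fintype.card F : ZMod r))
    (hk : k = 0 ∨ 2 * k + tPrime r (orderOf (Fintype.card F : ZMod r)) ≤ N + 1) :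
    ∃ W : Submodule F V, W ≤ LinearMap.range (y - 1) ∧ Inv y W ∧ Iso0 B W ∧
      finrank F W = k * orderOf (Fintype.card F : ZMod r) :=
  exists_iso0 h hr2 k N _ (Isom.inv_range y) h.ndOn_range
    (by rw [inf_comm, h.fix_inf_range]) hN hk

/-- For `i` odd the pieces of `range (y - 1)` come in pairs. -/
theorem even_of_odd (h : Isom ε B y r) (hr2 : r ≠ 2) {N : ℕ}
    (hodd : Odd (orderOf (Fintype.card F : ZMod r)))
    (hN : finrank F ↥(LinearMap.range (y - 1)) = N * orderOf (Fintype.card F : ZMod r)) : Even N := by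
  obtain ⟨W, hWX, -, hW, hWd⟩ := exists_iso0_range h hr2 hN (k := (N + 1) / 2)
    (.inr (by rw [tPrime, if_pos hodd]; omega))
  have h2 := finrank_le_half h.sym h.ndOn_range hWX hW
  rw [hWd, hN, ← mul_assoc] at h2
  have := Nat.le_of_mul_le_mul_right h2 (orderOf_card_pos h.rF)
  rw [Nat.even_iff]
  omega

/-- What an invariant isotropic subspace leaves in the fixed space. -/
theorem exists_fix_part (h : Isom ε B y r) {W : Submodule F V} (hW : Inv y W) (hWB : Iso0 B W) :
    ∃ j s, finrank F ↥(W ⊓ fix y) = j ∧ finrank F W = j + s * orderOf (Fintype.card F : ZMod r) ∧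
      2 * j ≤ finrank F ↥(fix y) := by
  obtain ⟨s, hs, -⟩ := exists_dims h.rF h.pow hW
  exact ⟨_, s, rfl, hs, finrank_le_half h.sym h.ndOn_fix inf_le_right (hWB.mono inf_le_left)⟩

end Sum

end Cfsg.Agent.Elusive
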