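import Cfsg.Agent.Lib.PrimeGraphBC.Base
import Cfsg.Agent.Lib.PrimeOrderElt.Semisimple
/-
Invariant subspaces of an isometry of prime order prime to the characteristic.
* `Isom ε B y r`    : `y` preserves the non-degenerate form `B` of symmetry `ε` and `y^r = 1`
* `orth`, `NdOn`    : orthogonal subspace, non-degeneracy on a subspace, dimension formula
* `orth_fix`, `ndOn_fix`, `ndOn_range` : `V = fix ⊥ range (y - 1)`
* `hyperbolic_step` : splitting off an invariant totally isotropic subspace with a partner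
-/

set_option autoImplicit false
set_option linter.unusedSectionVars false
set_option linter.style.haveILetI false

namespace Cfsg.Agent.Elusive

open Module
open Cfsg.Agent.PrimeGraphBC (IsSymF isoMon)
open Cfsg.Agent.PrimeOrderElt (Inv inv_apply fix mem_fix inv_fix inv_inf inv_sup exists_invariant_complement)

variable {F : Type*} [Field F] {V : Type*} [AddCommGroup V] [Module F V]

/-- An isometry of order dividing `r`, `r` invertible in the field. -/
structure Isom (ε : F) (B : LinearMap.BilinForm F V) (y : Module.End F V) (r : ℕ) : Prop where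
  sym : IsSymF ε B
  iso : y ∈ isoMon B
  pow : y ^ r = 1
  pos : 0 < r
  rF : (r : F) ≠ 0

/-- Totally isotropic subspace. -/
def Iso0 (B : LinearMap.BilinForm F V) (W : Submodule F V) : Prop := ∀ u ∈ W, ∀ v ∈ W, B u v = 0

/-- Non-degeneracy on a subspace. -/
def NdOn (B : LinearMap.BilinForm F V) (X : Submodule F V) : Prop :=
  ∀ x ∈ X, (∀ z ∈ X, B x z = 0) → x = 0

/-- The orthogonal subspace. -/
def orth (B : LinearMap.BilinForm F V) (S : Submodule F V) : Submodule F V where
  carrier := {v | ∀ s ∈ S, B s v = 0}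
  add_mem' {a b} ha hb := fun s hs => by rw [map_add, ha s hs, hb s hs, add_zero]
  zero_mem' := fun s _ => map_zero _
  smul_mem' c a ha := fun s hs => by rw [map_smul, ha s hs, smul_zero]

theorem mem_orth {B : LinearMap.BilinForm F V} {S : Submodule F V} {v : V} :
    v ∈ orth B S ↔ ∀ s ∈ S, B s v = 0 := Iff.rfl

theorem iso0_iff_le_orth {B : LinearMap.BilinForm F V} {W : Submodule F V} :
    Iso0 B W ↔ W ≤ orth B W := ⟨fun h v hv u hu => h u hu v hv, fun h u hu _ hv => h hv u hu⟩

theorem Iso0.mono {B : LinearMap.BilinForm F V} {W W' : Submodule F V} (h : Iso0 B W) (hle : W' ≤ W) :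
    Iso0 B W' := fun u hu v hv => h u (hle hu) v (hle hv)

section Sym

variable {ε : F} {B : LinearMap.BilinForm F V}

theorem symm_zero (hB : IsSymF ε B) {u v : V} (h : B u v = 0) : B v u = 0 := by
  rw [hB.sym, h, mul_zero]

theorem mem_orth' (hB : IsSymF ε B) {S : Submodule F V} {v : V} :
    v ∈ orth B S ↔ ∀ s ∈ S, B v s = 0 :=
  ⟨fun h s hs => symm_zero hB (h s hs), fun h s hs => symm_zero hB (h s hs)⟩

theorem Iso0.sup (hB : IsSymF ε B) {W W' : Submodule F V} (h : Iso0 B W) (h' : Iso0 B W')
    (ho : W' ≤ orth B W) : Iso0 B (W ⊔ W') := by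
  intro u hu v hv
  obtain ⟨a, ha, a', ha', rfl⟩ := Submodule.mem_sup.1 hu
  obtain ⟨b, hb, b', hb', rfl⟩ := Submodule.mem_sup.1 hv
  simp only [map_add, LinearMap.add_apply]
  rw [h a ha b hb, h' a' ha' b' hb', ho hb' a ha, symm_zero hB (ho ha' b hb)]
  simp

variable [FiniteDimensional F V]

theorem finrank_orth (hB : IsSymF ε B) (S : Submodule F V) :
    finrank F (orth B S) + finrank F S = finrank F V := by
  let L : V →ₗ[F] Module.Dual F S := B.flip.compr₂ (LinearMap.id : F →ₗ[F] F) |>.compl₂ S.subtype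
  have hL : ∀ v (s : S), L v s = B (s : V) v := fun v s => rfl
  have hker : LinearMap.ker L = orth B S := by
    ext v
    rw [LinearMap.mem_ker, mem_orth]
    exact ⟨fun h s hs => by rw [← hL v ⟨s, hs⟩, h]; rfl, fun h => LinearMap.ext fun s => h s s.2⟩
  have hs : Function.Surjective L := by
    rw [← LinearMap.dualMap_injective_iff, injective_iff_map_eq_zero]
    intro Φ hΦ
    obtain ⟨s, rfl⟩ := (Module.evalEquiv F S).surjective Φ
    have : (s : V) = 0 := hB.nd _ fun v => by
      have := LinearMap.congr_fun hΦ v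
      simpa [hL] using this
    rw [show s = 0 from Subtype.ext this, map_zero]
  have h := LinearMap.finrank_range_add_finrank_ker L
  rw [hker, LinearMap.range_eq_top.2 hs, finrank_top, Subspace.dual_finrank_eq] at h
  omega

theorem NdOn.disjoint (hB : IsSymF ε B) {X : Submodule F V} (hX : NdOn B X) :
    X ⊓ orth B X = ⊥ :=
  eq_bot_iff.2 fun x hx => (Submodule.mem_bot F).2
    (hX x hx.1 fun z hz => symm_zero hB (hx.2 z hz))

theorem NdOn.sup_orth (hB : IsSymF ε B) {X : Submodule F V} (hX : NdOn B X) :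
    X ⊔ orth B X = ⊤ := by
  refine Submodule.eq_top_of_finrank_eq ?_
  have h := Submodule.finrank_sup_add_finrank_inf_eq X (orth B X)
  rw [hX.disjoint hB, finrank_bot] at h
  have := finrank_orth hB X
  omega

/-- Relative dimension formula. -/
theorem finrank_inf_orth (hB : IsSymF ε B) {X : Submodule F V} (hX : NdOn B X) {S : Submodule F V}
    (hSX : S ≤ X) : finrank F ↥(X ⊓ orth B S) + finrank F S = finrank F X := by
  have h := Submodule.finrank_sup_add_finrank_inf_eq X (orth B S)
  have htop : X ⊔ orth B S = ⊤ := by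
    rw [eq_top_iff, ← hX.sup_orth hB]
    exact sup_le_sup_left (fun v hv s hs => hv s (hSX hs)) X
  rw [htop, finrank_top] at h
  have := finrank_orth hB S
  omega

/-- The orthogonal complement of a non-degenerate subspace inside another one. -/
theorem ndOn_inf_orth (hB : IsSymF ε B) {X H : Submodule F V} (hX : NdOn B X) (hH : NdOn B H)
    (hHX : H ≤ X) : NdOn B (X ⊓ orth B H) := by
  intro x hx hx0
  refine hX x hx.1 fun z hz => ?_
  have hz' : z ∈ H ⊔ orth B H := by rw [hH.sup_orth hB]; exact Submodule.mem_top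
  obtain ⟨a, ha, b, hb, rfl⟩ := Submodule.mem_sup.1 hz'
  rw [map_add, symm_zero hB (hx.2 a ha), zero_add]
  exact hx0 b ⟨by simpa using X.sub_mem hz (hHX ha), hb⟩

theorem finrank_le_half (hB : IsSymF ε B) {X W : Submodule F V} (hX : NdOn B X) (hWX : W ≤ X)
    (hW : Iso0 B W) : 2 * finrank F W ≤ finrank F X := by
  have h := finrank_inf_orth hB hX hWX
  have := Submodule.finrank_mono (le_inf hWX (iso0_iff_le_orth.1 hW))
  omega

end Sym

namespace Isom

variable {ε : F} {B : LinearMap.BilinForm F V} {y : Module.End F V} {r : ℕ}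

theorem apply_pred (h : Isom ε B y r) (v : V) : y ((y ^ (r - 1)) v) = v := by
  rw [← Module.End.mul_apply, ← pow_succ', Nat.sub_add_cancel h.pos, h.pow, Module.End.one_apply]

theorem inv_pow {W : Submodule F V} (hW : Inv y W) : ∀ (k : ℕ), ∀ v ∈ W, (y ^ k) v ∈ W := by
  intro k
  induction k with
  | zero => intro v hv; simpa using hv
  | succ k ih => intro v hv; rw [pow_succ', Module.End.mul_apply]; exact inv_apply hW (ih v hv)

theorem inv_orth (h : Isom ε B y r) {S : Submodule F V} (hS : Inv y S) : Inv y (orth B S) := by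
  rintro _ ⟨v, hv, rfl⟩
  intro s hs
  rw [← h.apply_pred s, h.iso]
  exact hv _ (inv_pow hS _ s hs)

variable [FiniteDimensional F V]

theorem fix_inf_range (h : Isom ε B y r) : fix y ⊓ LinearMap.range (y - 1) = ⊥ := by
  rw [eq_bot_iff]
  rintro v ⟨hv, x, rfl⟩
  rw [Submodule.mem_bot]
  set w := (y - 1) x with hw
  have hyx : y x = x + w := by rw [hw]; simp
  have hj : ∀ j : ℕ, (y ^ j) x = x + (j : F) • w := by
    intro j
    induction j with
    | zero => simp
    | succ j ih =>
      rw [pow_succ', Module.End.mul_apply, ih, map_add, map_smul, mem_fix.1 hv, hyx, Nat.cast_succ,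
        add_smul, one_smul]
      abel
  have := hj r
  rw [h.pow, Module.End.one_apply, left_eq_add] at this
  exact (smul_eq_zero.1 this).resolve_left h.rF

theorem inv_range (y : Module.End F V) : Inv y (LinearMap.range (y - 1)) := by
  rintro _ ⟨_, ⟨x, rfl⟩, rfl⟩
  exact ⟨y x, by simp⟩

theorem range_le_orth_fix (h : Isom ε B y r) : LinearMap.range (y - 1) ≤ orth B (fix y) := by
  rintro _ ⟨x, rfl⟩ s hs
  have := h.iso s x
  rw [mem_fix.1 hs] at this
  simp [map_sub, this]

theorem fix_sup_range (h : Isom ε B y r) : fix y ⊔ LinearMap.range (y - 1) = ⊤ := by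
  refine Submodule.eq_top_of_finrank_eq ?_
  have h1 := Submodule.finrank_sup_add_finrank_inf_eq (fix y) (LinearMap.range (y - 1))
  rw [h.fix_inf_range, finrank_bot] at h1
  have h2 : finrank F ↥(LinearMap.range (y - 1)) + finrank F ↥(fix y) = finrank F V :=
    LinearMap.finrank_range_add_finrank_ker (y - 1)
  omega

theorem finrank_fix_add_range (h : Isom ε B y r) :
    finrank F ↥(fix y) + finrank F ↥(LinearMap.range (y - 1)) = finrank F V := by
  have h2 : finrank F ↥(LinearMap.range (y - 1)) + finrank F ↥(fix y) = finrank F V :=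
    LinearMap.finrank_range_add_finrank_ker (y - 1)
  omega

theorem ndOn_fix (h : Isom ε B y r) : NdOn B (fix y) := fun x hx hx0 => h.sym.nd x fun z => by
  have hz : z ∈ fix y ⊔ LinearMap.range (y - 1) := by rw [h.fix_sup_range]; exact Submodule.mem_top
  obtain ⟨a, ha, b, hb, rfl⟩ := Submodule.mem_sup.1 hz
  rw [map_add, hx0 a ha, h.range_le_orth_fix hb x hx, add_zero]

theorem ndOn_range (h : Isom ε B y r) : NdOn B (LinearMap.range (y - 1)) := fun x hx hx0 =>
  h.sym.nd x fun z => by
    have hz : z ∈ fix y ⊔ LinearMap.range (y - 1) := by rw [h.fix_sup_range]; exact Submodule.mem_top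
    obtain ⟨a, ha, b, hb, rfl⟩ := Submodule.mem_sup.1 hz
    rw [map_add, hx0 b hb, symm_zero h.sym (h.range_le_orth_fix hx a ha), add_zero]

/-- A totally isotropic invariant subspace spans, with a partner, a non-degenerate invariant
subspace; the rest of `X` is orthogonal to both. -/
theorem hyperbolic_step (h : Isom ε B y r) {X S : Submodule F V} (hXi : Inv y X) (hX : NdOn B X)
    (hSi : Inv y S) (hSX : S ≤ X) (hS : Iso0 B S) :
    ∃ R : Submodule F V, Inv y R ∧ R ≤ X ∧ NdOn B R ∧
      finrank F R + 2 * finrank F S = finrank F X ∧ R ≤ orth B S ∧ R ⊓ S = ⊥ := by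
  have hB := h.sym
  set T := X ⊓ orth B S with hT
  obtain ⟨S', hS'i, hS'X, hTS', hTS'X⟩ := exists_invariant_complement h.rF one_ne_zero
    (by rw [one_smul, h.pow]) hXi (inv_inf hXi (h.inv_orth hSi)) (inf_le_left : T ≤ X)
  have hST : S ≤ T := le_inf hSX (iso0_iff_le_orth.1 hS)
  have hd := Submodule.finrank_sup_add_finrank_inf_eq T S'
  rw [hTS'X, hTS', finrank_bot] at hd
  have hTd : finrank F T + finrank F S = finrank F X := finrank_inf_orth hB hX hSX
  set H := S ⊔ S' with hH
  have hHX : H ≤ X := sup_le hSX hS'X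
  have hdis : S ⊓ S' = ⊥ := le_bot_iff.1 ((inf_le_inf_right S' hST).trans hTS'.le)
  have hHd := Submodule.finrank_sup_add_finrank_inf_eq S S'
  rw [hdis, finrank_bot, ← hH] at hHd
  have hHnd : NdOn B H := by
    intro v hv hv0
    obtain ⟨s, hs, s', hs', rfl⟩ := Submodule.mem_sup.1 hv
    have hs'0 : s' = 0 := by
      have hmem : s' ∈ T ⊓ S' := by
        refine ⟨⟨hS'X hs', fun t ht => symm_zero hB ?_⟩, hs'⟩
        have := hv0 t (Submodule.mem_sup_left ht)
        rwa [map_add, LinearMap.add_apply, hS s hs t ht, zero_add] at this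
      rwa [hTS', Submodule.mem_bot] at hmem
    subst hs'0
    rw [add_zero] at hv0 ⊢
    refine hX s (hSX hs) fun z hz => ?_
    rw [← hTS'X] at hz
    obtain ⟨t, ht, t', ht', rfl⟩ := Submodule.mem_sup.1 hz
    rw [map_add, hv0 t' (Submodule.mem_sup_right ht'), ht.2 s hs, add_zero]
  refine ⟨X ⊓ orth B H, inv_inf hXi (h.inv_orth (inv_sup hSi hS'i)), inf_le_left,
    ndOn_inf_orth hB hX hHnd hHX, ?_, fun v hv s hs => hv.2 s (Submodule.mem_sup_left hs), ?_⟩
  · have := finrank_inf_orth hB hX hHX
    omega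
  · refine le_bot_iff.1 fun v hv => ?_
    rw [Submodule.mem_bot]
    exact hHnd v (Submodule.mem_sup_left hv.2) fun z hz => symm_zero hB (hv.1.2 z hz)

end Isom

end Cfsg.Agent.Elusive
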