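import Cfsg.Agent.Lib.Elusive.Geo
import Mathlib.RingTheory.AdjoinRoot
import Mathlib.FieldTheory.Finite.Basic
/-
Invariant totally isotropic subspaces of an isometry of prime order.
* `exists_type`        : the polynomial of a minimal invariant subspace
* `act`, `adj`         : the action of `F[X]/(f)` on the kernel of `f(y)`, its adjoint
* `pair_isotropic`     : two orthogonal pieces of the same type give an isotropic one
* `exists_isotropic`   : an invariant non-degenerate `X` with more than `t'` pieces has an isotropic one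
* `exists_iso0`        : invariant totally isotropic subspaces of dimension `k * i` for `2k + t' ≤ N + 1`
-/

set_option autoImplicit false
set_option linter.unusedSectionVars false
set_option linter.style.haveILetI false

namespace Cfsg.Agent.Elusive

open Polynomial Module
open Cfsg.Agent.PrimeGraphBC (IsSymF isoMon)
open Cfsg.Agent.PrimeOrderElt (Inv inv_apply fix mem_fix inv_fix inv_inf inv_sup exists_minimal_invariant
  finrank_simple orderOf_card_pos natCast_ne_zero dvd_pow_sub_one_iff)

variable {F : Type*} [Field F] [Fintype F] {V : Type*} [AddCommGroup V] [Module F V] {r : ℕ} [Fact r.Prime]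

/-- `1 + X + ⋯ + X^(r-1)`. -/
noncomputable def cyc (F : Type*) [Field F] (r : ℕ) : F[X] := ∑ j ∈ Finset.range r, X ^ j

/-- The number of types: `(r-1)/i` for `i` even, none for `i` odd. -/
def tPrime (r i : ℕ) : ℕ := if Odd i then 0 else (r - 1) / i

/-- A monic irreducible factor of `1 + X + ⋯ + X^(r-1)` of degree `i`. -/
structure IsType (r : ℕ) (f : F[X]) : Prop where
  monic : f.Monic
  irred : Irreducible f
  deg : f.natDegree = orderOf (Fintype.card F : ZMod r)
  dvd : f ∣ cyc F r

/-- Equality of powers of an element of order `r` in a field. -/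
theorem pow_eq_iff {K : Type*} [Field K] {ζ : K} (hζ : orderOf ζ = r) {a b : ℕ} :
    ζ ^ a = ζ ^ b ↔ (a : ZMod r) = b := by
  have h0 : ζ ≠ 0 := fun h => by
    rw [h, orderOf_zero] at hζ
    exact (Fact.out : r.Prime).ne_zero hζ.symm
  have hu : orderOf (Units.mk0 ζ h0) = r := by rw [← orderOf_units, Units.val_mk0, hζ]
  rw [ZMod.natCast_eq_natCast_iff, ← hu, ← pow_eq_pow_iff_modEq, Units.ext_iff]
  push_cast
  rfl

section Roots

variable {f : F[X]}

theorem IsType.root_pow (h : IsType r f) : AdjoinRoot.root f ^ r = 1 := by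
  obtain ⟨g, hg⟩ := h.dvd
  have h0 : AdjoinRoot.mk f (cyc F r) = 0 := by rw [hg, map_mul, AdjoinRoot.mk_self, zero_mul]
  have h1 := congrArg (AdjoinRoot.mk f) (geom_sum_mul (X : F[X]) r)
  rw [map_mul, show (∑ j ∈ Finset.range r, (X : F[X]) ^ j) = cyc F r from rfl, h0, zero_mul, map_sub,
    map_pow, AdjoinRoot.mk_X, map_one] at h1
  exact sub_eq_zero.1 h1.symm

theorem IsType.orderOf_root (h : IsType r f) (hr : (r : F) ≠ 0) :
    orderOf (AdjoinRoot.root f) = r := by
  haveI := Fact.mk h.irred
  refine orderOf_eq_prime h.root_pow fun h1 => ?_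
  obtain ⟨g, hg⟩ := h.dvd
  have h0 : AdjoinRoot.mk f (cyc F r) = 0 := by rw [hg, map_mul, AdjoinRoot.mk_self, zero_mul]
  rw [cyc, map_sum] at h0
  simp only [map_pow, AdjoinRoot.mk_X, h1, one_pow, Finset.sum_const, Finset.card_range,
    nsmul_eq_mul, mul_one] at h0
  rw [← map_natCast (algebraMap F (AdjoinRoot f)), map_eq_zero] at h0
  exact hr h0

/-- The Frobenius powers of `AdjoinRoot f`. -/
theorem exists_frob (f : F[X]) (j : ℕ) :
    ∃ σ : AdjoinRoot f →ₐ[F] AdjoinRoot f, ∀ x, σ x = x ^ Fintype.card F ^ j := by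
  induction j with
  | zero => exact ⟨AlgHom.id F _, fun x => by simp⟩
  | succ j ih =>
    obtain ⟨σ, hσ⟩ := ih
    refine ⟨(FiniteField.frobeniusAlgHom F (AdjoinRoot f)).comp σ, fun x => ?_⟩
    rw [AlgHom.comp_apply, FiniteField.coe_frobeniusAlgHom, hσ, pow_succ, pow_mul]

/-- The roots of a type in its field are the Frobenius powers of the root. -/
theorem IsType.root_eq (h : IsType r f) (hr : (r : F) ≠ 0) {ρ : AdjoinRoot f}
    (hρ : aeval ρ f = 0) :
    ∃ s, ρ = AdjoinRoot.root f ^ (Fintype.card F ^ s) := by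
  classical
  haveI := Fact.mk h.irred
  set i := orderOf (Fintype.card F : ZMod r) with hi
  by_contra hcon
  push Not at hcon
  set ζ := AdjoinRoot.root f
  let S : Finset (AdjoinRoot f) := insert ρ ((Finset.range i).image fun s => ζ ^ Fintype.card F ^ s)
  have hmem : ρ ∉ (Finset.range i).image fun s => ζ ^ Fintype.card F ^ s := by
    simp only [Finset.mem_image, not_exists, not_and]
    exact fun s _ e => hcon s e.symm
  have hinj : Set.InjOn (fun s => ζ ^ Fintype.card F ^ s) (Finset.range i) := by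
    intro a ha b hb hab
    simp only at hab
    rw [pow_eq_iff (h.orderOf_root hr)] at hab
    push_cast at hab
    exact pow_injOn_Iio_orderOf (Finset.mem_range.1 ha) (Finset.mem_range.1 hb) hab
  have hf0 : f.map (algebraMap F (AdjoinRoot f)) ≠ 0 := (Monic.map _ h.monic).ne_zero
  have hle := Polynomial.card_le_degree_of_subset_roots (p := f.map (algebraMap F (AdjoinRoot f)))
    (Z := S) fun x hx => by
      rw [Polynomial.mem_roots hf0, IsRoot, eval_map, ← aeval_def]
      rcases Finset.mem_insert.1 (show x ∈ S from hx) with rfl | hx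
      · exact hρ
      · obtain ⟨s, -, rfl⟩ := Finset.mem_image.1 hx
        obtain ⟨σ, hσ⟩ := exists_frob f s
        rw [← hσ, Polynomial.aeval_algHom_apply, AdjoinRoot.aeval_eq, AdjoinRoot.mk_self, map_zero]
  rw [Polynomial.natDegree_map, h.deg, Finset.card_insert_of_notMem hmem,
    Finset.card_image_of_injOn hinj, Finset.card_range] at hle
  omega

/-- For `i` even, `q^(i/2)` inverts the elements of order `r`. -/
theorem half_pow (hr : (r : F) ≠ 0) (he : Even (orderOf (Fintype.card F : ZMod r))) :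
    (Fintype.card F : ZMod r) ^ (orderOf (Fintype.card F : ZMod r) / 2) = -1 := by
  set i := orderOf (Fintype.card F : ZMod r) with hi
  obtain ⟨j, hj⟩ := he
  have hpos : 0 < i := orderOf_card_pos hr
  have h1 : ((Fintype.card F : ZMod r) ^ (i / 2)) * (Fintype.card F : ZMod r) ^ (i / 2) = 1 := by
    rw [← pow_add, show i / 2 + i / 2 = i by omega, hi, pow_orderOf_eq_one]
  refine (mul_self_eq_one_iff.1 h1).resolve_left fun h => ?_
  have := Nat.le_of_dvd (by omega) (orderOf_dvd_of_pow_eq_one h)
  omega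

theorem IsType.root_half (h : IsType r f) (hr : (r : F) ≠ 0)
    (he : Even (orderOf (Fintype.card F : ZMod r))) :
    AdjoinRoot.root f ^ (Fintype.card F ^ (orderOf (Fintype.card F : ZMod r) / 2)) =
      AdjoinRoot.root f ^ (r - 1) := by
  haveI := Fact.mk h.irred
  rw [pow_eq_iff (h.orderOf_root hr)]
  push_cast [Nat.cast_sub (Fact.out : r.Prime).one_le]
  rw [half_pow hr he, ZMod.natCast_self, zero_sub]

end Roots

section Action

variable {ε : F} {B : LinearMap.BilinForm F V} {y : Module.End F V}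

theorem adj_poly (h : Isom ε B y r) (P : F[X]) :
    ∀ u v, B (aeval (y ^ (r - 1)) P u) v = B u (aeval y P v) := by
  induction P using Polynomial.induction_on' with
  | add P Q hP hQ => intro u v; simp [hP, hQ]
  | monomial n c =>
    intro u v
    have hpow : ∀ (n : ℕ) u v, B (((y ^ (r - 1)) ^ n) u) v = B u ((y ^ n) v) := by
      intro n
      induction n with
      | zero => intro u v; rfl
      | succ n ih =>
        intro u v
        have h1 : B (((y ^ (r - 1)) ^ (n + 1)) u) v = B (((y ^ (r - 1)) ^ n) u) (y v) := by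
          rw [pow_succ', Module.End.mul_apply, ← h.iso ((y ^ (r - 1)) (((y ^ (r - 1)) ^ n) u)) v,
            h.apply_pred]
        rw [h1, ih, pow_succ, Module.End.mul_apply]
    simp only [aeval_monomial, Module.End.mul_apply, Module.algebraMap_end_apply, map_smul,
      LinearMap.smul_apply, hpow]

theorem aeval_mem {X : Submodule F V} (hX : Inv y X) (P : F[X]) :
    ∀ v ∈ X, aeval y P v ∈ X := by
  induction P using Polynomial.induction_on' with
  | add P Q hP hQ => intro v hv; simp only [map_add, LinearMap.add_apply]; exact X.add_mem (hP v hv) (hQ v hv)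
  | monomial n c =>
    intro v hv
    simp only [aeval_monomial, Module.End.mul_apply, Module.algebraMap_end_apply]
    exact X.smul_mem _ (Isom.inv_pow hX n v hv)

theorem ker_inv (y : Module.End F V) (f : F[X]) :
    ∀ v ∈ LinearMap.ker (aeval y f), y v ∈ LinearMap.ker (aeval y f) := by
  intro v hv
  rw [LinearMap.mem_ker] at hv ⊢
  have h := map_mul (aeval y) f X
  rw [mul_comm f X, map_mul, aeval_X] at h
  rw [← Module.End.mul_apply, ← h, Module.End.mul_apply, hv, map_zero]

/-- `y` on the kernel of `f(y)`. -/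
noncomputable def gen (y : Module.End F V) (f : F[X]) : Module.End F (LinearMap.ker (aeval y f)) :=
  y.restrict (ker_inv y f)

theorem gen_aeval_coe (y : Module.End F V) (f P : F[X]) :
    ∀ v : LinearMap.ker (aeval y f), ((aeval (gen y f) P v : LinearMap.ker (aeval y f)) : V) = aeval y P (v : V) := by
  induction P using Polynomial.induction_on' with
  | add P Q hP hQ => intro v; simp [hP, hQ]
  | monomial n c =>
    intro v
    have hpow : ∀ (n : ℕ) (v : LinearMap.ker (aeval y f)),
        (((gen y f) ^ n) v : V) = (y ^ n) (v : V) := by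
      intro n
      induction n with
      | zero => intro v; rfl
      | succ n ih =>
        intro v
        rw [pow_succ', pow_succ', Module.End.mul_apply, Module.End.mul_apply, gen,
          LinearMap.coe_restrict_apply, ← gen, ih]
    simp only [aeval_monomial, Module.End.mul_apply, Module.algebraMap_end_apply,
      Submodule.coe_smul, hpow]

/-- The action of `F[X]/(f)` on the kernel of `f(y)`. -/
noncomputable def act (y : Module.End F V) (f : F[X]) :
    AdjoinRoot f →ₐ[F] Module.End F (LinearMap.ker (aeval y f)) :=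
  Ideal.Quotient.liftₐ (Ideal.span {f}) (aeval (gen y f)) fun a ha => by
    obtain ⟨c, rfl⟩ := Ideal.mem_span_singleton.1 ha
    rw [mul_comm, map_mul]
    refine LinearMap.ext fun v => ?_
    rw [Module.End.mul_apply]
    have : aeval (gen y f) f v = 0 := Subtype.ext (by
      rw [gen_aeval_coe]; exact LinearMap.mem_ker.1 v.2)
    rw [this, map_zero]
    rfl

theorem act_mk (y : Module.End F V) (f P : F[X]) :
    act y f (AdjoinRoot.mk f P) = aeval (gen y f) P := rfl

theorem act_coe (y : Module.End F V) (f P : F[X]) (v : LinearMap.ker (aeval y f)) :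
    ((act y f (AdjoinRoot.mk f P) v : LinearMap.ker (aeval y f)) : V) = aeval y P (v : V) := by
  rw [act_mk, gen_aeval_coe]

theorem act_mem {f : F[X]} {X : Submodule F V} (hX : Inv y X) (γ : AdjoinRoot f)
    (v : LinearMap.ker (aeval y f)) (hv : (v : V) ∈ X) : ((act y f γ v : _) : V) ∈ X := by
  obtain ⟨P, rfl⟩ := AdjoinRoot.mk_surjective γ
  rw [act_coe]
  exact aeval_mem hX P _ hv

/-- The adjoint of the action is the conjugation. -/
theorem adj (h : Isom ε B y r) {f : F[X]} (hf : IsType r f)
    (he : Even (orderOf (Fintype.card F : ZMod r))) (γ : AdjoinRoot f) (u v : LinearMap.ker (aeval y f)) :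
    B ((act y f γ u : _) : V) (v : V) = B (u : V)
      ((act y f (γ ^ (Fintype.card F ^ (orderOf (Fintype.card F : ZMod r) / 2))) v : _) : V) := by
  obtain ⟨σ, hσ⟩ := exists_frob f (orderOf (Fintype.card F : ZMod r) / 2)
  obtain ⟨P, rfl⟩ := AdjoinRoot.mk_surjective γ
  have h1 : σ (AdjoinRoot.mk f P) = AdjoinRoot.mk f (P.comp (X ^ (r - 1))) := by
    rw [← AdjoinRoot.aeval_eq, ← AdjoinRoot.aeval_eq, ← Polynomial.aeval_algHom_apply, hσ,
      hf.root_half h.rF he, Polynomial.aeval_comp, map_pow, aeval_X]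
  rw [← hσ, h1, act_coe, act_coe, Polynomial.aeval_comp, map_pow, aeval_X]
  have h2 := adj_poly h P
  -- `h2` moves `P` to the right; apply it to the inverse operator
  have h3 : B (aeval y P (u : V)) (v : V) = B (u : V) (aeval (y ^ (r - 1)) P (v : V)) := by
    rw [h.sym.sym (v : V) (aeval y P (u : V)), h.sym.sym (aeval (y ^ (r - 1)) P (v : V)) (u : V), h2]
  exact h3

end Action

section Pair

variable {ε : F} {B : LinearMap.BilinForm F V} {y : Module.End F V}

/-- The orbit of a vector. -/
noncomputable def orbit (y : Module.End F V) (f : F[X]) (w : LinearMap.ker (aeval y f)) :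
    AdjoinRoot f →ₗ[F] V :=
  (LinearMap.ker (aeval y f)).subtype ∘ₗ (LinearMap.applyₗ w) ∘ₗ (act y f).toLinearMap

theorem orbit_apply (y : Module.End F V) (f : F[X]) (w : LinearMap.ker (aeval y f)) (γ : AdjoinRoot f) :
    orbit y f w γ = ((act y f γ w : _) : V) := rfl

theorem orbit_injective {f : F[X]} (hf : Irreducible f) {w : LinearMap.ker (aeval y f)} (hw : w ≠ 0) :
    Function.Injective (orbit y f w) := by
  haveI := Fact.mk hf
  rw [injective_iff_map_eq_zero]
  intro γ hγ
  by_contra h0
  refine hw ?_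
  have h := LinearMap.congr_fun (show act y f (γ⁻¹ * γ) = 1 by rw [inv_mul_cancel₀ h0, map_one]) w
  rw [map_mul, Module.End.mul_apply, Module.End.one_apply] at h
  rw [← h, show act y f γ w = 0 from Subtype.ext hγ, map_zero]

theorem inv_orbit (f : F[X]) (w : LinearMap.ker (aeval y f)) :
    Inv y (LinearMap.range (orbit y f w)) := by
  rintro _ ⟨_, ⟨γ, rfl⟩, rfl⟩
  refine ⟨AdjoinRoot.root f * γ, ?_⟩
  rw [orbit_apply, orbit_apply, map_mul, Module.End.mul_apply, ← AdjoinRoot.mk_X, act_coe, aeval_X]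

theorem orbit_le {f : F[X]} {X : Submodule F V} (hX : Inv y X) {w : LinearMap.ker (aeval y f)}
    (hw : (w : V) ∈ X) : LinearMap.range (orbit y f w) ≤ X := by
  rintro _ ⟨γ, rfl⟩
  exact act_mem hX γ w hw

theorem finrank_orbit {f : F[X]} (hf : IsType r f) {w : LinearMap.ker (aeval y f)} (hw : w ≠ 0) :
    finrank F ↥(LinearMap.range (orbit y f w)) = orderOf (Fintype.card F : ZMod r) := by
  rw [LinearMap.finrank_range_of_inj (orbit_injective hf.irred hw), (AdjoinRoot.powerBasis hf.irred.ne_zero).finrank,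
    AdjoinRoot.powerBasis_dim, hf.deg]

/-- Two orthogonal orbits of the same type give an isotropic one. -/
theorem pair_isotropic (h : Isom ε B y r) {f : F[X]} (hf : IsType r f)
    (he : Even (orderOf (Fintype.card F : ZMod r))) {X : Submodule F V} (hX : Inv y X)
    {w1 w2 : LinearMap.ker (aeval y f)} (hw1 : w1 ≠ 0) (hw2 : w2 ≠ 0)
    (h1X : (w1 : V) ∈ X) (h2X : (w2 : V) ∈ X)
    (hcross : ∀ γ, B (orbit y f w1 γ) (w2 : V) = 0) :
    ∃ S : Submodule F V, S ≤ X ∧ Inv y S ∧ Iso0 B S ∧
      finrank F S = orderOf (Fintype.card F : ZMod r) := by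
  classical
  haveI := Fact.mk hf.irred
  set i := orderOf (Fintype.card F : ZMod r) with hi
  set Q := Fintype.card F ^ (i / 2) with hQ
  have hipos : 0 < i := orderOf_card_pos h.rF
  haveI : Module.Finite F (AdjoinRoot f) := (AdjoinRoot.powerBasis hf.irred.ne_zero).finite
  haveI : Finite (AdjoinRoot f) := Module.finite_of_finite F
  haveI := Fintype.ofFinite (AdjoinRoot f)
  have hcard : Fintype.card (AdjoinRoot f) = Q * Q := by
    obtain ⟨j, hj⟩ := he
    rw [Module.card_eq_pow_finrank (K := F), (AdjoinRoot.powerBasis hf.irred.ne_zero).finrank,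
      AdjoinRoot.powerBasis_dim, hf.deg, hQ, ← pow_add, ← hi, show i / 2 + i / 2 = i by omega]
  obtain ⟨σ, hσ⟩ := exists_frob f (i / 2)
  have hQQ : ∀ γ : AdjoinRoot f, (γ ^ Q) ^ Q = γ := fun γ => by
    rw [← pow_mul, ← hcard, FiniteField.pow_card]
  have hadjr : ∀ (β : AdjoinRoot f) (u v : LinearMap.ker (aeval y f)),
      B (u : V) ((act y f β v : _) : V) = B ((act y f (β ^ Q) u : _) : V) (v : V) := fun β u v => by
    rw [adj h hf he (β ^ Q) u v, hQQ]
  -- every orbit on which the form vanishes is isotropic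
  have hiso : ∀ w : LinearMap.ker (aeval y f), w ≠ 0 → (w : V) ∈ X →
      (∀ γ, B (orbit y f w γ) (w : V) = 0) →
      ∃ S : Submodule F V, S ≤ X ∧ Inv y S ∧ Iso0 B S ∧ finrank F S = i := by
    intro w hw hwX h0
    refine ⟨LinearMap.range (orbit y f w), orbit_le hX hwX, inv_orbit f w, ?_, finrank_orbit hf hw⟩
    rintro _ ⟨a, rfl⟩ _ ⟨b, rfl⟩
    rw [orbit_apply, orbit_apply, hadjr, ← Module.End.mul_apply, ← map_mul]
    exact h0 _
  by_cases hn1 : ∀ γ, B (orbit y f w1 γ) (w1 : V) = 0
  · exact hiso w1 hw1 h1X hn1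
  by_cases hn2 : ∀ γ, B (orbit y f w2 γ) (w2 : V) = 0
  · exact hiso w2 hw2 h2X hn2
  push Not at hn1 hn2
  obtain ⟨γ2, hγ2⟩ := hn2
  let l1 : AdjoinRoot f →ₗ[F] F := (B.flip (w1 : V)) ∘ₗ orbit y f w1
  let l2 : AdjoinRoot f →ₗ[F] F := (B.flip (w2 : V)) ∘ₗ orbit y f w2
  let P : AdjoinRoot f →ₗ[F] Module.Dual F (AdjoinRoot f) :=
    (LinearMap.mul F (AdjoinRoot f)).compr₂ l2
  have hP : ∀ d g, P d g = l2 (d * g) := fun d g => rfl
  have hPinj : Function.Injective P := by
    rw [injective_iff_map_eq_zero]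
    intro d hd
    by_contra hd0
    refine hγ2 ?_
    have := LinearMap.congr_fun hd (d⁻¹ * γ2)
    rw [hP, mul_inv_cancel_left₀ hd0, LinearMap.zero_apply] at this
    exact this
  obtain ⟨δ, hδ⟩ := (LinearMap.injective_iff_surjective_of_finrank_eq_finrank
    Subspace.dual_finrank_eq.symm).1 hPinj l1
  have hδ' : ∀ g, l2 (δ * g) = l1 g := fun g => by rw [← hP, hδ]
  have hsym : ∀ (w : LinearMap.ker (aeval y f)) (g : AdjoinRoot f),
      B (orbit y f w (g ^ Q)) (w : V) = ε * B (orbit y f w g) (w : V) := fun w g => by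
    rw [orbit_apply, orbit_apply, adj h hf he g w w, ← hi, ← hQ,
      h.sym.sym (w : V) ((act y f (g ^ Q) w : _) : V)]
  have hδQ : δ ^ Q = δ := by
    refine sub_eq_zero.1 (hPinj ?_)
    rw [map_zero]
    refine LinearMap.ext fun g => ?_
    rw [hP, LinearMap.zero_apply, sub_mul, map_sub, hδ', sub_eq_zero]
    have e : δ ^ Q * g = (δ * g ^ Q) ^ Q := by rw [mul_pow, hQQ]
    rw [e]
    show B (orbit y f w2 ((δ * g ^ Q) ^ Q)) (w2 : V) = B (orbit y f w1 g) (w1 : V)
    rw [hsym, show B (orbit y f w2 (δ * g ^ Q)) (w2 : V) = B (orbit y f w1 (g ^ Q)) (w1 : V) from hδ' _,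
      ← hsym, hQQ]
  obtain ⟨γ1, hγ1⟩ := hn1
  have hδ0 : δ ≠ 0 := fun h0 => hγ1 (by
    show l1 γ1 = 0
    rw [← hδ', h0, zero_mul, map_zero])
  -- `-δ` is a norm
  obtain ⟨β, hβ⟩ : ∃ β : AdjoinRoot f, β ^ Q * β = -δ := by
    have hu : (-δ) ^ Q = -δ := by rw [← hσ, map_neg, hσ, hδQ]
    obtain ⟨g, hg⟩ := IsCyclic.exists_generator (α := (AdjoinRoot f)ˣ)
    obtain ⟨e, he'⟩ := Subgroup.mem_zpowers_iff.1 (hg (Units.mk0 (-δ) (neg_ne_zero.2 hδ0)))
    have hord : (orderOf g : ℤ) = (Q : ℤ) * Q - 1 := by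
      rw [orderOf_eq_card_of_forall_mem_zpowers hg, Nat.card_eq_fintype_card, Fintype.card_units, hcard,
        Nat.cast_sub (by have := (Fintype.card_pos (α := AdjoinRoot f)); omega)]
      push_cast; ring
    have h1 : g ^ (e * ((Q : ℤ) - 1)) = 1 := by
      rw [_root_.zpow_mul, he', zpow_sub_one, mul_inv_eq_one, zpow_natCast]
      exact Units.ext (by push_cast; exact hu)
    obtain ⟨c, hc⟩ := orderOf_dvd_iff_zpow_eq_one.2 h1
    rw [hord] at hc
    have hQ1 : (1 : ℤ) < Q := by
      have : 1 < Q := Nat.one_lt_pow (by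
        obtain ⟨j, hj⟩ := he
        omega) Fintype.one_lt_card
      exact_mod_cast this
    have hec : e = c * ((Q : ℤ) + 1) := mul_right_cancel₀ (by omega : ((Q : ℤ) - 1) ≠ 0)
      (by rw [hc]; ring)
    refine ⟨((g ^ c : (AdjoinRoot f)ˣ) : AdjoinRoot f), ?_⟩
    have h2 : (g ^ c) ^ Q * g ^ c = Units.mk0 (-δ) (neg_ne_zero.2 hδ0) := by
      rw [← he', ← zpow_natCast, ← _root_.zpow_mul, ← zpow_add, hec]
      congr 1; ring
    have := congrArg Units.val h2
    rw [Units.val_mk0, Units.val_mul, Units.val_pow_eq_pow_val] at this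
    exact this
  set v : LinearMap.ker (aeval y f) := w1 + act y f β w2 with hv
  have hvv : ∀ g, B (orbit y f v g) (v : V) = 0 := by
    intro g
    have c1 : B ((act y f g w1 : _) : V) ((act y f β w2 : _) : V) = 0 := by
      rw [hadjr, ← Module.End.mul_apply, ← map_mul]; exact hcross _
    have c2 : B ((act y f g (act y f β w2) : _) : V) (w1 : V) = 0 := by
      rw [← Module.End.mul_apply, ← map_mul, adj h hf he]
      refine symm_zero h.sym ?_
      exact hcross _
    have c3 : B ((act y f g (act y f β w2) : _) : V) ((act y f β w2 : _) : V) =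
        -(B (orbit y f w1 g) (w1 : V)) := by
      rw [hadjr, ← Module.End.mul_apply, ← Module.End.mul_apply, ← map_mul, ← map_mul,
        show β ^ Q * g * β = (-δ) * g by rw [← hβ]; ring]
      show l2 (-δ * g) = -(l1 g)
      rw [neg_mul, map_neg, hδ']
    rw [orbit_apply, hv]
    simp only [map_add, LinearMap.add_apply, Submodule.coe_add, c1, c2, c3]
    rw [orbit_apply]
    ring
  have hv0 : v ≠ 0 := by
    intro h0
    refine hγ1 ?_
    have : B (orbit y f w1 γ1) (v : V) = B (orbit y f w1 γ1) (w1 : V) := by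
      rw [hv, Submodule.coe_add, map_add, orbit_apply, hadjr, ← Module.End.mul_apply, ← map_mul]
      rw [show B ((act y f (β ^ Q * γ1) w1 : _) : V) (w2 : V) = 0 from hcross _, add_zero]
    rw [← this, h0, Submodule.coe_zero, map_zero]
  exact hiso v hv0 (by rw [hv]; exact X.add_mem h1X (act_mem hX β w2 h2X)) hvv

end Pair

section Find

variable [FiniteDimensional F V] {ε : F} {B : LinearMap.BilinForm F V} {y : Module.End F V}

/-- The polynomial of a minimal invariant subspace without fixed vectors. -/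
theorem exists_type (h : Isom ε B y r) {S : Submodule F V} (hS : Inv y S) (hS0 : S ≠ ⊥)
    (hmin : ∀ U : Submodule F V, Inv y U → U ≤ S → U = ⊥ ∨ U = S) (hfix : S ⊓ fix y = ⊥) :
    ∃ f : F[X], IsType r f ∧ S ≤ LinearMap.ker (aeval y f) := by
  classical
  have hnf : ¬ S ≤ fix y := fun hle => hS0 (by rw [← hfix, inf_eq_left.2 hle])
  have hdim := finrank_simple h.rF h.pow hS hS0 hmin hnf
  obtain ⟨w, hwS, hw0⟩ := (Submodule.ne_bot_iff S).1 hS0
  have hint : IsIntegral F y := IsIntegral.of_finite F y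
  -- an irreducible polynomial killing `w`
  have key : ∀ n (P : F[X]), P.natDegree ≤ n → P ≠ 0 → aeval y P w = 0 →
      ∃ f : F[X], f.Monic ∧ Irreducible f ∧ ∃ x ∈ S, x ≠ 0 ∧ aeval y f x = 0 := by
    intro n
    induction n with
    | zero =>
      intro P hP hP0 hPw
      rw [Nat.le_zero, natDegree_eq_zero] at hP
      obtain ⟨c, rfl⟩ := hP
      rw [aeval_C, Module.algebraMap_end_apply] at hPw
      exact absurd ((smul_eq_zero.1 hPw).resolve_right hw0) fun hc => hP0 (by rw [hc, map_zero])
    | succ n ih =>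
      intro P hP hP0 hPw
      by_cases hu : P.natDegree ≤ n
      · exact ih P hu hP0 hPw
      have hnu : ¬ IsUnit P := fun hP' => by
        have := natDegree_eq_zero_of_isUnit hP'
        omega
      obtain ⟨f, hfm, hfi, c, rfl⟩ := exists_monic_irreducible_factor P hnu
      by_cases hx : aeval y c w = 0
      · refine ih c ?_ (right_ne_zero_of_mul hP0) hx
        rw [natDegree_mul hfi.ne_zero (right_ne_zero_of_mul hP0)] at hP
        have := hfi.natDegree_pos
        omega
      · refine ⟨f, hfm, hfi, _, aeval_mem hS c w hwS, hx, ?_⟩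
        rw [← Module.End.mul_apply, ← map_mul]
        exact hPw
  obtain ⟨f, hfm, hfi, x, hxS, hx0, hfx⟩ := key _ _ le_rfl (minpoly.ne_zero hint)
    (by rw [minpoly.aeval, LinearMap.zero_apply])
  set x' : LinearMap.ker (aeval y f) := ⟨x, hfx⟩
  have hx' : x' ≠ 0 := fun e => hx0 (congrArg Subtype.val e)
  have hr : LinearMap.range (orbit y f x') = S := by
    refine (hmin _ (inv_orbit f x') (orbit_le hS hxS)).resolve_left fun e => hx0 ?_
    have hmem : orbit y f x' 1 ∈ LinearMap.range (orbit y f x') := ⟨1, rfl⟩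
    rw [e, Submodule.mem_bot, orbit_apply, map_one] at hmem
    exact hmem
  have hSker : S ≤ LinearMap.ker (aeval y f) := by
    rw [← hr]; rintro _ ⟨γ, rfl⟩; exact Submodule.coe_mem _
  haveI := Fact.mk hfi
  refine ⟨f, ⟨hfm, hfi, ?_, ?_⟩, hSker⟩
  · have := LinearMap.finrank_range_of_inj (orbit_injective hfi hx' (y := y))
    rw [hr, hdim, (AdjoinRoot.powerBasis hfi.ne_zero).finrank, AdjoinRoot.powerBasis_dim] at this
    exact this.symm
  · rw [← AdjoinRoot.mk_eq_zero]
    refine orbit_injective hfi hx' ?_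
    rw [map_zero, orbit_apply, act_coe]
    show aeval y (cyc F r) x = 0
    have hmem : aeval y (cyc F r) x ∈ S ⊓ fix y := by
      refine ⟨aeval_mem hS _ x hxS, mem_fix.2 ?_⟩
      have h1 := congrArg (fun P => aeval y P x) (mul_geom_sum (X : F[X]) r)
      simp only [map_mul, map_sub, aeval_X, map_one, map_pow, h.pow, sub_self, LinearMap.zero_apply,
        Module.End.mul_apply, LinearMap.sub_apply, Module.End.one_apply] at h1
      exact sub_eq_zero.1 h1
    rwa [hfix, Submodule.mem_bot] at hmem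

/-- Without isotropic pieces: pairwise different types, and `i` even. -/
theorem types_of_no_isotropic (h : Isom ε B y r) (hr2 : r ≠ 2) :
    ∀ X : Submodule F V, Inv y X → NdOn B X → X ⊓ fix y = ⊥ →
      (¬ ∃ S : Submodule F V, S ≤ X ∧ Inv y S ∧ Iso0 B S ∧
        finrank F S = orderOf (Fintype.card F : ZMod r)) →
      ∃ P : Finset F[X], finrank F X = P.card * orderOf (Fintype.card F : ZMod r) ∧
        (P.Nonempty → Even (orderOf (Fintype.card F : ZMod r))) ∧
        ∀ f ∈ P, IsType r f ∧ ∃ x ∈ X, x ≠ 0 ∧ aeval y f x = 0 := by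
  classical
  intro X
  induction X using WellFoundedLT.induction with
  | _ X ih =>
    intro hXi hX hXf hno
    by_cases hX0 : X = ⊥
    · exact ⟨∅, by rw [hX0, finrank_bot]; simp, fun h => absurd h (by simp), fun f hf => absurd hf (by simp)⟩
    obtain ⟨S, hSX, hSi, hS0, hmin⟩ := exists_minimal_invariant y hXi hX0
    have hSf : S ⊓ fix y = ⊥ := le_bot_iff.1 ((inf_le_inf_right _ hSX).trans hXf.le)
    obtain ⟨f, hf, hSker⟩ := exists_type h hSi hS0 hmin hSf
    have hSdim := finrank_simple h.rF h.pow hSi hS0 hmin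
      fun hle => hS0 (by rw [← hSf, inf_eq_left.2 hle])
    have hSnd : NdOn B S := by
      intro x hx hx0
      have hT : S ⊓ orth B S = ⊥ := by
        refine (hmin _ (inv_inf hSi (h.inv_orth hSi)) inf_le_left).resolve_right fun e => hno ?_
        exact ⟨S, hSX, hSi, iso0_iff_le_orth.2 (inf_eq_left.1 e), hSdim⟩
      have hxm : x ∈ S ⊓ orth B S := ⟨hx, (mem_orth' h.sym).2 hx0⟩
      rwa [hT, Submodule.mem_bot] at hxm
    obtain ⟨x, hxS, hx0⟩ := (Submodule.ne_bot_iff S).1 hS0
    set x' : LinearMap.ker (aeval y f) := ⟨x, hSker hxS⟩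
    have hx' : x' ≠ 0 := fun e => hx0 (congrArg Subtype.val e)
    -- `i` is even
    have heven : Even (orderOf (Fintype.card F : ZMod r)) := by
      haveI := Fact.mk hf.irred
      have hroot : aeval (AdjoinRoot.root f ^ (r - 1)) f = 0 := by
        rw [show aeval (AdjoinRoot.root f ^ (r - 1)) f = AdjoinRoot.mk f (f.comp (Polynomial.X ^ (r - 1))) by
          rw [← AdjoinRoot.aeval_eq, Polynomial.aeval_comp, map_pow, aeval_X]]
        refine orbit_injective hf.irred hx' ?_
        rw [map_zero, orbit_apply, act_coe]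
        refine hSnd _ (aeval_mem hSi _ _ hxS) fun z hz => ?_
        rw [Polynomial.aeval_comp, map_pow, aeval_X, adj_poly h, LinearMap.mem_ker.1 (hSker hz), map_zero]
      obtain ⟨s, hs⟩ := hf.root_eq h.rF hroot
      rw [pow_eq_iff (hf.orderOf_root h.rF)] at hs
      push_cast [Nat.cast_sub (Fact.out : r.Prime).one_le] at hs
      rw [ZMod.natCast_self, zero_sub] at hs
      by_contra hodd
      rw [Nat.not_even_iff_odd] at hodd
      have h2s : orderOf (Fintype.card F : ZMod r) ∣ 2 * s :=
        orderOf_dvd_of_pow_eq_one (by rw [two_mul, pow_add, ← hs]; ring)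
      have h1 : (Fintype.card F : ZMod r) ^ s = 1 :=
        orderOf_dvd_iff_pow_eq_one.1 (hodd.coprime_two_right.dvd_of_dvd_mul_left h2s)
      rw [h1] at hs
      haveI : Fact (2 < r) := ⟨lt_of_le_of_ne (Fact.out : r.Prime).two_le (Ne.symm hr2)⟩
      exact ZMod.neg_one_ne_one hs
    have hlt : X ⊓ orth B S < X := by
      refine lt_of_le_of_ne inf_le_left fun e => ?_
      have := finrank_inf_orth h.sym hX hSX
      rw [e] at this
      exact hS0 (Submodule.finrank_eq_zero.1 (by omega))
    obtain ⟨P, hP, -, hPt⟩ := ih _ hlt (inv_inf hXi (h.inv_orth hSi)) (ndOn_inf_orth h.sym hX hSnd hSX)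
      (le_bot_iff.1 ((inf_le_inf_right _ inf_le_left).trans hXf.le))
      fun ⟨S', h1, h2, h3, h4⟩ => hno ⟨S', h1.trans inf_le_left, h2, h3, h4⟩
    have hfP : f ∉ P := by
      intro hfP
      obtain ⟨-, z, hzR, hz0, hfz⟩ := hPt f hfP
      refine hno (pair_isotropic h hf heven hXi hx' (w2 := ⟨z, hfz⟩)
        (fun e => hz0 (congrArg Subtype.val e)) (hSX hxS) hzR.1 fun γ => ?_)
      exact hzR.2 _ (orbit_le hSi hxS ⟨γ, rfl⟩)
    refine ⟨insert f P, ?_, fun _ => heven, fun g hg => ?_⟩
    · have := finrank_inf_orth h.sym hX hSX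
      rw [Finset.card_insert_of_notMem hfP, add_mul, one_mul, ← hP, ← hSdim]
      omega
    · rcases Finset.mem_insert.1 hg with rfl | hg
      · exact ⟨hf, x, hSX hxS, hx0, hSker hxS⟩
      · obtain ⟨h1, z, hz, hz'⟩ := hPt g hg
        exact ⟨h1, z, hz.1, hz'⟩

theorem exists_isotropic (h : Isom ε B y r) (hr2 : r ≠ 2) {X : Submodule F V} (hXi : Inv y X)
    (hX : NdOn B X) (hXf : X ⊓ fix y = ⊥)
    (hN : tPrime r (orderOf (Fintype.card F : ZMod r)) * orderOf (Fintype.card F : ZMod r) < finrank F X) :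
    ∃ S : Submodule F V, S ≤ X ∧ Inv y S ∧ Iso0 B S ∧
      finrank F S = orderOf (Fintype.card F : ZMod r) := by
  classical
  by_contra hno
  obtain ⟨P, hP, hPe, hPt⟩ := types_of_no_isotropic h hr2 X hXi hX hXf hno
  set i := orderOf (Fintype.card F : ZMod r) with hi
  have hipos : 0 < i := orderOf_card_pos h.rF
  rw [hP] at hN
  have hlt := Nat.lt_of_mul_lt_mul_right hN
  have hne : P.Nonempty := Finset.card_pos.1 (by omega)
  rw [tPrime, if_neg (Nat.not_odd_iff_even.2 (hPe hne))] at hlt
  have hdvd : ∏ f ∈ P, f ∣ cyc F r := by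
    refine Finset.prod_dvd_of_coprime ?_ fun f hf => (hPt f hf).1.dvd
    intro f hf g hg hne'
    by_cases h1 : f ∣ g
    swap
    · exact (hPt f hf).1.irred.coprime_iff_not_dvd.2 h1
    · exact absurd (eq_of_monic_of_associated (hPt f hf).1.monic (hPt g hg).1.monic
        ((hPt f hf).1.irred.associated_of_dvd (hPt g hg).1.irred h1)) hne'
  have hr1 := (Fact.out : r.Prime).one_le
  have hcdeg : (cyc F r).natDegree ≤ r - 1 := by
    refine natDegree_sum_le_of_forall_le _ _ fun j hj => ?_
    have := Finset.mem_range.1 hj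
    rw [natDegree_X_pow]; omega
  have hc0 : cyc F r ≠ 0 := by
    intro h0
    have := congrArg (eval 1) h0
    simp [cyc, eval_finsetSum] at this
    exact h.rF this
  have hle := (natDegree_le_of_dvd hdvd hc0).trans hcdeg
  rw [natDegree_prod _ _ fun f hf => (hPt f hf).1.irred.ne_zero,
    Finset.sum_congr rfl (g := fun _ => i) fun f hf => (hPt f hf).1.deg, Finset.sum_const,
    smul_eq_mul] at hle
  have : P.card ≤ (r - 1) / i := (Nat.le_div_iff_mul_le hipos).2 hle
  omega

/-- Invariant totally isotropic subspaces made of `k` pieces. -/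
theorem exists_iso0 (h : Isom ε B y r) (hr2 : r ≠ 2) :
    ∀ (k N : ℕ) (X : Submodule F V), Inv y X → NdOn B X → X ⊓ fix y = ⊥ →
      finrank F X = N * orderOf (Fintype.card F : ZMod r) →
      (k = 0 ∨ 2 * k + tPrime r (orderOf (Fintype.card F : ZMod r)) ≤ N + 1) →
      ∃ W : Submodule F V, W ≤ X ∧ Inv y W ∧ Iso0 B W ∧
        finrank F W = k * orderOf (Fintype.card F : ZMod r) := by
  intro k
  induction k with
  | zero =>
    intro N X _ _ _ _ _
    refine ⟨⊥, bot_le, (Submodule.map_bot y).le, ?_, by rw [finrank_bot, zero_mul]⟩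
    intro u hu v _
    rw [(Submodule.mem_bot F).1 hu, map_zero, LinearMap.zero_apply]
  | succ k ih =>
    intro N X hXi hX hXf hN hk
    have hipos : 0 < orderOf (Fintype.card F : ZMod r) := orderOf_card_pos h.rF
    have hk' : 2 * (k + 1) + tPrime r (orderOf (Fintype.card F : ZMod r)) ≤ N + 1 :=
      hk.resolve_left (Nat.succ_ne_zero k)
    obtain ⟨S, hSX, hSi, hS, hSd⟩ := exists_isotropic h hr2 hXi hX hXf
      (hN ▸ Nat.mul_lt_mul_of_pos_right (by omega) hipos)
    obtain ⟨R, hRi, hRX, hR, hRd, hRS, hdis⟩ := h.hyperbolic_step hXi hX hSi hSX hS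
    rw [hSd, hN] at hRd
    have hN2 : 2 ≤ N := by
      by_contra hlt
      have := Nat.mul_lt_mul_of_pos_right (show N < 2 by omega) hipos
      omega
    obtain ⟨W, hWR, hWi, hW, hWd⟩ := ih (N - 2) R hRi hR
      (le_bot_iff.1 ((inf_le_inf_right _ hRX).trans hXf.le)) (by rw [Nat.sub_mul]; omega)
      (by by_cases hk0 : k = 0
          · exact .inl hk0
          · exact .inr (by omega))
    refine ⟨S ⊔ W, sup_le hSX (hWR.trans hRX), inv_sup hSi hWi, hS.sup h.sym hW (hWR.trans hRS), ?_⟩
    have := Submodule.finrank_sup_add_finrank_inf_eq S W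
    rw [show S ⊓ W = ⊥ from le_bot_iff.1 ((inf_comm S W).le.trans ((inf_le_inf_right S hWR).trans hdis.le)),
      finrank_bot, hSd, hWd] at this
    rw [add_mul, one_mul]
    omega

end Find

end Cfsg.Agent.Elusive
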