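import Cfsg.Agent.Lib.Elusive.Common
import Cfsg.Agent.Lib.PrimeOrderElt.Jordan
/-
Skew nilpotent endomorphisms of alternating spaces: orthogonal decompositions.
* `Skew B N`          : `B (N u) v = - B u (N v)`
* `exists_cyclic_nd`  : cyclic subspaces with non-degenerate top pairing
* `exists_piece`      : a non-degenerate piece, one block or two of the greatest size
* `exists_decomp`     : the Jordan type is admissible and its admissible parts are realised (char not 2)
* `exists_nd_half`    : non-degenerate invariant subspaces for blocks of size at most two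
-/

set_option autoImplicit false
set_option linter.unusedSectionVars false
set_option linter.style.haveILetI false

namespace Cfsg.Agent.Elusive

open Module
open Cfsg.Agent.PrimeGraphBC (IsSymF)
open Cfsg.Agent.PrimeOrderElt (Inv inv_apply inv_inf inv_sup rk rk_add rk_zero map_pow_le
  finrank_sup_of_inf_eq_bot finrank_map_pow_sup)

variable {F : Type*} [Field F] {V : Type*} [AddCommGroup V] [Module F V]

/-- Skew adjointness. -/
def Skew (B : LinearMap.BilinForm F V) (N : Module.End F V) : Prop := ∀ u v, B (N u) v = -B u (N v)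

variable {B : LinearMap.BilinForm F V} {N : Module.End F V}

theorem Skew.pow (h : Skew B N) : ∀ (e : ℕ) (u v : V), B u ((N ^ e) v) = (-1 : F) ^ e * B ((N ^ e) u) v := by
  intro e
  induction e with
  | zero => intro u v; simp
  | succ e ih =>
    intro u v
    rw [pow_succ' N e, Module.End.mul_apply, ← neg_neg (B u (N ((N ^ e) v))), ← h, ih, ← pow_succ' N e,
      pow_succ N e, Module.End.mul_apply, pow_succ (-1 : F) e]
    ring

theorem Skew.inv_orth (h : Skew B N) {S : Submodule F V} (hS : Inv N S) : Inv N (orth B S) := by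
  rintro _ ⟨v, hv, rfl⟩ s hs
  rw [← neg_neg (B s (N v)), ← h, hv _ (inv_apply hS hs), neg_zero]

theorem inv_pow_mem {W : Submodule F V} (hW : Inv N W) (j : ℕ) {v : V} (hv : v ∈ W) : (N ^ j) v ∈ W :=
  map_pow_le hW j ⟨v, hv, rfl⟩

variable [FiniteDimensional F V]

/-- Cyclic subspaces with non-degenerate top pairing. -/
theorem exists_cyclic_nd (hN : Skew B N) {s k : ℕ} (u : Fin s → V) (hk : 0 < k)
    (hu : ∀ a, (N ^ k) (u a) = 0)
    (hG : ∀ c : Fin s → F, (∀ b, ∑ a, c a * B ((N ^ (k - 1)) (u a)) (u b) = 0) → c = 0) :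
    ∃ H : Submodule F V, Inv N H ∧ NdOn B H ∧ finrank F H = s * k ∧
      (∀ j, finrank F ↥(H.map (N ^ j)) = s * (k - j)) ∧
      (∀ X : Submodule F V, Inv N X → (∀ a, u a ∈ X) → H ≤ X) ∧ ∀ a, u a ∈ H := by
  classical
  let w : Fin s × Fin k → V := fun x => (N ^ (x.2 : ℕ)) (u x.1)
  have hhigh : ∀ (a : Fin s) (e : ℕ), k ≤ e → (N ^ e) (u a) = 0 := fun a e he => by
    rw [show e = (e - k) + k by omega, pow_add, Module.End.mul_apply, hu, map_zero]
  have hsep : ∀ c : Fin s × Fin k → F,
      (∀ (b : Fin s) (e : ℕ), B (∑ x, c x • w x) ((N ^ e) (u b)) = 0) → c = 0 := by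
    intro c hc
    by_contra hne
    have hex : ∃ j : ℕ, ∃ h : j < k, ∃ a, c (a, ⟨j, h⟩) ≠ 0 := by
      by_contra hall
      push Not at hall
      exact hne (funext fun x => hall x.2 x.2.2 x.1)
    obtain ⟨hj0, a0, ha0⟩ := Nat.find_spec hex
    set j0 := Nat.find hex with hj0def
    refine ha0 (congrFun (hG (fun a => c (a, ⟨j0, hj0⟩)) fun b => ?_) a0)
    have h1 := hc b (k - 1 - j0)
    rw [hN.pow, mul_eq_zero] at h1
    have h2 := h1.resolve_left (pow_ne_zero _ (neg_ne_zero.2 one_ne_zero))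
    rw [map_sum, map_sum, LinearMap.sum_apply, Fintype.sum_prod_type] at h2
    rw [← h2]
    refine Finset.sum_congr rfl fun a _ => ?_
    rw [Finset.sum_eq_single ⟨j0, hj0⟩ ?_ (fun h => absurd (Finset.mem_univ _) h)]
    · rw [map_smul, map_smul, LinearMap.smul_apply, smul_eq_mul]
      show _ = _ * B ((N ^ (k - 1 - j0)) ((N ^ j0) (u a))) (u b)
      rw [← Module.End.mul_apply, ← pow_add, Nat.sub_add_cancel (by omega : j0 ≤ k - 1)]
    · intro x _ hx
      rw [map_smul, map_smul, LinearMap.smul_apply, smul_eq_mul]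
      show _ * B ((N ^ (k - 1 - j0)) ((N ^ (x : ℕ)) (u a))) (u b) = 0
      rcases lt_trichotomy (x : ℕ) j0 with hlt | heq | hgt
      · have h3 := Nat.find_min hex hlt
        push Not at h3
        rw [h3 x.2 a, zero_mul]
      · exact absurd (Fin.ext heq) hx
      · rw [← Module.End.mul_apply, ← pow_add, hhigh a _ (by omega), map_zero, LinearMap.zero_apply, mul_zero]
  have hli : LinearIndependent F w := by
    rw [Fintype.linearIndependent_iff]
    intro g hg x
    exact congrFun (hsep g fun b e => by rw [hg, map_zero, LinearMap.zero_apply]) x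
  set H := Submodule.span F (Set.range w) with hH
  have hinv : Inv N H := by
    show Submodule.map N H ≤ H
    rw [hH, Submodule.map_span, Submodule.span_le]
    rintro _ ⟨_, ⟨x, rfl⟩, rfl⟩
    show N ((N ^ (x.2 : ℕ)) (u x.1)) ∈ _
    rw [← Module.End.mul_apply, ← pow_succ']
    by_cases h : (x.2 : ℕ) + 1 < k
    · exact Submodule.subset_span ⟨(x.1, ⟨_, h⟩), rfl⟩
    · rw [hhigh _ _ (by omega)]; exact Submodule.zero_mem _
  have hmem : ∀ (b : Fin s) (e : ℕ), (N ^ e) (u b) ∈ H := fun b e =>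
    inv_pow_mem hinv e (Submodule.subset_span ⟨(b, ⟨0, hk⟩), by simp [w]⟩)
  refine ⟨H, hinv, fun v hv hv0 => ?_, ?_, fun j => ?_, fun X hX huX => Submodule.span_le.2 ?_, fun a => ?_⟩
  · obtain ⟨c, rfl⟩ := (Submodule.mem_span_range_iff_exists_fun F).1 hv
    rw [hsep c fun b e => hv0 _ (hmem b e)]
    simp
  · rw [hH, finrank_span_eq_card hli, Fintype.card_prod, Fintype.card_fin, Fintype.card_fin]
  · let sh : Fin s × Fin (k - j) → Fin s × Fin k := fun x => (x.1, ⟨(x.2 : ℕ) + j, by omega⟩)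
    have hmap : H.map (N ^ j) = Submodule.span F (Set.range (w ∘ sh)) := by
      rw [hH, Submodule.map_span]
      refine le_antisymm (Submodule.span_le.2 ?_) (Submodule.span_le.2 ?_)
      · rintro _ ⟨_, ⟨x, rfl⟩, rfl⟩
        show (N ^ j) ((N ^ (x.2 : ℕ)) (u x.1)) ∈ Submodule.span F _
        rw [← Module.End.mul_apply, ← pow_add, Nat.add_comm]
        by_cases h : (x.2 : ℕ) + j < k
        · exact Submodule.subset_span ⟨(x.1, ⟨x.2, by omega⟩), rfl⟩
        · rw [hhigh _ _ (by omega)]; exact Submodule.zero_mem _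
      · rintro _ ⟨x, rfl⟩
        refine Submodule.subset_span ⟨w (x.1, ⟨x.2, by omega⟩), ⟨_, rfl⟩, ?_⟩
        show (N ^ j) ((N ^ (x.2 : ℕ)) (u x.1)) = (N ^ ((x.2 : ℕ) + j)) (u x.1)
        rw [← Module.End.mul_apply, ← pow_add, Nat.add_comm]
    have hsh : Function.Injective sh := by
      rintro ⟨a, i⟩ ⟨a', i'⟩ h
      simp only [sh, Prod.mk.injEq, Fin.mk.injEq, Nat.add_right_cancel_iff] at h
      exact Prod.ext h.1 (Fin.ext h.2)
    rw [hmap, finrank_span_eq_card (hli.comp sh hsh), Fintype.card_prod, Fintype.card_fin, Fintype.card_fin]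
  · rintro _ ⟨x, rfl⟩
    exact inv_pow_mem hX _ (huX x.1)
  · simpa using hmem a 0

/-- One block of greatest size, or two. -/
theorem exists_piece (halt : ∀ x, B x x = 0) (hN : Skew B N) {X : Submodule F V} (hXi : Inv N X)
    (hX : NdOn B X) (hX0 : X ≠ ⊥) {p : ℕ} (hp : ∀ v ∈ X, (N ^ p) v = 0) :
    ∃ (k : ℕ) (H : Submodule F V), 0 < k ∧ k ≤ p ∧ H ≤ X ∧ Inv N H ∧ NdOn B H ∧
      ((finrank F H = k ∧ (∀ j, finrank F ↥(H.map (N ^ j)) = k - j) ∧
          ∃ v ∈ X, B ((N ^ (k - 1)) v) v ≠ 0) ∨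
       (finrank F H = 2 * k ∧ (∀ j, finrank F ↥(H.map (N ^ j)) = 2 * (k - j)) ∧
          ∀ v ∈ X, B ((N ^ (k - 1)) v) v = 0)) := by
  classical
  have hex : ∃ k, ∀ v ∈ X, (N ^ k) v = 0 := ⟨p, hp⟩
  set k := Nat.find hex
  have hkN : ∀ v ∈ X, (N ^ k) v = 0 := Nat.find_spec hex
  have hkp : k ≤ p := Nat.find_min' hex hp
  have hk : 0 < k := by
    rcases Nat.eq_zero_or_pos k with h0 | h0
    · exact absurd (le_bot_iff.1 fun v hv => by simpa [h0] using hkN v hv) hX0
    · exact h0
  by_cases hsingle : ∃ v ∈ X, B ((N ^ (k - 1)) v) v ≠ 0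
  · obtain ⟨v, hv, hvv⟩ := hsingle
    obtain ⟨H, hHi, hH, hHd, hHj, hHX, -⟩ := exists_cyclic_nd hN (fun _ : Fin 1 => v) hk (fun _ => hkN v hv)
      (fun c hc => funext fun a => by
        have := hc 0
        rw [Fin.sum_univ_one, mul_eq_zero] at this
        rw [Subsingleton.elim a 0]
        exact this.resolve_right hvv)
    exact ⟨k, H, hk, hkp, hHX X hXi fun _ => hv, hHi, hH,
      .inl ⟨by omega, fun j => by rw [hHj, one_mul], v, hv, hvv⟩⟩
  · push Not at hsingle
    obtain ⟨v, hv, hvt⟩ : ∃ v ∈ X, (N ^ (k - 1)) v ≠ 0 := by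
      by_contra h
      push Not at h
      exact Nat.find_min hex (m := k - 1) (by omega) h
    obtain ⟨z, hz, hvz⟩ : ∃ z ∈ X, B ((N ^ (k - 1)) v) z ≠ 0 := by
      by_contra h
      push Not at h
      exact hvt (hX _ (inv_pow_mem hXi _ hv) h)
    have hzv : B ((N ^ (k - 1)) z) v ≠ 0 := by
      rw [GLOrder.alt_swap halt v, hN.pow, neg_ne_zero]
      exact mul_ne_zero (pow_ne_zero _ (neg_ne_zero.2 one_ne_zero)) hvz
    obtain ⟨H, hHi, hH, hHd, hHj, hHX, -⟩ := exists_cyclic_nd hN ![v, z] hk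
      (fun a => by fin_cases a; exacts [hkN v hv, hkN z hz])
      (fun c hc => by
        have h0 := hc 0
        have h1 := hc 1
        simp only [Fin.sum_univ_two, Matrix.cons_val_zero, Matrix.cons_val_one, hsingle v hv, hsingle z hz,
          mul_zero, zero_add, add_zero, mul_eq_zero] at h0 h1
        funext a
        fin_cases a
        · exact h1.resolve_right hvz
        · exact h0.resolve_right hzv)
    refine ⟨k, H, hk, hkp, hHX X hXi fun a => by fin_cases a; exacts [hv, hz], hHi, hH,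
      .inr ⟨hHd, hHj, hsingle⟩⟩

theorem ndOn_bot (B : LinearMap.BilinForm F V) : NdOn B (⊥ : Submodule F V) :=
  fun x hx _ => (Submodule.mem_bot F).1 hx

/-- Orthogonal non-degenerate subspaces add up. -/
theorem NdOn.sup {ε : F} (hB : IsSymF ε B) {U W : Submodule F V} (hU : NdOn B U) (hW : NdOn B W)
    (ho : W ≤ orth B U) : NdOn B (U ⊔ W) ∧ finrank F ↥(U ⊔ W) = finrank F U + finrank F W := by
  refine ⟨fun x hx hx0 => ?_, finrank_sup_of_inf_eq_bot
    (le_bot_iff.1 ((inf_le_inf le_rfl ho).trans (hU.disjoint hB).le))⟩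
  obtain ⟨a, ha, b, hb, rfl⟩ := Submodule.mem_sup.1 hx
  have ha0 : a = 0 := hU a ha fun z hz => by
    have := hx0 z (Submodule.mem_sup_left hz)
    rwa [map_add, LinearMap.add_apply, symm_zero hB (ho hb z hz), add_zero] at this
  subst ha0
  rw [zero_add] at hx0 ⊢
  exact hW b hb fun z hz => hx0 z (Submodule.mem_sup_right hz)

/-- The rest after splitting off a piece. -/
theorem split_piece {ε : F} (hB : IsSymF ε B) (hN : Skew B N) {X H : Submodule F V} (hXi : Inv N X)
    (hX : NdOn B X) (hHX : H ≤ X) (hHi : Inv N H) (hH : NdOn B H) :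
    Inv N (X ⊓ orth B H) ∧ NdOn B (X ⊓ orth B H) ∧ finrank F ↥(X ⊓ orth B H) + finrank F H = finrank F X ∧
      H ⊓ (X ⊓ orth B H) = ⊥ ∧ H ⊔ (X ⊓ orth B H) = X := by
  have hd := finrank_inf_orth hB hX hHX
  have hdis : H ⊓ (X ⊓ orth B H) = ⊥ :=
    le_bot_iff.1 ((inf_le_inf le_rfl inf_le_right).trans (hH.disjoint hB).le)
  refine ⟨inv_inf hXi (hN.inv_orth hHi), ndOn_inf_orth hB hX hH hHX, hd, hdis,
    Submodule.eq_of_le_of_finrank_eq (sup_le hHX inf_le_left) ?_⟩
  rw [finrank_sup_of_inf_eq_bot hdis]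
  omega

/-- Odd parts occur an even number of times. -/
def Admissible (μ : Multiset ℕ) : Prop := ∀ a : ℕ, Odd a → Even (μ.count a)

theorem admissible_zero : Admissible 0 := fun a _ => by simp

theorem Admissible.add_even {μ : Multiset ℕ} (h : Admissible μ) {k : ℕ} (hk : Even k) :
    Admissible ({k} + μ) := fun a ha => by
  rw [Multiset.count_add, Multiset.count_singleton, if_neg (by
    rintro rfl; exact Nat.not_even_iff_odd.2 ha hk), zero_add]
  exact h a ha

theorem Admissible.add_pair {μ : Multiset ℕ} (h : Admissible μ) (k : ℕ) :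
    Admissible (Multiset.replicate 2 k + μ) := fun a ha => by
  rw [Multiset.count_add, Multiset.count_replicate]
  exact (by split_ifs <;> simp : Even (if k = a then 2 else 0)).add (h a ha)

theorem rk_replicate (s k j : ℕ) : rk (Multiset.replicate s k) j = s * (k - j) := by simp [rk]

/-- Skew nilpotent maps in characteristic not two: the type is admissible, and every admissible part of it
is the dimension of a non-degenerate invariant subspace. -/
theorem exists_decomp (h2 : (2 : F) ≠ 0) (halt : ∀ x, B x x = 0) (hB : IsSymF (-1 : F) B) (hN : Skew B N)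
    {p : ℕ} : ∀ (X : Submodule F V), Inv N X → NdOn B X → (∀ v ∈ X, (N ^ p) v = 0) →
      ∃ μ : Multiset ℕ, (∀ a ∈ μ, 0 < a ∧ a ≤ p) ∧ Admissible μ ∧ μ.sum = finrank F X ∧
        (∀ j, finrank F ↥(X.map (N ^ j)) = rk μ j) ∧
        ∀ ν ≤ μ, Admissible ν → ∃ W ≤ X, Inv N W ∧ NdOn B W ∧ finrank F W = ν.sum := by
  classical
  intro X
  induction X using WellFoundedLT.induction with
  | _ X ih =>
    intro hXi hX hp
    by_cases hX0 : X = ⊥
    · subst hX0
      refine ⟨0, by simp, admissible_zero, by simp, fun j => ?_, fun ν hν _ => ?_⟩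
      · rw [Submodule.map_bot, finrank_bot]; simp [rk]
      · rw [nonpos_iff_eq_zero.mp hν]
        exact ⟨⊥, bot_le, (Submodule.map_bot N).le, ndOn_bot B, by simp⟩
    obtain ⟨k, H, hk, hkp, hHX, hHi, hH, hcase⟩ := exists_piece halt hN hXi hX hX0 hp
    obtain ⟨hRi, hR, hRd, hdis, hsup⟩ := split_piece hB hN hXi hX hHX hHi hH
    have hHd : 0 < finrank F H := by rcases hcase with ⟨h, -⟩ | ⟨h, -⟩ <;> omega
    have hlt : X ⊓ orth B H < X := lt_of_le_of_ne inf_le_left fun e => by rw [e] at hRd; omega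
    obtain ⟨μ, hμ, hμa, hμs, hμr, hμW⟩ := ih _ hlt hRi hR fun v hv => hp v hv.1
    have hrk : ∀ j, finrank F ↥(X.map (N ^ j)) = finrank F ↥(H.map (N ^ j)) + rk μ j := fun j => by
      rw [← hμr]
      conv_lhs => rw [← hsup]
      exact finrank_map_pow_sup hHi hRi hdis j
    have hcomb : ∀ ν : Multiset ℕ, ν ≤ μ → Admissible ν → ∀ U ≤ H, Inv N U → NdOn B U →
        ∃ W ≤ X, Inv N W ∧ NdOn B W ∧ finrank F W = finrank F U + ν.sum := fun ν hν hνa U hU hUi hUn => by
      obtain ⟨W, hW, hWi, hWn, hWd⟩ := hμW ν hν hνa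
      have ho : W ≤ orth B U := fun v hv s hs => (hW hv).2 s (hU hs)
      exact ⟨U ⊔ W, sup_le (hU.trans hHX) (hW.trans inf_le_left), inv_sup hUi hWi,
        (hUn.sup hB hWn ho).1, by rw [(hUn.sup hB hWn ho).2, hWd]⟩
    have hskip : ∀ ν : Multiset ℕ, ν ≤ μ → Admissible ν →
        ∃ W ≤ X, Inv N W ∧ NdOn B W ∧ finrank F W = ν.sum := fun ν hν hνa => by
      obtain ⟨W, hW, h⟩ := hμW ν hν hνa
      exact ⟨W, hW.trans inf_le_left, h⟩
    have hpar : Odd k → ∀ v, B ((N ^ (k - 1)) v) v = 0 := fun hodd v => by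
      obtain ⟨l, rfl⟩ := hodd
      have h1 := hN.pow (2 * l + 1 - 1) v v
      rw [GLOrder.alt_swap halt _ v, Nat.add_sub_cancel, Even.neg_one_pow (even_two_mul l), one_mul] at h1
      rw [Nat.add_sub_cancel]
      exact (mul_eq_zero.1 (show (2 : F) * B ((N ^ (2 * l)) v) v = 0 by linear_combination -h1)).resolve_left h2
    rcases hcase with ⟨hd, hj, v, -, hvv⟩ | ⟨hd, hj, hall⟩
    · -- a single block, of even size
      have hke : Even k := Nat.not_odd_iff_even.1 fun ho => hvv (hpar ho v)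
      refine ⟨{k} + μ, fun a ha => ?_, hμa.add_even hke, ?_, fun j => ?_, fun ν hν hνa => ?_⟩
      · rcases Multiset.mem_add.1 ha with h | h
        · rw [Multiset.mem_singleton.1 h]; exact ⟨hk, hkp⟩
        · exact hμ a h
      · rw [Multiset.sum_add, Multiset.sum_singleton, hμs]; omega
      · rw [hrk, hj, rk_add]; simp [rk]
      · rw [Multiset.singleton_add] at hν
        by_cases hkν : k ∈ ν
        · obtain ⟨ν', rfl⟩ := Multiset.exists_cons_of_mem hkν
          obtain ⟨W, hW, hWi, hWn, hWd⟩ := hcomb ν' ((Multiset.cons_le_cons_iff k).1 hν) (fun a ha => by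
            have := hνa a ha
            rwa [Multiset.count_cons_of_ne (by rintro rfl; exact Nat.not_even_iff_odd.2 ha hke)] at this) H le_rfl hHi hH
          exact ⟨W, hW, hWi, hWn, by rw [hWd, hd, Multiset.sum_cons]⟩
        · exact hskip ν ((Multiset.le_cons_of_notMem hkν).1 hν) hνa
    · -- two blocks, of odd size
      have hko : Odd k := by
        rcases Nat.even_or_odd k with ⟨l, hl⟩ | h
        swap
        · exact h
        exfalso
        obtain ⟨v, hv, hvt⟩ : ∃ v ∈ X, (N ^ (k - 1)) v ≠ 0 := by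
          by_contra hno
          push Not at hno
          have h1 := hj (k - 1)
          rw [show H.map (N ^ (k - 1)) = ⊥ from le_bot_iff.1 (by
            rintro _ ⟨v, hv, rfl⟩; exact (Submodule.mem_bot F).2 (hno v (hHX hv))), finrank_bot] at h1
          omega
        refine hvt (hX _ (inv_pow_mem hXi _ hv) fun z hz => ?_)
        have h1 := hall (v + z) (X.add_mem hv hz)
        simp only [map_add, LinearMap.add_apply, hall v hv, hall z hz, zero_add, add_zero] at h1
        rw [GLOrder.alt_swap halt v ((N ^ (k - 1)) z), hN.pow,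
          Odd.neg_one_pow ⟨l - 1, by omega⟩, neg_one_mul, neg_neg] at h1
        exact (mul_eq_zero.1 (show (2 : F) * B ((N ^ (k - 1)) v) z = 0 by linear_combination h1)).resolve_left h2
      refine ⟨Multiset.replicate 2 k + μ, fun a ha => ?_, hμa.add_pair k, ?_, fun j => ?_, fun ν hν hνa => ?_⟩
      · rcases Multiset.mem_add.1 ha with h | h
        · rw [Multiset.eq_of_mem_replicate h]; exact ⟨hk, hkp⟩
        · exact hμ a h
      · rw [Multiset.sum_add, Multiset.sum_replicate, hμs, smul_eq_mul]; omega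
      · rw [hrk, hj, rk_add, rk_replicate]
      · by_cases hkν : k ∈ ν
        · have hc : 2 ≤ ν.count k := by
            obtain ⟨l, hl⟩ := hνa k hko
            have := Multiset.count_pos.2 hkν
            omega
          obtain ⟨ν', rfl⟩ : ∃ ν', ν = Multiset.replicate 2 k + ν' :=
            le_iff_exists_add.1 (Multiset.le_count_iff_replicate_le.1 hc)
          obtain ⟨W, hW, hWi, hWn, hWd⟩ := hcomb ν' ((add_le_add_iff_left _).1 hν) (fun a ha => by
            have := hνa a ha
            rw [Multiset.count_add, Nat.even_add] at this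
            exact this.1 (by rw [Multiset.count_replicate]; split_ifs <;> simp)) H le_rfl hHi hH
          exact ⟨W, hW, hWi, hWn, by rw [hWd, hd, Multiset.sum_add, Multiset.sum_replicate, smul_eq_mul]⟩
        · refine hskip ν (Multiset.le_iff_count.2 fun a => ?_) hνa
          have := Multiset.le_iff_count.1 hν a
          rw [Multiset.count_add, Multiset.count_replicate] at this
          by_cases hka : k = a
          · rw [← hka, Multiset.count_eq_zero.2 hkν]; exact Nat.zero_le _
          · rwa [if_neg hka, zero_add] at this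

/-- Blocks of size at most two: non-degenerate invariant subspaces of dimension `2h`. -/
theorem exists_nd_half (halt : ∀ x, B x x = 0) (hB : IsSymF (-1 : F) B) (hN : Skew B N) :
    ∀ (d : ℕ) (X : Submodule F V), Inv N X → NdOn B X → (∀ v ∈ X, (N ^ 2) v = 0) → finrank F X = 2 * d →
      ∀ h ≤ d, (Even h ∨ Odd d) → ∃ W ≤ X, Inv N W ∧ NdOn B W ∧ finrank F W = 2 * h := by
  intro d
  induction d using Nat.strong_induction_on with
  | _ d ih =>
    intro X hXi hX hp hd h hhd hpar
    rcases Nat.eq_zero_or_pos h with rfl | hpos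
    · exact ⟨⊥, bot_le, (Submodule.map_bot N).le, ndOn_bot B, by rw [finrank_bot]⟩
    rcases eq_or_ne h d with rfl | hne
    · exact ⟨X, le_rfl, hXi, hX, hd⟩
    have hX0 : X ≠ ⊥ := fun e => by rw [e, finrank_bot] at hd; omega
    obtain ⟨k, H, hk, hkp, hHX, hHi, hH, hcase⟩ := exists_piece halt hN hXi hX hX0 hp
    obtain ⟨hRi, hR, hRd, -, -⟩ := split_piece hB hN hXi hX hHX hHi hH
    obtain ⟨e, he, he12⟩ : ∃ e, finrank F H = 2 * e ∧ (e = 1 ∨ e = 2) := by
      rcases hcase with ⟨hHd, -, v, -, hvv⟩ | ⟨hHd, -, -⟩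
      · refine ⟨1, ?_, .inl rfl⟩
        rcases (show k = 1 ∨ k = 2 by omega) with rfl | rfl
        · exact absurd (halt v) (by simpa using hvv)
        · omega
      · exact ⟨k, hHd, by omega⟩
    have hR2 : finrank F ↥(X ⊓ orth B H) = 2 * (d - e) := by omega
    rw [Nat.even_iff, Nat.odd_iff] at hpar
    by_cases huse : e ≤ h ∧ ((h - e) % 2 = 0 ∨ (d - e) % 2 = 1)
    · obtain ⟨W, hW, hWi, hWn, hWd⟩ := ih (d - e) (by omega) _ hRi hR (fun v hv => hp v hv.1) hR2 (h - e)
        (by omega) (by rw [Nat.even_iff, Nat.odd_iff]; exact huse.2)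
      have ho : W ≤ orth B H := fun v hv => (hW hv).2
      exact ⟨H ⊔ W, sup_le hHX (hW.trans inf_le_left), inv_sup hHi hWi, (hH.sup hB hWn ho).1,
        by rw [(hH.sup hB hWn ho).2, hWd]; omega⟩
    · obtain ⟨W, hW, h'⟩ := ih (d - e) (by omega) _ hRi hR (fun v hv => hp v hv.1) hR2 h (by omega)
        (by rw [Nat.even_iff, Nat.odd_iff]; omega)
      exact ⟨W, hW.trans inf_le_left, h'⟩

/-- Only pairs of blocks of size two: the dimension is divisible by four. -/
theorem four_dvd (halt : ∀ x, B x x = 0) (hB : IsSymF (-1 : F) B) (hN : Skew B N)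
    (hker : ∀ v, N v = 0 → ∃ w, N w = v) (hnull : ∀ v, B (N v) v = 0) (hsq : ∀ v, (N ^ 2) v = 0) :
    ∀ (X : Submodule F V), Inv N X → NdOn B X → 4 ∣ finrank F X := by
  intro X
  induction X using WellFoundedLT.induction with
  | _ X ih =>
    intro hXi hX
    by_cases hX0 : X = ⊥
    · rw [hX0, finrank_bot]; exact dvd_zero _
    obtain ⟨k, H, hk, hkp, hHX, hHi, hH, hcase⟩ := exists_piece halt hN hXi hX hX0 (p := 2) fun v _ => hsq v
    obtain ⟨hRi, hR, hRd, -, -⟩ := split_piece hB hN hXi hX hHX hHi hH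
    have hk2 : k = 2 := by
      by_contra hne
      have hk1 : k = 1 := by omega
      -- `N` vanishes on `H`, which is then isotropic
      have hN0 : ∀ v ∈ H, N v = 0 := fun v hv => by
        have hz : finrank F ↥(H.map (N ^ 1)) = 0 := by rcases hcase with ⟨-, h, -⟩ | ⟨-, h, -⟩ <;> rw [h, hk1]
        rw [Submodule.finrank_eq_zero, pow_one] at hz
        exact (Submodule.mem_bot F).1 (hz ▸ ⟨v, hv, rfl⟩)
      have hHd : finrank F H = 0 := Submodule.finrank_eq_zero.2 (le_bot_iff.1 fun v hv => by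
        refine (Submodule.mem_bot F).2 (hH v hv fun z hz => ?_)
        obtain ⟨v', rfl⟩ := hker v (hN0 v hv)
        rw [hN, hN0 z hz, map_zero, neg_zero])
      rcases hcase with ⟨h, -⟩ | ⟨h, -⟩ <;> omega
    subst hk2
    rcases hcase with ⟨-, -, v, -, hvv⟩ | ⟨hHd, -, -⟩
    · exact absurd (hnull v) (by simpa using hvv)
    have hlt : X ⊓ orth B H < X := lt_of_le_of_ne inf_le_left fun e => by rw [e] at hRd; omega
    have h4 := ih _ hlt hRi hR
    omega

end Cfsg.Agent.Elusive
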