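import Cfsg.Agent.Lib.Elusive.SympGeo
import Cfsg.Agent.Lib.Elusive.Nilp
import Cfsg.Agent.Lib.Linear.AltObstruction
/-
Invariant non-degenerate subspaces of an isometry of odd prime order of an alternating space.
* `HasNd B f m`        : an invariant non-degenerate subspace of dimension `m`
* `exists_nd_piece`    : a piece of dimension `c` inside an invariant non-degenerate subspace without fixed vectors
* `hasNd_of_cond`      : the sufficient condition
* `nd_dims`            : the dimensions of invariant non-degenerate subspaces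
-/

set_option autoImplicit false
set_option linter.unusedSectionVars false
set_option linter.style.haveILetI false

namespace Cfsg.Agent.Elusive

open Module Polynomial
open Cfsg.Agent.PrimeGraphBC (IsSymF isoMon)
open Cfsg.Agent.PrimeOrderElt (Inv inv_apply fix mem_fix inv_fix inv_inf inv_sup exists_minimal_invariant
  finrank_simple orderOf_card_pos exists_dims exists_invariant_complement)
open Cfsg.Agent.GLOrder (resForm resForm_apply)

variable {F : Type*} [Field F] {V : Type*} [AddCommGroup V] [Module F V] [FiniteDimensional F V]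
  {B : LinearMap.BilinForm F V} {y : Module.End F V} {r : ℕ}

/-- An invariant non-degenerate subspace of dimension `m`. -/
def HasNd (B : LinearMap.BilinForm F V) (f : Module.End F V) (m : ℕ) : Prop :=
  ∃ W : Submodule F V, finrank F W = m ∧ NdOn B W ∧ Inv f W

theorem even_of_ndOn (halt : ∀ x, B x x = 0) {X : Submodule F V} (hX : NdOn B X) : Even (finrank F X) :=
  Linear.even_finrank_of_alt_nondeg _ (resForm B X) (fun x => halt x)
    (fun x hx => Subtype.ext (hX x x.2 fun z hz => hx ⟨z, hz⟩)) rfl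

/-- The partner of a totally isotropic invariant subspace. -/
theorem exists_hyperbolic {ε : F} (h : Isom ε B y r) {X S : Submodule F V} (hXi : Inv y X) (hX : NdOn B X)
    (hSi : Inv y S) (hSX : S ≤ X) (hS : Iso0 B S) :
    ∃ H : Submodule F V, S ≤ H ∧ H ≤ X ∧ Inv y H ∧ NdOn B H ∧ finrank F H = 2 * finrank F S := by
  obtain ⟨R, hRi, hRX, hR, hRd, hRS, -⟩ := h.hyperbolic_step hXi hX hSi hSX hS
  refine ⟨X ⊓ orth B R, le_inf hSX ?_, inf_le_left, inv_inf hXi (h.inv_orth hRi), ndOn_inf_orth h.sym hX hR hRX, ?_⟩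
  · exact fun s hs t ht => symm_zero h.sym (hRS ht s hs)
  · have := finrank_inf_orth h.sym hX hRX
    omega

/-- Non-degenerate subspaces of fixed vectors. -/
theorem exists_nd_fix {ε : F} (h : Isom ε B y r) (halt : ∀ x, B x x = 0) {j : ℕ} (hj : 2 * j ≤ finrank F ↥(fix y)) :
    ∃ H : Submodule F V, H ≤ fix y ∧ NdOn B H ∧ finrank F H = 2 * j := by
  obtain ⟨S, hS, hSB, hSd⟩ := exists_iso0_fix h halt j (fix y) le_rfl h.ndOn_fix hj
  obtain ⟨H, -, hH, -, hHn, hHd⟩ := exists_hyperbolic h (inv_fix y) h.ndOn_fix (inv_of_le_fix hS) hS hSB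
  exact ⟨H, hH, hHn, by rw [hHd, hSd]⟩

variable [Fintype F] [Fact r.Prime]

theorem dim_of_fix_free {ε : F} (h : Isom ε B y r) {X : Submodule F V} (hXi : Inv y X) (hXf : X ⊓ fix y = ⊥) :
    ∃ s, finrank F X = s * orderOf (Fintype.card F : ZMod r) := by
  obtain ⟨s, hs, -⟩ := exists_dims h.rF h.pow hXi
  rw [hXf, finrank_bot, zero_add] at hs
  exact ⟨s, hs⟩

/-- For `i` even a hyperbolic pair of irreducibles contains a non-degenerate irreducible. -/
theorem exists_nd_irreducible (h : Isom (-1 : F) B y r) (hr2 : r ≠ 2) (halt : ∀ x, B x x = 0)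
    (he : Even (orderOf (Fintype.card F : ZMod r))) {S H : Submodule F V} (hSH : S ≤ H)
    (hSi : Inv y S) (hS : Iso0 B S) (hHi : Inv y H) (hH : NdOn B H) (hHf : H ⊓ fix y = ⊥)
    (hS0 : S ≠ ⊥) (hHd : finrank F H = 2 * finrank F S) {f : F[X]} (hf : IsType r f) (hSker : S ≤ LinearMap.ker (aeval y f)) :
    ∃ T : Submodule F V, T ≤ H ∧ Inv y T ∧ NdOn B T ∧ finrank F T = orderOf (Fintype.card F : ZMod r) := by
  classical
  have hipos : 0 < orderOf (Fintype.card F : ZMod r) := orderOf_card_pos h.rF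
  -- the adjoint of `f(y)` kills the kernel
  have hdual : ∀ w : LinearMap.ker (aeval y f), aeval (y ^ (r - 1)) f (w : V) = 0 := by
    intro w
    have h0 : AdjoinRoot.mk f (f.comp (Polynomial.X ^ (r - 1))) = 0 := by
      obtain ⟨σ, hσ⟩ := exists_frob f (orderOf (Fintype.card F : ZMod r) / 2)
      calc _ = σ (AdjoinRoot.mk f f) := by
            rw [← AdjoinRoot.aeval_eq, ← AdjoinRoot.aeval_eq, ← Polynomial.aeval_algHom_apply, hσ,
              hf.root_half h.rF he, Polynomial.aeval_comp, map_pow, aeval_X]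
        _ = 0 := by rw [AdjoinRoot.mk_self, map_zero]
    have h1 := congrArg Subtype.val (LinearMap.congr_fun (congrArg (act y f) h0) w)
    rw [act_coe, Polynomial.aeval_comp, map_pow, aeval_X, map_zero] at h1
    exact h1
  -- `f(y)` maps `H` into `S`
  have hT : H ⊓ orth B S = S := (Submodule.eq_of_le_of_finrank_le (le_inf hSH (iso0_iff_le_orth.1 hS)) (by
    have := finrank_inf_orth h.sym hH hSH
    omega)).symm
  have hHker : H ≤ LinearMap.ker (aeval y f) := by
    obtain ⟨S', hS'i, hS'H, hdis, hsup⟩ := exists_invariant_complement h.rF one_ne_zero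
      (by rw [one_smul, h.pow]) hHi hSi hSH
    rw [← hsup]
    refine sup_le hSker fun v hv => LinearMap.mem_ker.2 ?_
    have h1 : aeval y f v ∈ S := by
      rw [← hT]
      refine ⟨aeval_mem hHi f v (hS'H hv), fun s hs => ?_⟩
      rw [← adj_poly h f, hdual ⟨s, hSker hs⟩, map_zero, LinearMap.zero_apply]
    have h2 : aeval y f v ∈ S ⊓ S' := ⟨h1, aeval_mem hS'i f v hv⟩
    rwa [hdis, Submodule.mem_bot] at h2
  by_contra hno
  have hnull : ∀ v ∈ H, B (y v) v = 0 := by
    intro v hv
    by_cases hv0 : v = 0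
    · simp [hv0]
    set w : LinearMap.ker (aeval y f) := ⟨v, hHker hv⟩
    have hw : w ≠ 0 := fun e => hv0 (congrArg Subtype.val e)
    set T := LinearMap.range (orbit y f w)
    have hTH : T ≤ H := orbit_le hHi hv
    have hTd : finrank F T = orderOf (Fintype.card F : ZMod r) := finrank_orbit hf hw
    have hvT : v ∈ T := ⟨1, by rw [orbit_apply, map_one]; rfl⟩
    obtain ⟨s, hs⟩ := dim_of_fix_free h (inv_inf (inv_orbit f w) (h.inv_orth (inv_orbit f w)))
      (le_bot_iff.1 ((inf_le_inf_right _ (inf_le_left.trans hTH)).trans hHf.le))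
    rcases Nat.eq_zero_or_pos s with rfl | hs0
    · refine absurd ⟨T, hTH, inv_orbit f w, fun x hx hx0 => ?_, hTd⟩ hno
      rw [zero_mul, Submodule.finrank_eq_zero] at hs
      have : x ∈ T ⊓ orth B T := ⟨hx, (mem_orth' h.sym).2 hx0⟩
      rwa [hs, Submodule.mem_bot] at this
    · have he' : T ⊓ orth B T = T := Submodule.eq_of_le_of_finrank_le inf_le_left (by
        rw [hs, hTd]; exact Nat.le_mul_of_pos_left _ hs0)
      exact (iso0_iff_le_orth.2 (inf_eq_left.1 he')) _ (inv_apply (inv_orbit f w) hvT) _ hvT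
  obtain ⟨u, hu, hu0⟩ := (Submodule.ne_bot_iff H).1 fun e => hS0 (le_bot_iff.1 (e ▸ hSH))
  have hr1 := Isom.inv_pow hHi (r - 1) u hu
  have hyu : y u = (y ^ (r - 1)) u := by
    rw [← sub_eq_zero]
    refine hH _ (H.sub_mem (inv_apply hHi hu) hr1) fun z hz => ?_
    have h1 := hnull (u + z) (H.add_mem hu hz)
    simp only [map_add, LinearMap.add_apply, hnull u hu, hnull z hz, zero_add, add_zero] at h1
    have h2 : B (y z) u = - B ((y ^ (r - 1)) u) z := by
      rw [GLOrder.alt_swap halt u (y z)]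
      conv_lhs => rw [← h.apply_pred u, h.iso]
    rw [map_sub, LinearMap.sub_apply]
    linear_combination h1 - h2
  have hy2 : (y ^ 2) u = u := by
    rw [pow_two, Module.End.mul_apply]
    nth_rw 1 [hyu]
    rw [h.apply_pred]
  have hy2k : ∀ k, (y ^ (2 * k)) u = u := by
    intro k
    induction k with
    | zero => simp
    | succ k ih => rw [mul_add, mul_one, pow_add, Module.End.mul_apply, hy2, ih]
  obtain ⟨k, hk⟩ := (Fact.out : r.Prime).odd_of_ne_two hr2
  have h3 := LinearMap.congr_fun h.pow u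
  rw [hk, pow_succ', Module.End.mul_apply, hy2k, Module.End.one_apply] at h3
  have h4 : u ∈ H ⊓ fix y := ⟨hu, mem_fix.2 h3⟩
  rw [hHf, Submodule.mem_bot] at h4
  exact hu0 h4

/-- A piece of dimension `c`. -/
theorem exists_nd_piece (h : Isom (-1 : F) B y r) (hr2 : r ≠ 2) (halt : ∀ x, B x x = 0) {X : Submodule F V}
    (hXi : Inv y X) (hX : NdOn B X) (hXf : X ⊓ fix y = ⊥) (hX0 : X ≠ ⊥) :
    ∃ H : Submodule F V, H ≤ X ∧ Inv y H ∧ NdOn B H ∧
      finrank F H = (if Even (orderOf (Fintype.card F : ZMod r)) then orderOf (Fintype.card F : ZMod r)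
        else 2 * orderOf (Fintype.card F : ZMod r)) := by
  classical
  obtain ⟨S, hSX, hSi, hS0, hmin⟩ := exists_minimal_invariant y hXi hX0
  have hSf : S ⊓ fix y = ⊥ := le_bot_iff.1 ((inf_le_inf_right _ hSX).trans hXf.le)
  have hSd := finrank_simple h.rF h.pow hSi hS0 hmin fun hle => hS0 (by rw [← hSf, inf_eq_left.2 hle])
  rcases hmin _ (inv_inf hSi (h.inv_orth hSi)) inf_le_left with e | e
  · have hSnd : NdOn B S := fun x hx hx0 => by
      have : x ∈ S ⊓ orth B S := ⟨hx, (mem_orth' h.sym).2 hx0⟩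
      rwa [e, Submodule.mem_bot] at this
    refine ⟨S, hSX, hSi, hSnd, ?_⟩
    rw [if_pos (hSd ▸ even_of_ndOn halt hSnd), hSd]
  · have hS : Iso0 B S := iso0_iff_le_orth.2 (inf_eq_left.1 e)
    obtain ⟨H, hSH, hHX, hHi, hH, hHd⟩ := exists_hyperbolic h hXi hX hSi hSX hS
    by_cases he : Even (orderOf (Fintype.card F : ZMod r))
    · obtain ⟨f, hf, hSker⟩ := exists_type h hSi hS0 hmin hSf
      obtain ⟨T, hTH, hTi, hT, hTd⟩ := exists_nd_irreducible h hr2 halt he hSH hSi hS hHi hH
        (le_bot_iff.1 ((inf_le_inf_right _ hHX).trans hXf.le)) hS0 hHd hf hSker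
      exact ⟨T, hTH.trans hHX, hTi, hT, by rw [if_pos he, hTd]⟩
    · exact ⟨H, hHX, hHi, hH, by rw [if_neg he, hHd, hSd]⟩

/-- Every number of pieces. -/
theorem exists_nd_pieces (h : Isom (-1 : F) B y r) (hr2 : r ≠ 2) (halt : ∀ x, B x x = 0) {c : ℕ}
    (hc : c = if Even (orderOf (Fintype.card F : ZMod r)) then orderOf (Fintype.card F : ZMod r)
      else 2 * orderOf (Fintype.card F : ZMod r)) :
    ∀ (s : ℕ) (X : Submodule F V), Inv y X → NdOn B X → X ⊓ fix y = ⊥ → s * c ≤ finrank F X →
      ∃ W : Submodule F V, W ≤ X ∧ Inv y W ∧ NdOn B W ∧ finrank F W = s * c := by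
  intro s
  induction s with
  | zero => exact fun X _ _ _ _ => ⟨⊥, bot_le, (Submodule.map_bot y).le, ndOn_bot B, by rw [finrank_bot, zero_mul]⟩
  | succ s ih =>
    intro X hXi hX hXf hd
    have hcpos : 0 < c := by
      have := orderOf_card_pos h.rF
      split_ifs at hc <;> omega
    rw [add_mul, one_mul] at hd
    obtain ⟨H, hHX, hHi, hH, hHd⟩ := exists_nd_piece h hr2 halt hXi hX hXf fun e => by
      rw [e, finrank_bot] at hd; omega
    rw [← hc] at hHd
    have hR := finrank_inf_orth h.sym hX hHX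
    obtain ⟨W, hW, hWi, hWn, hWd⟩ := ih (X ⊓ orth B H) (inv_inf hXi (h.inv_orth hHi))
      (ndOn_inf_orth h.sym hX hH hHX) (le_bot_iff.1 ((inf_le_inf_right _ inf_le_left).trans hXf.le)) (by omega)
    have ho : W ≤ orth B H := hW.trans inf_le_right
    exact ⟨H ⊔ W, sup_le hHX (hW.trans inf_le_left), inv_sup hHi hWi, (hH.sup h.sym hWn ho).1,
      by rw [(hH.sup h.sym hWn ho).2, hHd, hWd, add_mul, one_mul, add_comm]⟩

/-- The dimensions of invariant non-degenerate subspaces. -/
theorem nd_dims (h : Isom (-1 : F) B y r) (halt : ∀ x, B x x = 0) {c : ℕ}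
    (hc : c = if Even (orderOf (Fintype.card F : ZMod r)) then orderOf (Fintype.card F : ZMod r)
      else 2 * orderOf (Fintype.card F : ZMod r)) {W : Submodule F V} (hWi : Inv y W) (hW : NdOn B W) :
    ∃ s, finrank F W = finrank F ↥(W ⊓ fix y) + s * c := by
  obtain ⟨s, hs, -⟩ := exists_dims h.rF h.pow hWi
  split_ifs at hc with he
  · exact ⟨s, by rw [hc, hs]⟩
  · have hj : NdOn B (W ⊓ fix y) := by
      intro x hx hx0
      refine hW x hx.1 fun z hz => ?_
      obtain ⟨C, hCi, hCW, hdis, hsup⟩ := exists_invariant_complement h.rF one_ne_zero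
        (by rw [one_smul, h.pow]) hWi (inv_inf hWi (inv_fix y)) inf_le_left
      rw [← hsup] at hz
      obtain ⟨a, ha, b, hb, rfl⟩ := Submodule.mem_sup.1 hz
      have hCr : C ≤ LinearMap.range (y - 1) := by
        intro v hv
        have hinj : Function.Injective ((y - 1).restrict (p := C) (q := C)
            fun a ha => C.sub_mem (inv_apply hCi ha) ha) := by
          rw [injective_iff_map_eq_zero]
          intro a ha
          have h1 : (a : V) ∈ fix y := LinearMap.mem_ker.2 (congrArg Subtype.val ha)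
          have h2 : (a : V) ∈ W ⊓ fix y ⊓ C := ⟨⟨hCW a.2, h1⟩, a.2⟩
          rw [hdis, Submodule.mem_bot] at h2
          exact Subtype.ext h2
        obtain ⟨a, ha⟩ := (LinearMap.injective_iff_surjective.1 hinj) ⟨v, hv⟩
        exact ⟨a, congrArg Subtype.val ha⟩
      rw [map_add, hx0 a ha, h.range_le_orth_fix (hCr hb) x hx.2, add_zero]
    have h1 := even_of_ndOn halt hW
    have h2 := even_of_ndOn halt hj
    rw [hs, Nat.even_add] at h1
    have h3 := h1.1 h2
    obtain ⟨t, ht⟩ := (Nat.even_mul.1 h3).resolve_right he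
    exact ⟨t, by rw [hc, hs, ht]; ring⟩

/-- The sufficient condition. -/
theorem hasNd_of_cond (h : Isom (-1 : F) B y r) (hr2 : r ≠ 2) (halt : ∀ x, B x x = 0) {c : ℕ}
    (hc : c = if Even (orderOf (Fintype.card F : ZMod r)) then orderOf (Fintype.card F : ZMod r)
      else 2 * orderOf (Fintype.card F : ZMod r)) {n m : ℕ} (hn : finrank F V = n) (hm : Even m) (hmn : m ≤ n)
    (hk : m % c ≤ n % c) : HasNd B y m := by
  have hce : Even c := by
    split_ifs at hc with he
    · rw [hc]; exact he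
    · rw [hc]; exact even_two_mul _
  obtain ⟨N, hN⟩ : ∃ N, finrank F ↥(LinearMap.range (y - 1)) = N * c := by
    obtain ⟨N, hN⟩ := exists_range_dim h
    split_ifs at hc with he
    · exact ⟨N, by rw [hc, hN]⟩
    · obtain ⟨t, ht⟩ := even_of_odd h hr2 (Nat.not_even_iff_odd.1 he) hN
      exact ⟨t, by rw [hc, hN, ht]; ring⟩
  have hadd := h.finrank_fix_add_range
  rw [hN, hn] at hadd
  set s := min N (m / c) with hs
  have hsN : s * c ≤ N * c := Nat.mul_le_mul_right _ (min_le_left _ _)
  have hsm : s * c ≤ m := (Nat.mul_le_mul_right _ (min_le_right _ _)).trans (Nat.div_mul_le_self m c)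
  have hj : m - s * c ≤ finrank F ↥(fix y) := by
    rcases min_choice N (m / c) with e | e <;> rw [hs, e]
    · omega
    · have h1 := Nat.div_add_mod m c
      rw [mul_comm] at h1
      have h2 : n % c = finrank F ↥(fix y) % c := by rw [← hadd, Nat.add_mul_mod_self_right]
      have := Nat.mod_le (finrank F ↥(fix y)) c
      omega
  obtain ⟨j, hje⟩ : Even (m - s * c) := Nat.even_sub hsm |>.2 (iff_of_true hm (hce.mul_left s))
  obtain ⟨U, hU, hUn, hUd⟩ := exists_nd_fix h halt (j := j) (by omega)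
  obtain ⟨W, hW, hWi, hWn, hWd⟩ := exists_nd_pieces h hr2 halt hc s _ (Isom.inv_range y) h.ndOn_range
    (by rw [inf_comm, h.fix_inf_range]) (by rw [hN]; exact hsN)
  have ho : W ≤ orth B U := fun v hv u hu => h.range_le_orth_fix (hW hv) u (hU hu)
  exact ⟨U ⊔ W, by rw [(hUn.sup h.sym hWn ho).2, hUd, hWd]; omega, (hUn.sup h.sym hWn ho).1,
    inv_sup (inv_of_le_fix hU) hWi⟩

end Cfsg.Agent.Elusive
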