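import Cfsg.Agent.Lib.Elusive.Common
import Cfsg.Agent.Lib.SympGeom.Flags
import Cfsg.Agent.Lib.SympGeom.Iso
/-
The symplectic space `F^(2d)`: elements of prime order and the number of isotropic subspaces.
* `spEnd`            : a symplectic matrix as an endomorphism
* `exists_sp_of_isom` : an isometry of any alternating space realised by a symplectic matrix
* `exists_block`     : an element of prime order without fixed vectors in dimension `c`
* `exists_index`     : a prime dividing the number of isotropic `m`-spaces divides some `q^(2l) - 1`, `d - m < l ≤ d`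
-/

set_option autoImplicit false
set_option linter.unusedSectionVars false
set_option linter.style.haveILetI false

namespace Cfsg.Agent.Elusive

open Module
open Cfsg.Agent.PrimeGraphBC (IsSymF isoMon prodForm prodForm_apply)
open Cfsg.Agent.PrimeOrderElt (Inv inv_apply fix mem_fix inv_fix inv_inf orderOf_card_pos exists_dims
  dvd_pow_sub_one_iff)
open Cfsg.Agent.GLOrder Cfsg.Agent.SympGeom

universe u v

variable {F : Type u} [Field F] {d : ℕ}

/-- A symplectic matrix as an endomorphism. -/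
noncomputable def spEnd (x : Matrix.symplecticGroup (Fin d) F) : Module.End F (Fin d ⊕ Fin d → F) :=
  Matrix.toLinAlgEquiv' x.1

theorem spEnd_apply (x : Matrix.symplecticGroup (Fin d) F) (v : Fin d ⊕ Fin d → F) :
    spEnd x v = x.1.mulVec v := rfl

theorem spEnd_mem (x : Matrix.symplecticGroup (Fin d) F) : spEnd x ∈ isoMon (sympB d F) :=
  fun u v => sympB_mulVec x u v

theorem spEnd_pow (x : Matrix.symplecticGroup (Fin d) F) (n : ℕ) : spEnd x ^ n = spEnd (x ^ n) := by
  rw [spEnd, spEnd, SubmonoidClass.coe_pow, map_pow]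

theorem spEnd_eq_smul_iff (x : Matrix.symplecticGroup (Fin d) F) (z : F) :
    spEnd x = z • (1 : Module.End F (Fin d ⊕ Fin d → F)) ↔
      (x : Matrix (Fin d ⊕ Fin d) (Fin d ⊕ Fin d) F) = z • (1 : Matrix (Fin d ⊕ Fin d) (Fin d ⊕ Fin d) F) := by
  rw [spEnd, ← (Matrix.toLinAlgEquiv' (R := F) (n := Fin d ⊕ Fin d)).injective.eq_iff, map_smul, map_one]

theorem sympB_isSym (d : ℕ) : IsSymF (-1 : F) (sympB d F) :=
  IsSymF.of_alt sympB_self sympB_nondeg

/-- An isometry of an alternating space as a symplectic matrix. -/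
theorem exists_sp_of_isom {V : Type v} [AddCommGroup V] [Module F V] [FiniteDimensional F V]
    {B : LinearMap.BilinForm F V} (halt : ∀ x, B x x = 0) (hnd : ∀ x, (∀ y, B x y = 0) → x = 0)
    (hd : finrank F V = 2 * d) {y : Module.End F V} (hy : y ∈ isoMon B) :
    ∃ x : Matrix.symplecticGroup (Fin d) F,
      (∀ (n : ℕ) (z : F), y ^ n = z • (1 : Module.End F V) →
        spEnd x ^ n = z • (1 : Module.End F (Fin d ⊕ Fin d → F))) ∧
      (∀ z : F, spEnd x = z • (1 : Module.End F (Fin d ⊕ Fin d → F)) → y = z • (1 : Module.End F V)) ∧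
      ∀ m : ℕ, HasInv (sympB d F) (spEnd x) m → HasInv B y m := by
  obtain ⟨Φ, hΦ⟩ := exists_sympEquiv B halt hnd hd
  set L : Module.End F (Fin d ⊕ Fin d → F) := Φ.symm.toLinearMap ∘ₗ y ∘ₗ Φ.toLinearMap with hL
  have hmem : LinearMap.toMatrix' L ∈ Matrix.symplecticGroup (Fin d) F :=
    (mem_symplecticGroup_iff_preserves _).2 fun a b => by
      rw [LinearMap.toMatrix'_mulVec, LinearMap.toMatrix'_mulVec, ← hΦ, ← hΦ a b]
      show B (Φ (Φ.symm (y (Φ a)))) (Φ (Φ.symm (y (Φ b)))) = _
      rw [Φ.apply_symm_apply, Φ.apply_symm_apply]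
      exact hy _ _
  set x : Matrix.symplecticGroup (Fin d) F := ⟨_, hmem⟩
  have hxv : ∀ v, Φ (spEnd x v) = y (Φ v) := fun v => by
    show Φ ((LinearMap.toMatrix' L).mulVec v) = _
    rw [LinearMap.toMatrix'_mulVec]
    exact Φ.apply_symm_apply _
  have hpow : ∀ (n : ℕ) v, Φ ((spEnd x ^ n) v) = (y ^ n) (Φ v) := by
    intro n
    induction n with
    | zero => intro v; rfl
    | succ n ih =>
      intro v
      rw [pow_succ', pow_succ', Module.End.mul_apply, Module.End.mul_apply, hxv, ih]
  refine ⟨x, fun n z hz => LinearMap.ext fun v => Φ.injective ?_, fun z hz => LinearMap.ext fun v => ?_, ?_⟩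
  · rw [hpow, hz]; simp
  · obtain ⟨v, rfl⟩ := Φ.surjective v
    rw [← hxv, hz]; simp
  · rintro m ⟨W, hWd, hW, hWi⟩
    refine ⟨W.map Φ.toLinearMap, by rw [← hWd]; exact Φ.finrank_map_eq W, ?_, ?_⟩
    · rintro _ ⟨a, ha, rfl⟩ _ ⟨b, hb, rfl⟩
      exact (hΦ a b).trans (hW a ha b hb)
    · rintro _ ⟨_, ⟨a, ha, rfl⟩, rfl⟩
      exact ⟨spEnd x a, inv_apply hWi ha, hxv a⟩

theorem piForm_alt {W : Type v} [AddCommGroup W] [Module F W] {B : LinearMap.BilinForm F W}
    (h : ∀ x, B x x = 0) {u : ℕ} (x : Fin u → W) : piForm B u x x = 0 := by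
  rw [piForm_apply]
  exact Finset.sum_eq_zero fun j _ => h _

section Block

variable [Fintype F] {r : ℕ} [Fact r.Prime]

/-- An element of order `r` without fixed vectors in dimension `c`. -/
theorem exists_block (hr : (r : F) ≠ 0) (hr2 : r ≠ 2) {c' : ℕ}
    (hc' : 2 * c' = if Even (orderOf (Fintype.card F : ZMod r)) then orderOf (Fintype.card F : ZMod r)
      else 2 * orderOf (Fintype.card F : ZMod r)) :
    ∃ g : Module.End F (Fin c' ⊕ Fin c' → F), Isom (-1 : F) (sympB c' F) g r ∧ fix g = ⊥ := by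
  set i := orderOf (Fintype.card F : ZMod r) with hi
  have hipos : 0 < i := orderOf_card_pos hr
  have hc0 : 0 < c' := by split_ifs at hc' <;> omega
  have hdvd : r ∣ Nat.card (Matrix.symplecticGroup (Fin c') F) := by
    rw [card_Sp, Nat.card_eq_fintype_card]
    refine (Dvd.dvd.trans ?_ (Finset.dvd_prod_of_mem _ (Finset.mem_range.2 (show c' - 1 < c' by omega)))).mul_left _
    rw [dvd_pow_sub_one_iff, show 2 * (c' - 1 + 1) = 2 * c' by omega, hc', ← hi]
    split_ifs
    · exact dvd_rfl
    · exact dvd_mul_left _ _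
  obtain ⟨x, hx⟩ := PrimeGraphBC.spHas_prime (Fact.out : r.Prime) hdvd
  have h : Isom (-1 : F) (sympB c' F) (spEnd x) r := ⟨sympB_isSym c', spEnd_mem x,
    by rw [spEnd_pow, ← hx, pow_orderOf_eq_one, spEnd, OneMemClass.coe_one, map_one],
    (Fact.out : r.Prime).pos, hr⟩
  refine ⟨spEnd x, h, ?_⟩
  obtain ⟨N, hN⟩ := exists_range_dim h
  rw [← hi] at hN
  have hy1 : spEnd x ≠ 1 := fun e => by
    have hx1 : x = 1 := Subtype.ext (Matrix.toLinAlgEquiv'.injective (e.trans (map_one _).symm))
    rw [hx1, orderOf_one] at hx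
    exact (Fact.out : r.Prime).one_lt.ne hx
  have hN0 : 0 < N := Nat.pos_of_ne_zero fun e => range_ne_bot hy1
    (Submodule.finrank_eq_zero.1 (by rw [hN, e, zero_mul]))
  have hadd := h.finrank_fix_add_range
  rw [finrank_sympSpace, hN, hc'] at hadd
  have hN2 : ¬ Even i → 2 ≤ N := fun ho => by
    have := even_of_odd h hr2 (Nat.not_even_iff_odd.1 ho) hN
    rw [Nat.even_iff] at this
    omega
  refine Submodule.finrank_eq_zero.1 ?_
  split_ifs at hadd with he
  · have := Nat.le_mul_of_pos_left i hN0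
    omega
  · have := Nat.mul_le_mul_right i (hN2 he)
    omega

/-- The witness: `u` copies of the block twisted by the exponents, and fixed vectors. -/
theorem exists_blocks (hr : (r : F) ≠ 0) (hr2 : r ≠ 2) {c' d0 u : ℕ}
    (hc' : 2 * c' = if Even (orderOf (Fintype.card F : ZMod r)) then orderOf (Fintype.card F : ZMod r)
      else 2 * orderOf (Fintype.card F : ZMod r))
    (hd : d0 + u * c' = d) (hu : 0 < u) (e : Fin u → ℕ) (he : ∀ j, ¬ r ∣ e j) :
    ∃ (g : Module.End F (Fin c' ⊕ Fin c' → F)) (x : Matrix.symplecticGroup (Fin d) F),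
      Isom (-1 : F) (sympB c' F) g r ∧ fix g = ⊥ ∧
      spEnd x ^ r = 1 ∧ (∀ z : F, spEnd x ≠ z • (1 : Module.End F (Fin d ⊕ Fin d → F))) ∧
      ∀ m : ℕ, HasInv (sympB d F) (spEnd x) m →
        HasInv (prodForm (sympB d0 F) (piForm (sympB c' F) u)) (blockMap (Fin d0 ⊕ Fin d0 → F) g e) m := by
  obtain ⟨g, hg, hgf⟩ := exists_block hr hr2 hc'
  have hP := sympB_isSym (F := F) d0
  have hY := blocks_isom hP hg e (u := u)
  have hdim : finrank F ((Fin d0 ⊕ Fin d0 → F) × (Fin u → (Fin c' ⊕ Fin c' → F))) = 2 * d := by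
    rw [Module.finrank_prod, finrank_sympSpace, Module.finrank_pi_fintype, Finset.sum_const,
      Finset.card_univ, Fintype.card_fin, finrank_sympSpace, smul_eq_mul, ← hd]
    ring
  obtain ⟨x, hx1, hx2, hx3⟩ := exists_sp_of_isom
    (B := prodForm (sympB d0 F) (piForm (sympB c' F) u))
    (fun z => by rw [prodForm_apply, sympB_self, piForm_alt sympB_self, add_zero]) hY.sym.nd hdim hY.iso
  refine ⟨g, x, hg, hgf, ?_, fun z hz => ?_, hx3⟩
  · rw [hx1 r 1 (by rw [hY.pow, one_smul]), one_smul]
  · have hc0 : 0 < c' := by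
      have := orderOf_card_pos hr
      split_ifs at hc' <;> omega
    have hfix := finrank_blocks_fix (P := Fin d0 ⊕ Fin d0 → F) hg.pow hgf he
    have hne : blockMap (Fin d0 ⊕ Fin d0 → F) g e ≠ 1 := fun h1 => by
      have htop : fix (blockMap (Fin d0 ⊕ Fin d0 → F) g e) = ⊤ := by
        rw [eq_top_iff]; intro v _; rw [mem_fix, h1, Module.End.one_apply]
      rw [htop, finrank_top, hdim, finrank_sympSpace] at hfix
      have := Nat.mul_pos hu hc0
      omega
    haveI : Nontrivial ((Fin d0 ⊕ Fin d0 → F) × (Fin u → (Fin c' ⊕ Fin c' → F))) :=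
      Module.nontrivial_of_finrank_pos (R := F) (by rw [hdim]; have := Nat.mul_pos hu hc0; omega)
    exact hY.ne_scalar ((Fact.out : r.Prime).odd_of_ne_two hr2) hne z (hx2 z hz)

end Block

section Count

variable [Fintype F]

/-- Totally isotropic `m`-subspaces of `F^(2d)`. -/
abbrev IsoSub (F : Type u) [Field F] (d m : ℕ) : Type u :=
  {W : Submodule F (Fin d ⊕ Fin d → F) // finrank F W = m ∧ Iso0 (sympB d F) W}

theorem linearIndependent_frame (t : Frame (sympB d F) d) : LinearIndependent F t.1.1 := by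
  rw [Fintype.linearIndependent_iff]
  intro g hg j
  have := congrArg (fun v => sympB d F v (t.1.2 j)) hg
  simpa [t.2.2.2] using this

theorem card_isoSub_mul (m : ℕ) (hm : m ≤ d) :
    (∏ i : Fin d, (Fintype.card F ^ (2 * (d - (i : ℕ))) - 1)) =
      Nat.card (IsoSub F d m) *
        ∏ i : Fin d, (Fintype.card F ^ (if (i : ℕ) < m then m - (i : ℕ) else 2 * (d - (i : ℕ))) - 1) := by
  classical
  haveI : Finite (Frame (sympB d F) d) := Subtype.finite
  let cW : Submodule F (Fin d ⊕ Fin d → F) → Fin d → Submodule F (Fin d ⊕ Fin d → F) :=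
    fun W i => if (i : ℕ) < m then W else ⊤
  let sp : Frame (sympB d F) d → Submodule F (Fin d ⊕ Fin d → F) := fun t =>
    Submodule.span F (Set.range (t.1.1 ∘ Fin.castLE hm))
  have hspd : ∀ t, finrank F (sp t) = m := fun t =>
    (finrank_span_eq_card ((linearIndependent_frame t).comp _ (Fin.castLE_injective hm))).trans
      (Fintype.card_fin m)
  have hspi : ∀ t, Iso0 (sympB d F) (sp t) := fun t => by
    refine iso0_iff_le_orth.2 (Submodule.span_le.2 ?_)
    rintro _ ⟨a, rfl⟩ s hs
    induction hs using Submodule.span_induction with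
    | mem x hx => obtain ⟨b, rfl⟩ := hx; exact t.2.1 _ _
    | zero => simp
    | add a b _ _ ha hb => rw [map_add, LinearMap.add_apply, ha, hb, add_zero]
    | smul c a _ ha => rw [map_smul, LinearMap.smul_apply, ha, smul_zero]
  let φ : Frame (sympB d F) d → IsoSub F d m := fun t => ⟨sp t, hspd t, hspi t⟩
  have hfib : ∀ (W : IsoSub F d m) (t : Frame (sympB d F) d), φ t = W ↔ ∀ i, t.1.1 i ∈ cW W.1 i := by
    intro W t
    constructor
    · rintro rfl i
      simp only [cW]
      split_ifs with h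
      · exact Submodule.subset_span ⟨⟨i, h⟩, rfl⟩
      · trivial
    · intro h
      refine Subtype.ext (Submodule.eq_of_le_of_finrank_eq (Submodule.span_le.2 ?_) ((hspd t).trans W.2.1.symm))
      rintro _ ⟨a, rfl⟩
      have := h (Fin.castLE hm a)
      simp only [cW, Fin.val_castLE, if_pos a.2] at this
      exact this
  have hcard : ∀ W : IsoSub F d m, Nat.card (FrameIn (sympB d F) d (cW W.1)) =
      ∏ i : Fin d, ((Nat.card F ^ (if (i : ℕ) < m then m - (i : ℕ) else 2 * (d - (i : ℕ))) - 1) *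
        Nat.card F ^ (2 * (d - (i : ℕ) - 1) + 1)) := by
    intro W
    refine card_frameIn d _ sympB_self sympB_nondeg finrank_sympSpace _ _ ?_ fun i => ?_
    · intro a b hab
      have hab' : (a : ℕ) ≤ b := hab
      simp only [cW]
      split_ifs with h1 h2
      · exact le_rfl
      · exact le_top
      · omega
      · exact le_rfl
    · simp only [cW]
      by_cases h : (i : ℕ) < m
      · simp only [if_pos h]
        have e : cW W.1 i = W.1 := if_pos h
        exact .inr ⟨W.2.2, (congrArg (fun S : Submodule F (Fin d ⊕ Fin d → F) => finrank F S) e).trans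
          (W.2.1.trans (by omega))⟩
      · simp only [if_neg h]
        exact .inl ⟨trivial, trivial⟩
  have htot : Nat.card (Frame (sympB d F) d) =
      ∏ i : Fin d, ((Nat.card F ^ (2 * (d - (i : ℕ))) - 1) * Nat.card F ^ (2 * (d - (i : ℕ) - 1) + 1)) := by
    rw [← card_frameIn d (sympB d F) sympB_self sympB_nondeg finrank_sympSpace (fun _ => ⊤) _
      monotone_const fun i => .inl ⟨rfl, rfl⟩]
    exact Nat.card_congr (Equiv.subtypeUnivEquiv fun t i => Submodule.mem_top).symm
  have hkey : Nat.card (Frame (sympB d F) d) = Nat.card (IsoSub F d m) *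
      ∏ i : Fin d, ((Nat.card F ^ (if (i : ℕ) < m then m - (i : ℕ) else 2 * (d - (i : ℕ))) - 1) *
        Nat.card F ^ (2 * (d - (i : ℕ) - 1) + 1)) := by
    haveI := Fintype.ofFinite (IsoSub F d m)
    rw [← Nat.card_congr (Equiv.sigmaFiberEquiv φ), Nat.card_sigma,
      Finset.sum_congr rfl fun W _ => (Nat.card_congr (Equiv.subtypeEquivRight (hfib W))).trans (hcard W),
      Finset.sum_const, smul_eq_mul, Finset.card_univ, ← Nat.card_eq_fintype_card]
  rw [htot, Finset.prod_mul_distrib, Finset.prod_mul_distrib, ← mul_assoc, Nat.card_eq_fintype_card] at hkey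
  exact Nat.eq_of_mul_eq_mul_right (Finset.prod_pos fun i _ => pow_pos Fintype.card_pos _) hkey

variable {r : ℕ} [Fact r.Prime]

/-- A prime dividing the number of isotropic `m`-spaces. -/
theorem exists_index {m : ℕ} (hm : m ≤ d) (hr : r ∣ Nat.card (IsoSub F d m)) :
    ∃ l, d - m < l ∧ l ≤ d ∧ r ∣ Fintype.card F ^ (2 * l) - 1 := by
  classical
  have h := card_isoSub_mul (F := F) m hm
  rw [← Finset.prod_filter_mul_prod_filter_not Finset.univ (fun i : Fin d => (i : ℕ) < m),
    ← Finset.prod_filter_mul_prod_filter_not Finset.univ (fun i : Fin d => (i : ℕ) < m)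
      (fun i : Fin d => Fintype.card F ^ (if (i : ℕ) < m then m - (i : ℕ) else 2 * (d - (i : ℕ))) - 1),
    ← mul_assoc, Finset.prod_congr rfl (fun i hi => by rw [if_neg (Finset.mem_filter.1 hi).2]) (s₁ :=
      Finset.univ.filter fun i : Fin d => ¬ (i : ℕ) < m)
      (g := fun i : Fin d => Fintype.card F ^ (2 * (d - (i : ℕ))) - 1)
      (f := fun i : Fin d => Fintype.card F ^ (if (i : ℕ) < m then m - (i : ℕ) else 2 * (d - (i : ℕ))) - 1)] at h
  have hpos : 0 < ∏ i ∈ Finset.univ.filter (fun i : Fin d => ¬ (i : ℕ) < m),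
      (Fintype.card F ^ (2 * (d - (i : ℕ))) - 1) :=
    Finset.prod_pos fun i _ => Nat.sub_pos_of_lt (Nat.one_lt_pow (by omega) Fintype.one_lt_card)
  have h' := Nat.eq_of_mul_eq_mul_right hpos h
  obtain ⟨i, hi, hdvd⟩ := (Nat.Prime.prime (Fact.out : r.Prime)).exists_mem_finset_dvd
    (show r ∣ ∏ i ∈ Finset.univ.filter (fun i : Fin d => (i : ℕ) < m),
      (Fintype.card F ^ (2 * (d - (i : ℕ))) - 1) by rw [h']; exact hr.mul_right _)
  exact ⟨d - i, by have := (Finset.mem_filter.1 hi).2; omega, Nat.sub_le _ _, hdvd⟩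

end Count

end Cfsg.Agent.Elusive
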