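import Cfsg.Agent.Lib.Elusive.NdPieces
import Cfsg.Agent.Lib.Elusive.SympMat
import Cfsg.Agent.Lib.SympGeom.Iso
/-
Symplectic elements of prime order and invariant non-degenerate subspaces.
* `exists_sp_nd`        : an isometry realised by a symplectic matrix
* `exists_nd_witness`   : the semisimple witness
* `cayley_of_unipotent`, `cayley_of_skew` : isometries of order `p` and skew nilpotent maps
* `exists_skew_model`   : every admissible type occurs
* `exists_ndSub_index`  : primes dividing the number of non-degenerate subspaces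
-/

set_option autoImplicit false
set_option linter.unusedSectionVars false
set_option linter.style.haveILetI false

namespace Cfsg.Agent.Elusive

open Module Polynomial
open Cfsg.Agent.PrimeGraphBC (IsSymF isoMon prodForm prodForm_apply)
open Cfsg.Agent.PrimeOrderElt (Inv inv_apply fix mem_fix orderOf_card_pos rk)
open Cfsg.Agent.GLOrder (sympB sympB_self sympB_nondeg finrank_sympSpace resForm)

universe u v

section Transport

variable {F : Type u} [Field F] {d : ℕ} {V : Type v} [AddCommGroup V] [Module F V] [FiniteDimensional F V]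

/-- An isometry of an alternating space as a symplectic matrix. -/
theorem exists_sp_nd {B : LinearMap.BilinForm F V} (halt : ∀ x, B x x = 0) (hnd : ∀ x, (∀ y, B x y = 0) → x = 0)
    (hd : finrank F V = 2 * d) {y : Module.End F V} (hy : y ∈ isoMon B) :
    ∃ x : Matrix.symplecticGroup (Fin d) F,
      (∀ (n : ℕ) (z : F), y ^ n = z • (1 : Module.End F V) →
        spEnd x ^ n = z • (1 : Module.End F (Fin d ⊕ Fin d → F))) ∧
      (∀ z : F, spEnd x = z • (1 : Module.End F (Fin d ⊕ Fin d → F)) → y = z • (1 : Module.End F V)) ∧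
      ∀ m : ℕ, HasNd (sympB d F) (spEnd x) m → HasNd B y m := by
  obtain ⟨Φ, hΦ⟩ := SympGeom.exists_sympEquiv B halt hnd hd
  set L : Module.End F (Fin d ⊕ Fin d → F) := Φ.symm.toLinearMap ∘ₗ y ∘ₗ Φ.toLinearMap with hL
  have hmem : LinearMap.toMatrix' L ∈ Matrix.symplecticGroup (Fin d) F :=
    (GLOrder.mem_symplecticGroup_iff_preserves _).2 fun a b => by
      rw [LinearMap.toMatrix'_mulVec, LinearMap.toMatrix'_mulVec, ← hΦ, ← hΦ a b]
      show B (Φ (Φ.symm (y (Φ a)))) (Φ (Φ.symm (y (Φ b)))) = _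
      rw [Φ.apply_symm_apply, Φ.apply_symm_apply]
      exact hy _ _
  set x : Matrix.symplecticGroup (Fin d) F := ⟨_, hmem⟩
  have hxv : ∀ v, Φ (spEnd x v) = y (Φ v) := fun v => by
    show Φ ((LinearMap.toMatrix' L).mulVec v) = _
    rw [LinearMap.toMatrix'_mulVec]
    exact Φ.apply_symm_apply _
  have hpow : ∀ (n : ℕ) v, Φ ((spEnd x ^ n) v) = (y ^ n) (Φ v) := by
    intro n
    induction n with
    | zero => intro v; rfl
    | succ n ih =>
      intro v
      rw [pow_succ', pow_succ', Module.End.mul_apply, Module.End.mul_apply, hxv, ih]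
  refine ⟨x, fun n z hz => LinearMap.ext fun v => Φ.injective ?_, fun z hz => LinearMap.ext fun v => ?_, ?_⟩
  · rw [hpow, hz]; simp
  · obtain ⟨v, rfl⟩ := Φ.surjective v
    rw [← hxv, hz]; simp
  · rintro m ⟨W, hWd, hW, hWi⟩
    refine ⟨W.map Φ.toLinearMap, by rw [← hWd]; exact Φ.finrank_map_eq W, ?_, ?_⟩
    · rintro _ ⟨a, ha, rfl⟩ h0
      rw [show a = 0 from hW a ha fun b hb => (hΦ a b).symm.trans (h0 _ ⟨b, hb, rfl⟩), map_zero]
    · rintro _ ⟨_, ⟨a, ha, rfl⟩, rfl⟩
      exact ⟨spEnd x a, inv_apply hWi ha, hxv a⟩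

end Transport

section Semisimple

variable {F : Type u} [Field F] [Fintype F] {d r : ℕ} [Fact r.Prime]

/-- The witness for odd `r ≠ p`. -/
theorem exists_nd_witness (hr : (r : F) ≠ 0) (hr2 : r ≠ 2) {c : ℕ}
    (hc : c = if Even (orderOf (Fintype.card F : ZMod r)) then orderOf (Fintype.card F : ZMod r)
      else 2 * orderOf (Fintype.card F : ZMod r)) (hcd : c ≤ 2 * d) :
    ∃ x : Matrix.symplecticGroup (Fin d) F, spEnd x ^ r = 1 ∧
      (∀ z : F, spEnd x ≠ z • (1 : Module.End F (Fin d ⊕ Fin d → F))) ∧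
      ∀ m, HasNd (sympB d F) (spEnd x) m → m % c ≤ (2 * d) % c := by
  obtain ⟨c', hc'⟩ : ∃ c', 2 * c' = c := by
    rcases Nat.even_or_odd (orderOf (Fintype.card F : ZMod r)) with he | ho
    · obtain ⟨k, hk⟩ := he
      exact ⟨k, by rw [hc, if_pos ⟨k, hk⟩]; omega⟩
    · exact ⟨_, by rw [hc, if_neg (Nat.not_even_iff_odd.2 ho)]⟩
  have hcpos : 0 < c' := by
    have := orderOf_card_pos hr
    split_ifs at hc <;> omega
  obtain ⟨g, hg, hgf⟩ := exists_block hr hr2 (hc'.trans hc)
  have he : ∀ _ : Fin (d / c'), ¬ r ∣ 1 := fun _ => (Fact.out : r.Prime).not_dvd_one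
  have hY := blocks_isom (sympB_isSym (F := F) (d % c')) hg (fun _ : Fin (d / c') => 1)
  have halt : ∀ z, prodForm (sympB (d % c') F) (piForm (sympB c' F) (d / c')) z z = 0 :=
    fun z => by rw [prodForm_apply, sympB_self, piForm_alt sympB_self, add_zero]
  have hdim : finrank F ((Fin (d % c') ⊕ Fin (d % c') → F) × (Fin (d / c') → (Fin c' ⊕ Fin c' → F))) = 2 * d := by
    rw [Module.finrank_prod, finrank_sympSpace, Module.finrank_pi_fintype, Finset.sum_const,
      Finset.card_univ, Fintype.card_fin, finrank_sympSpace, smul_eq_mul]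
    have := Nat.mod_add_div d c'
    rw [mul_comm] at this
    linarith
  obtain ⟨x, hx1, hx2, hx3⟩ := exists_sp_nd halt hY.sym.nd hdim hY.iso
  have hu : 0 < d / c' := Nat.div_pos (by omega) hcpos
  have hfix := finrank_blocks_fix (P := Fin (d % c') ⊕ Fin (d % c') → F) hg.pow hgf he
  rw [finrank_sympSpace] at hfix
  refine ⟨x, by rw [hx1 r 1 (by rw [hY.pow, one_smul]), one_smul], fun z hz => ?_, fun m hm => ?_⟩
  · haveI : Nontrivial ((Fin (d % c') ⊕ Fin (d % c') → F) × (Fin (d / c') → (Fin c' ⊕ Fin c' → F))) :=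
      Module.nontrivial_of_finrank_pos (R := F) (by rw [hdim]; omega)
    refine hY.ne_scalar ((Fact.out : r.Prime).odd_of_ne_two hr2) (fun h1 => ?_) z (hx2 z hz)
    have htop : fix (blockMap (Fin (d % c') ⊕ Fin (d % c') → F) g (fun _ : Fin (d / c') => 1)) = ⊤ := by
      rw [eq_top_iff]; intro v _; rw [mem_fix, h1, Module.End.one_apply]
    rw [htop, finrank_top, hdim] at hfix
    have := Nat.mod_lt d hcpos
    omega
  · obtain ⟨W, hWd, hW, hWi⟩ := hx3 m hm
    obtain ⟨s, hs⟩ := nd_dims hY halt hc hWi hW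
    have hle : finrank F ↥(W ⊓ fix (blockMap (Fin (d % c') ⊕ Fin (d % c') → F) g (fun _ : Fin (d / c') => 1))) ≤
        2 * (d % c') := hfix ▸ Submodule.finrank_mono inf_le_right
    rw [hWd] at hs
    have h2 : (2 * d) % c = 2 * (d % c') := by rw [← hc', Nat.mul_mod_mul_left]
    rw [hs, Nat.add_mul_mod_self_right, h2]
    exact (Nat.mod_le _ _).trans hle

end Semisimple

section Cayley

variable {F : Type u} [Field F] {V : Type v} [AddCommGroup V] [Module F V] [FiniteDimensional F V]
  {B : LinearMap.BilinForm F V} {p : ℕ} [Fact p.Prime]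

theorem inv_units (u : (Module.End F V)ˣ) {W : Submodule F V} (hW : Inv (u : Module.End F V) W) :
    Inv ((u⁻¹ : (Module.End F V)ˣ) : Module.End F V) W := by
  have hinj : Function.Injective ((u : Module.End F V).restrict (p := W) (q := W) fun a ha => inv_apply hW ha) := by
    intro a b hab
    have := congrArg (fun z : W => ((u⁻¹ : (Module.End F V)ˣ) : Module.End F V) (z : V)) hab
    simp only [LinearMap.coe_restrict_apply, ← Module.End.mul_apply, Units.inv_mul, Module.End.one_apply] at this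
    exact Subtype.ext this
  rintro _ ⟨v, hv, rfl⟩
  obtain ⟨a, ha⟩ := (LinearMap.injective_iff_surjective.1 hinj) ⟨v, hv⟩
  have : (u : Module.End F V) (a : V) = v := congrArg Subtype.val ha
  rw [← this, ← Module.End.mul_apply, Units.inv_mul, Module.End.one_apply]
  exact a.2

theorem inv_of_affine {f g : Module.End F V} {a b : F} (hfg : g = a • f + b • (1 : Module.End F V))
    {W : Submodule F V} (hW : Inv f W) : Inv g W := by
  rintro _ ⟨v, hv, rfl⟩
  rw [hfg, LinearMap.add_apply, LinearMap.smul_apply, LinearMap.smul_apply, Module.End.one_apply]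
  exact W.add_mem (W.smul_mem _ (inv_apply hW hv)) (W.smul_mem _ hv)

/-- From an isometry of order dividing `p` to a skew nilpotent map. -/
theorem cayley_of_unipotent [Nontrivial V] [CharP F p] (h2 : (2 : F) ≠ 0) {y : Module.End F V} (hy : y ∈ isoMon B)
    (hyp : y ^ p = 1) : ∃ K : Module.End F V, Skew B K ∧ K ^ p = 0 ∧ ∀ W : Submodule F V, Inv K W → Inv y W := by
  haveI : CharP (Module.End F V) p := charP_of_injective_algebraMap (algebraMap F (Module.End F V)).injective p
  have hodd : Odd p := (Fact.out : p.Prime).odd_of_ne_two fun e => h2 (by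
    subst e; exact_mod_cast CharP.cast_eq_zero F 2)
  have hunit : IsUnit (y + 1) := by
    rw [LinearMap.isUnit_iff_ker_eq_bot, LinearMap.ker_eq_bot']
    intro v hv
    rw [LinearMap.add_apply, Module.End.one_apply, add_eq_zero_iff_eq_neg] at hv
    have hk : ∀ k : ℕ, (y ^ k) v = (-1 : F) ^ k • v := by
      intro k
      induction k with
      | zero => simp
      | succ k ih => rw [pow_succ', Module.End.mul_apply, ih, map_smul, hv, pow_succ, mul_smul, neg_one_smul]
    have h1 := hk p
    rw [hyp, Module.End.one_apply, hodd.neg_one_pow, neg_one_smul] at h1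
    have h3 : (2 : F) • v = 0 := by rw [two_smul]; nth_rw 2 [h1]; exact add_neg_cancel v
    exact (smul_eq_zero.1 h3).resolve_left h2
  obtain ⟨M, hM⟩ := hunit
  set N := ((M⁻¹ : (Module.End F V)ˣ) : Module.End F V)
  refine ⟨(y - 1) * N, fun u v => ?_, ?_, fun W hW => ?_⟩
  · have hs : ∀ v, (y + 1) (N v) = v := fun v => by
      rw [← hM, ← Module.End.mul_apply, Units.mul_inv, Module.End.one_apply]
    obtain ⟨a, ha⟩ : ∃ a, N u = a := ⟨_, rfl⟩
    obtain ⟨b, hb⟩ : ∃ b, N v = b := ⟨_, rfl⟩
    conv_lhs => rw [Module.End.mul_apply, ha, ← hs v, hb]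
    conv_rhs => rw [Module.End.mul_apply, hb, ← hs u, ha]
    simp only [LinearMap.add_apply, LinearMap.sub_apply, Module.End.one_apply, map_add, map_sub, hy a b]
    ring
  · have hc : Commute (y - 1) N := by
      refine Commute.units_inv_right (u := M) ?_
      rw [hM]
      exact ((Commute.refl y).sub_left (Commute.one_left y)).add_right (Commute.one_right _)
    rw [hc.mul_pow, sub_pow_char_of_commute _ (Commute.one_right y), hyp, one_pow, sub_self, zero_mul]
  · have e : (y - 1) * N = 1 - (2 : F) • N := by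
      rw [show y - 1 = (y + 1) - (2 : F) • (1 : Module.End F V) by rw [two_smul]; abel, sub_mul, ← hM,
        Units.mul_inv, smul_mul_assoc, one_mul]
    have h1 : Inv N W := by
      refine inv_of_affine (a := -(2 : F)⁻¹) (b := (2 : F)⁻¹) ?_ hW
      rw [e, smul_sub, smul_smul, neg_mul, inv_mul_cancel₀ h2]
      module
    have h3 : Inv ((M⁻¹⁻¹ : (Module.End F V)ˣ) : Module.End F V) W := inv_units M⁻¹ h1
    rw [inv_inv, hM] at h3
    exact inv_of_affine (a := 1) (b := -1) (by module) h3

/-- From a skew nilpotent map to an isometry of order dividing `p`. -/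
theorem cayley_of_skew [Nontrivial V] [CharP F p] (h2 : (2 : F) ≠ 0) {K : Module.End F V} (hK : Skew B K)
    (hKp : K ^ p = 0) : ∃ y : Module.End F V, y ∈ isoMon B ∧ y ^ p = 1 ∧ (y = 1 → K = 0) ∧
      ∀ W : Submodule F V, Inv y W → Inv K W := by
  haveI : CharP (Module.End F V) p := charP_of_injective_algebraMap (algebraMap F (Module.End F V)).injective p
  have hnil : IsNilpotent K := ⟨p, hKp⟩
  obtain ⟨M, hM⟩ := hnil.isUnit_one_sub
  set N := ((M⁻¹ : (Module.End F V)ˣ) : Module.End F V)
  have hs : ∀ v, (1 - K) (N v) = v := fun v => by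
    rw [← hM, ← Module.End.mul_apply, Units.mul_inv, Module.End.one_apply]
  have hy : (2 : F) • N - 1 = (1 + K) * N := by
    rw [show 1 + K = (2 : F) • (1 : Module.End F V) - (1 - K) by rw [two_smul]; abel, sub_mul, ← hM,
      Units.mul_inv, smul_mul_assoc, one_mul]
  refine ⟨(2 : F) • N - 1, fun u v => ?_, ?_, fun h1 => ?_, fun W hW => ?_⟩
  · rw [hy]
    obtain ⟨a, ha⟩ : ∃ a, N u = a := ⟨_, rfl⟩
    obtain ⟨b, hb⟩ : ∃ b, N v = b := ⟨_, rfl⟩
    conv_rhs => rw [← hs u, ← hs v, ha, hb]
    rw [Module.End.mul_apply, Module.End.mul_apply, ha, hb]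
    simp only [LinearMap.add_apply, LinearMap.sub_apply, Module.End.one_apply, map_add, map_sub, hK a b]
    ring
  · have hc : Commute (1 + K) N := by
      refine Commute.units_inv_right (u := M) ?_
      rw [hM]
      exact (Commute.one_right _).sub_right ((Commute.one_left K).add_left (Commute.refl K))
    have hc' : Commute (1 - K) N := by
      refine Commute.units_inv_right (u := M) ?_
      rw [hM]
      exact Commute.refl _
    have h1 : N ^ p = 1 := by
      have h3 := hc'.mul_pow p
      rw [show (1 - K) * N = 1 by rw [← hM, Units.mul_inv], one_pow,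
        sub_pow_char_of_commute _ (Commute.one_left K), hKp, one_pow, sub_zero, one_mul] at h3
      exact h3.symm
    rw [hy, hc.mul_pow, add_pow_char_of_commute _ (Commute.one_left K), hKp, one_pow, add_zero, one_mul, h1]
  · have hN : N = 1 := by
      have : (2 : F) • N = (2 : F) • (1 : Module.End F V) := by rw [two_smul F (1 : Module.End F V)]; exact sub_eq_iff_eq_add.1 h1
      exact smul_right_injective _ h2 this
    have h3 : (1 - K) * N = 1 := by rw [← hM, Units.mul_inv]
    rw [hN, mul_one, sub_eq_self] at h3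
    exact h3
  · have h1 : Inv N W := inv_of_affine (a := (2 : F)⁻¹) (b := (2 : F)⁻¹) (by
      rw [smul_sub, smul_smul, inv_mul_cancel₀ h2]; module) hW
    have h3 : Inv ((M⁻¹⁻¹ : (Module.End F V)ˣ) : Module.End F V) W := inv_units M⁻¹ h1
    rw [inv_inv, hM] at h3
    exact inv_of_affine (a := -1) (b := 1) (by module) h3

end Cayley

section Model

variable (F : Type u) [Field F]

/-- The shift. -/
def shiftMap (a : ℕ) : Module.End F (Fin a → F) :=
  LinearMap.pi fun i => if h : (i : ℕ) + 1 < a then LinearMap.proj ⟨(i : ℕ) + 1, h⟩ else 0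

/-- The alternating antidiagonal form. -/
def antiForm (a : ℕ) : LinearMap.BilinForm F (Fin a → F) :=
  ∑ i : Fin a, (-1 : F) ^ (i : ℕ) • (LinearMap.mul F F).compl₁₂ (LinearMap.proj i) (LinearMap.proj i.rev)

theorem antiForm_apply (a : ℕ) (u v : Fin a → F) :
    antiForm F a u v = ∑ i : Fin a, (-1 : F) ^ (i : ℕ) * (u i * v i.rev) := by simp [antiForm]

variable {F}

theorem shiftMap_apply (a : ℕ) (v : Fin a → F) (i : Fin a) :
    shiftMap F a v i = if h : (i : ℕ) + 1 < a then v ⟨(i : ℕ) + 1, h⟩ else 0 := by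
  simp only [shiftMap, LinearMap.pi_apply]
  split_ifs <;> rfl

theorem shiftMap_pow (a j : ℕ) (v : Fin a → F) (i : Fin a) :
    (shiftMap F a ^ j) v i = if h : (i : ℕ) + j < a then v ⟨(i : ℕ) + j, h⟩ else 0 := by
  induction j generalizing i v with
  | zero => simp
  | succ j ih =>
    rw [pow_succ, Module.End.mul_apply, ih]
    by_cases h : (i : ℕ) + j < a
    · rw [dif_pos h, shiftMap_apply]
      by_cases h' : (i : ℕ) + j + 1 < a
      · rw [dif_pos h', dif_pos (show (i : ℕ) + (j + 1) < a by omega)]; rfl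
      · rw [dif_neg h', dif_neg (show ¬ (i : ℕ) + (j + 1) < a by omega)]
    · rw [dif_neg h, dif_neg (show ¬ (i : ℕ) + (j + 1) < a by omega)]

theorem rk_shift {a : ℕ} (ha : 0 < a) (j : ℕ) : finrank F ↥(LinearMap.range (shiftMap F a ^ j)) = a - j := by
  classical
  have hZp : shiftMap F a ^ a = 0 := by
    refine LinearMap.ext fun v => funext fun i => ?_
    rw [shiftMap_pow, dif_neg (by omega)]; rfl
  obtain ⟨α, hα, hsum, hrk, -⟩ := PrimeOrderElt.exists_jordan (N := shiftMap F a) (p := a) (W := ⊤) le_top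
    (fun v _ => by rw [hZp]; rfl)
  rw [finrank_top, Module.finrank_fin_fun] at hsum
  have h1 : 0 < rk α (a - 1) := by
    rw [← hrk, PrimeOrderElt.map_top_pow, Nat.pos_iff_ne_zero, Ne, Submodule.finrank_eq_zero, LinearMap.range_eq_bot]
    intro h
    have := congrFun (LinearMap.congr_fun h (fun _ => 1)) ⟨0, ha⟩
    rw [shiftMap_pow, dif_pos (show 0 + (a - 1) < a by omega)] at this
    exact one_ne_zero this
  obtain ⟨b, hb, hab⟩ := PrimeOrderElt.exists_le_of_rk_pos h1
  obtain ⟨α', rfl⟩ := Multiset.exists_cons_of_mem hb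
  rw [Multiset.sum_cons] at hsum
  have hα' : α' = 0 := Multiset.eq_zero_of_forall_notMem fun c hc => by
    have := (hα c (Multiset.mem_cons_of_mem hc)).1
    have := Multiset.le_sum_of_mem hc
    omega
  subst hα'
  rw [Multiset.sum_zero] at hsum
  rw [← PrimeOrderElt.map_top_pow, hrk, PrimeOrderElt.rk_cons, show b = a by omega]
  simp [rk]

theorem antiForm_swap (a : ℕ) (u v : Fin a → F) : antiForm F a v u = (-1 : F) ^ (a - 1) * antiForm F a u v := by
  rw [antiForm_apply, antiForm_apply, Finset.mul_sum]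
  refine Fintype.sum_equiv Fin.revPerm _ _ fun i => ?_
  rw [Fin.revPerm_apply, Fin.rev_rev, Fin.val_rev, ← mul_assoc ((-1 : F) ^ (a - 1)), ← pow_add,
    show a - 1 + (a - ((i : ℕ) + 1)) = (i : ℕ) + 2 * (a - 1 - i) by omega, pow_add, pow_mul, neg_one_sq, one_pow]
  ring

theorem antiForm_nd (a : ℕ) (u : Fin a → F) (h : ∀ v, antiForm F a u v = 0) : u = 0 := by
  classical
  funext i
  have h1 := h (Pi.single i.rev 1)
  rw [antiForm_apply, Finset.sum_eq_single i] at h1
  · simpa using h1
  · intro b _ hb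
    rw [Pi.single_eq_of_ne fun e => hb (Fin.rev_injective e)]
    simp
  · simp

theorem antiForm_skew (a : ℕ) : Skew (antiForm F a) (shiftMap F a) := by
  classical
  have key : ∀ s t : Fin a, antiForm F a (shiftMap F a (Pi.single s 1)) (Pi.single t 1) =
      - antiForm F a (Pi.single s 1) (shiftMap F a (Pi.single t 1)) := by
    intro s t
    have hsh : ∀ (s i : Fin a), shiftMap F a (Pi.single s (1 : F)) i = if (i : ℕ) + 1 = (s : ℕ) then 1 else 0 := by
      intro s i
      rw [shiftMap_apply]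
      split_ifs with h h' h'
      · rw [show (⟨(i : ℕ) + 1, h⟩ : Fin a) = s from Fin.ext h', Pi.single_eq_same]
      · rw [Pi.single_eq_of_ne fun e => h' (congrArg Fin.val e)]
      · omega
      · rfl
    rw [antiForm_apply, antiForm_apply, Finset.sum_eq_single t.rev, Finset.sum_eq_single s]
    · rw [Fin.rev_rev, Pi.single_eq_same, Pi.single_eq_same, hsh, hsh, Fin.val_rev, Fin.val_rev]
      by_cases hst : a - ((t : ℕ) + 1) + 1 = (s : ℕ)
      · rw [if_pos hst, if_pos (by omega), ← hst, pow_succ]; ring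
      · rw [if_neg hst, if_neg (by omega)]; simp
    · intro b _ hb; rw [Pi.single_eq_of_ne hb]; simp
    · simp
    · intro b _ hb
      rw [Pi.single_eq_of_ne (i := t) (i' := b.rev) fun e => hb (Fin.rev_injective (e.trans (Fin.rev_rev t).symm))]
      simp
    · simp
  intro u v
  have h : (antiForm F a).comp (shiftMap F a) LinearMap.id = -((antiForm F a).comp LinearMap.id (shiftMap F a)) :=
    LinearMap.BilinForm.ext_basis (Pi.basisFun F (Fin a)) fun s t => by
      simpa [Pi.basisFun_apply] using key s t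
  exact LinearMap.congr_fun (LinearMap.congr_fun h u) v

/-- The form on two copies. -/
def pairForm (a : ℕ) : LinearMap.BilinForm F ((Fin a → F) × (Fin a → F)) :=
  (antiForm F a).compl₁₂ (LinearMap.fst F _ _) (LinearMap.snd F _ _) -
    (antiForm F a).compl₁₂ (LinearMap.snd F _ _) (LinearMap.fst F _ _)

theorem prodMap_pow {V U : Type*} [AddCommGroup V] [Module F V] [AddCommGroup U] [Module F U]
    (f : Module.End F V) (g : Module.End F U) (j : ℕ) :
    (f.prodMap g : Module.End F (V × U)) ^ j = (f ^ j).prodMap (g ^ j) := by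
  induction j with
  | zero => exact LinearMap.ext fun v => rfl
  | succ j ihj => rw [pow_succ, ihj, LinearMap.prodMap_mul, ← pow_succ, ← pow_succ]

/-- Transport to the standard space. -/
theorem realise {p : ℕ} {μ : Multiset ℕ} {W : Type v} [AddCommGroup W] [Module F W] [FiniteDimensional F W]
    {B : LinearMap.BilinForm F W} (halt : ∀ x, B x x = 0) (hnd : ∀ x, (∀ y, B x y = 0) → x = 0)
    {K : Module.End F W} (hK : Skew B K) (hKp : K ^ p = 0)
    (hrk : ∀ j, finrank F ↥(LinearMap.range (K ^ j)) = rk μ j) {d : ℕ} (hd : finrank F W = 2 * d) :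
    ∃ K' : Module.End F (Fin d ⊕ Fin d → F), Skew (sympB d F) K' ∧ K' ^ p = 0 ∧
      ∀ j, finrank F ↥(LinearMap.range (K' ^ j)) = rk μ j := by
  obtain ⟨Φ, hΦ⟩ := SympGeom.exists_sympEquiv B halt hnd hd
  have hpow : ∀ j, (Φ.symm.conj K) ^ j = Φ.symm.conj (K ^ j) := fun j =>
    (map_pow (Φ.symm.conjAlgEquiv F) K j).symm
  refine ⟨Φ.symm.conj K, fun u v => ?_, ?_, fun j => ?_⟩
  · rw [← hΦ, ← hΦ, LinearEquiv.conj_apply_apply, LinearEquiv.conj_apply_apply, LinearEquiv.apply_symm_apply,
      LinearEquiv.apply_symm_apply, LinearEquiv.symm_symm]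
    exact hK _ _
  · rw [hpow, hKp, map_zero]
  · rw [hpow, ← hrk, LinearEquiv.conj_apply, LinearMap.range_comp, LinearEquiv.range, Submodule.map_top,
      LinearMap.range_comp, LinearEquiv.finrank_map_eq]

/-- Every admissible type occurs. -/
theorem exists_skew_model (h2 : (2 : F) ≠ 0) {p : ℕ} : ∀ (n : ℕ) (μ : Multiset ℕ), μ.sum = n →
    (∀ a ∈ μ, 0 < a ∧ a ≤ p) → Admissible μ →
    ∃ d, n = 2 * d ∧ ∃ K : Module.End F (Fin d ⊕ Fin d → F), Skew (sympB d F) K ∧ K ^ p = 0 ∧
      ∀ j, finrank F ↥(LinearMap.range (K ^ j)) = rk μ j := by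
  classical
  intro n
  induction n using Nat.strong_induction_on with
  | _ n ih =>
    intro μ hn hμ hadm
    subst hn
    by_cases h0 : μ = 0
    · subst h0
      exact ⟨0, by simp, 0, fun u v => by simp, Subsingleton.elim _ _,
        fun j => by rw [finrank_zero_of_subsingleton]; simp [rk]⟩
    obtain ⟨a, ha⟩ := Multiset.exists_mem_of_ne_zero h0
    obtain ⟨hapos, hap⟩ := hμ a ha
    have hshift : shiftMap F a ^ p = 0 := LinearMap.ext fun v => funext fun i => by
      rw [shiftMap_pow, dif_neg (by omega)]; rfl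
    rcases Nat.even_or_odd a with ⟨k, hk⟩ | hodd
    · obtain ⟨μ', rfl⟩ := Multiset.exists_cons_of_mem ha
      obtain ⟨d', hd', K', hK', hKp', hr'⟩ := ih μ'.sum (by rw [Multiset.sum_cons]; omega) μ' rfl
        (fun b hb => hμ b (Multiset.mem_cons_of_mem hb)) fun b hb => by
          have := hadm b hb
          rwa [Multiset.count_cons_of_ne (by rintro rfl; exact Nat.not_even_iff_odd.2 hb ⟨k, hk⟩)] at this
      have halt : ∀ u, antiForm F a u u = 0 := fun u => by
        have h := antiForm_swap a u u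
        rw [Odd.neg_one_pow ⟨k - 1, by omega⟩] at h
        exact (mul_eq_zero.1 (show (2 : F) * antiForm F a u u = 0 by linear_combination h)).resolve_left h2
      have hsym := (IsSymF.of_alt halt (antiForm_nd a)).prod (sympB_isSym (F := F) d')
      refine ⟨k + d', by rw [Multiset.sum_cons]; omega,
        realise (K := (shiftMap F a).prodMap K') (B := prodForm (antiForm F a) (sympB d' F))
          (fun z => by rw [prodForm_apply, halt, sympB_self, add_zero]) hsym.nd (fun u v => ?_) ?_ (fun j => ?_) ?_⟩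
      · simp only [prodForm_apply, LinearMap.prodMap_apply]
        rw [antiForm_skew, hK']; ring
      · rw [prodMap_pow, hshift, hKp']; exact LinearMap.ext fun v => rfl
      · rw [prodMap_pow, LinearMap.range_prodMap, PrimeOrderElt.finrank_submodule_prod, rk_shift hapos, hr',
          PrimeOrderElt.rk_cons]
      · rw [Module.finrank_prod, Module.finrank_fin_fun, finrank_sympSpace]; omega
    · have hc : 2 ≤ μ.count a := by
        obtain ⟨l, hl⟩ := hadm a hodd
        have := Multiset.count_pos.2 ha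
        omega
      obtain ⟨μ', rfl⟩ : ∃ μ', μ = Multiset.replicate 2 a + μ' :=
        le_iff_exists_add.1 (Multiset.le_count_iff_replicate_le.1 hc)
      have hsum : (Multiset.replicate 2 a + μ').sum = 2 * a + μ'.sum := by
        rw [Multiset.sum_add, Multiset.sum_replicate, smul_eq_mul]
      obtain ⟨d', hd', K', hK', hKp', hr'⟩ := ih μ'.sum (by omega) μ' rfl
        (fun b hb => hμ b (Multiset.mem_add.2 (.inr hb))) fun b hb => by
          have := hadm b hb
          rw [Multiset.count_add, Nat.even_add] at this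
          exact this.1 (by rw [Multiset.count_replicate]; split_ifs <;> simp)
      have hsymm : ∀ u v, antiForm F a v u = antiForm F a u v := fun u v => by
        rw [antiForm_swap a u v, Even.neg_one_pow (by obtain ⟨l, hl⟩ := hodd; exact ⟨l, by omega⟩), one_mul]
      have hpa : ∀ z, pairForm (F := F) a z z = 0 := fun z => by
        simp [pairForm, hsymm z.1 z.2]
      have hpn : ∀ z, (∀ w, pairForm (F := F) a z w = 0) → z = 0 := fun z hz =>
        Prod.ext (antiForm_nd a z.1 fun v => by simpa [pairForm] using hz (0, v))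
          (antiForm_nd a z.2 fun v => by simpa [pairForm] using hz (v, 0))
      have hsym := (IsSymF.of_alt hpa hpn).prod (sympB_isSym (F := F) d')
      refine ⟨a + d', by omega,
        realise (K := ((shiftMap F a).prodMap (shiftMap F a)).prodMap K') (B := prodForm (pairForm a) (sympB d' F))
          (fun z => by rw [prodForm_apply, hpa, sympB_self, add_zero]) hsym.nd (fun u v => ?_) ?_ (fun j => ?_) ?_⟩
      · simp only [prodForm_apply, LinearMap.prodMap_apply, pairForm, LinearMap.sub_apply,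
          LinearMap.compl₁₂_apply, LinearMap.fst_apply, LinearMap.snd_apply]
        rw [antiForm_skew, antiForm_skew, hK']; ring
      · rw [prodMap_pow, prodMap_pow, hshift, hKp']; exact LinearMap.ext fun v => rfl
      · rw [prodMap_pow, prodMap_pow, LinearMap.range_prodMap, LinearMap.range_prodMap,
          PrimeOrderElt.finrank_submodule_prod, PrimeOrderElt.finrank_submodule_prod, rk_shift hapos, hr',
          PrimeOrderElt.rk_add, rk_replicate]
        ring
      · rw [Module.finrank_prod, Module.finrank_prod, Module.finrank_fin_fun, finrank_sympSpace]; omega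

end Model

section Count

variable {F : Type u} [Field F] [Fintype F] {d h : ℕ}

open Cfsg.Agent.SympGeom in
/-- A prime dividing the number of non-degenerate `2h`-spaces. -/
theorem exists_ndSub_index {r : ℕ} [Fact r.Prime] (hrq : ¬ r ∣ Fintype.card F) (hhd : h ≤ d)
    (hr : r ∣ Nat.card {W : Submodule F (Fin d ⊕ Fin d → F) // finrank F W = 2 * h ∧ NdOn (sympB d F) W}) :
    ∃ l, d - h < l ∧ l ≤ d ∧ r ∣ Fintype.card F ^ (2 * l) - 1 := by
  classical
  set B := sympB d F with hB
  set P := {W : Submodule F (Fin d ⊕ Fin d → F) // finrank F W = 2 * h ∧ NdOn B W}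
  have hsym := sympB_isSym (F := F) d
  haveI : Finite (Submodule F (Fin d ⊕ Fin d → F)) :=
    Finite.of_injective (fun W => (W : Set (Fin d ⊕ Fin d → F))) SetLike.coe_injective
  haveI : Finite P := Subtype.finite
  haveI : Finite (isoGrp B) := Finite.of_equiv _ (spIso d F).toEquiv
  by_cases hne : IsEmpty P
  · rw [Nat.card_of_isEmpty] at hr
    exfalso
    obtain ⟨H, hH, hHn, hHd⟩ := exists_nd_fix (y := (1 : Module.End F (Fin d ⊕ Fin d → F))) (r := 1)
      (h := ⟨hsym, fun _ _ => rfl, pow_one _, one_pos, by simp⟩) sympB_self (j := h) (by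
        rw [show fix (1 : Module.End F (Fin d ⊕ Fin d → F)) = ⊤ from eq_top_iff.2 fun v _ => mem_fix.2 rfl,
          finrank_top, finrank_sympSpace]
        omega)
    exact hne.false ⟨H, hHd, hHn⟩
  rw [not_isEmpty_iff] at hne
  obtain ⟨W₀⟩ := hne
  have hcompl : ∀ W : P, IsCompl W.1 (orth B W.1) := fun W =>
    ⟨disjoint_iff.2 (W.2.2.disjoint hsym), codisjoint_iff.2 (W.2.2.sup_orth hsym)⟩
  have hres : ∀ W : P, (∀ x : W.1, (∀ y : W.1, resForm B W.1 x y = 0) → x = 0) :=
    fun W x hx => Subtype.ext (W.2.2 x x.2 fun z hz => hx ⟨z, hz⟩)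
  have hresP : ∀ W : P, (∀ x : orth B W.1, (∀ y : orth B W.1, resForm B (orth B W.1) x y = 0) → x = 0) := by
    intro W x hx
    refine Subtype.ext (hsym.nd _ fun v => ?_)
    obtain ⟨a, b, rfl⟩ := exists_add_of_isCompl (hcompl W) v
    rw [map_add, show B (x : Fin d ⊕ Fin d → F) b = 0 from hx b, symm_zero hsym (x.2 _ a.2), add_zero]
  have hPd : ∀ W : P, finrank F ↥(orth B W.1) = 2 * (d - h) := fun W => by
    have h1 : finrank F ↥(orth B W.1) + finrank F ↥W.1 = 2 * d :=
      (finrank_orth hsym W.1).trans finrank_sympSpace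
    have h2 : finrank F ↥W.1 = 2 * h := W.2.1
    omega
  -- transitivity
  have htrans : ∀ W : P, ∃ g : isoGrp B, ∀ v ∈ W₀.1, (g.1 : (Fin d ⊕ Fin d → F) ≃ₗ[F] _) v ∈ W.1 := by
    intro W
    obtain ⟨a₀, ha₀⟩ := exists_sympEquiv (resForm B W₀.1) (fun x => sympB_self _) (hres W₀) W₀.2.1
    obtain ⟨a, ha⟩ := exists_sympEquiv (resForm B W.1) (fun x => sympB_self _) (hres W) W.2.1
    obtain ⟨b₀, hb₀⟩ := exists_sympEquiv (resForm B (orth B W₀.1)) (fun x => sympB_self _) (hresP W₀) (hPd W₀)
    obtain ⟨b, hb⟩ := exists_sympEquiv (resForm B (orth B W.1)) (fun x => sympB_self _) (hresP W) (hPd W)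
    have ha' : ∀ x y, B ((a (a₀.symm x) : W.1) : Fin d ⊕ Fin d → F) ((a (a₀.symm y) : W.1) : Fin d ⊕ Fin d → F) =
        B (x : Fin d ⊕ Fin d → F) (y : Fin d ⊕ Fin d → F) := fun x y => by
      rw [← GLOrder.resForm_apply, ha, ← ha₀, a₀.apply_symm_apply, a₀.apply_symm_apply]; rfl
    have hb' : ∀ x y, B ((b (b₀.symm x) : orth B W.1) : Fin d ⊕ Fin d → F)
        ((b (b₀.symm y) : orth B W.1) : Fin d ⊕ Fin d → F) = B (x : Fin d ⊕ Fin d → F) (y : Fin d ⊕ Fin d → F) := fun x y => by
      rw [← GLOrder.resForm_apply, hb, ← hb₀, b₀.apply_symm_apply, b₀.apply_symm_apply]; rfl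
    let g := ((Submodule.prodEquivOfIsCompl _ _ (hcompl W₀)).symm.trans
      ((a₀.symm.trans a).prodCongr (b₀.symm.trans b))).trans (Submodule.prodEquivOfIsCompl _ _ (hcompl W))
    have hg : ∀ (x : W₀.1) (y : orth B W₀.1), g ((x : Fin d ⊕ Fin d → F) + y) =
        ((a (a₀.symm x) : W.1) : Fin d ⊕ Fin d → F) + ((b (b₀.symm y) : orth B W.1) : Fin d ⊕ Fin d → F) := by
      intro x y
      have hsplit : (Submodule.prodEquivOfIsCompl W₀.1 (orth B W₀.1) (hcompl W₀)).symm
          ((x : Fin d ⊕ Fin d → F) + y) = (x, y) := by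
        rw [LinearEquiv.symm_apply_eq, Submodule.coe_prodEquivOfIsCompl']
      simp only [g, LinearEquiv.trans_apply, hsplit, Submodule.coe_prodEquivOfIsCompl']
      rfl
    refine ⟨⟨g, fun u v => ?_⟩, fun v hv => ?_⟩
    · obtain ⟨x, y, rfl⟩ := exists_add_of_isCompl (hcompl W₀) u
      obtain ⟨x', y', rfl⟩ := exists_add_of_isCompl (hcompl W₀) v
      rw [hg, hg]
      simp only [map_add, LinearMap.add_apply]
      rw [(b (b₀.symm y')).2 _ (a (a₀.symm x)).2, symm_zero hsym ((b (b₀.symm y)).2 _ (a (a₀.symm x')).2),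
        y'.2 _ x.2, symm_zero hsym (y.2 _ x'.2), ha', hb']
    · have h1 := hg ⟨v, hv⟩ 0
      simp only [map_zero, ZeroMemClass.coe_zero, add_zero] at h1
      show g v ∈ W.1
      rw [show g v = _ from h1]
      exact Subtype.coe_prop _
  choose gW hgW using htrans
  let φ : isoGrp B → P := fun g => ⟨W₀.1.map ((g.1 : (Fin d ⊕ Fin d → F) ≃ₗ[F] _) : (Fin d ⊕ Fin d → F) →ₗ[F] _),
    (LinearEquiv.finrank_map_eq g.1 W₀.1).trans W₀.2.1, by
      rintro _ ⟨x, hx, rfl⟩ h0
      rw [W₀.2.2 x hx fun z hz => (g.2 x z).symm.trans (h0 _ ⟨z, hz, rfl⟩), map_zero]⟩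
  have hφ : ∀ W, φ (gW W) = W := fun W => Subtype.ext (Submodule.eq_of_le_of_finrank_eq
    (by rintro _ ⟨v, hv, rfl⟩; exact hgW W v hv) ((φ (gW W)).2.1.trans W.2.1.symm))
  have hfib : ∀ W : P, Nat.card {g // φ g = W} = Nat.card (stabSub B W₀.1) := by
    intro W
    refine Nat.card_congr
      { toFun := fun g => ⟨(gW W)⁻¹ * g.1, fun v => ?_⟩
        invFun := fun s => ⟨gW W * s.1, ?_⟩
        left_inv := fun g => Subtype.ext (mul_inv_cancel_left _ _)
        right_inv := fun s => Subtype.ext (inv_mul_cancel_left _ _) }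
    · have h1 : ∀ w, w ∈ W.1 ↔ ((g.1.1).symm w : Fin d ⊕ Fin d → F) ∈ W₀.1 := fun w => by
        conv_lhs => rw [← g.2]
        exact Submodule.mem_map_equiv _
      have h2 : ∀ w, w ∈ W.1 ↔ ((gW W).1.symm w : Fin d ⊕ Fin d → F) ∈ W₀.1 := fun w => by
        conv_lhs => rw [← hφ W]
        exact Submodule.mem_map_equiv _
      show _ ↔ (gW W).1.symm (g.1.1 v) ∈ W₀.1
      rw [← h2, h1, LinearEquiv.symm_apply_apply]
    · refine Subtype.ext (Submodule.eq_of_le_of_finrank_eq ?_ ((φ _).2.1.trans W.2.1.symm))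
      rintro _ ⟨v, hv, rfl⟩
      exact hgW W _ ((s.2 v).1 hv)
  haveI := Fintype.ofFinite P
  have hcard : Nat.card (isoGrp B) = Nat.card P * Nat.card (stabSub B W₀.1) := by
    rw [← Nat.card_congr (Equiv.sigmaFiberEquiv φ), Nat.card_sigma, Finset.sum_congr rfl fun W _ => hfib W,
      Finset.sum_const, smul_eq_mul, Finset.card_univ, ← Nat.card_eq_fintype_card]
  obtain ⟨E⟩ := nonempty_stabProdEquiv W₀.1 (orth B W₀.1) (hcompl W₀)
    (fun w hw p hp => ⟨hp w hw, symm_zero hsym (hp w hw)⟩) (fun v hv => hv)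
  obtain ⟨e₁⟩ := nonempty_isoGrp_equiv (resForm B W₀.1) (fun x => sympB_self _) (hres W₀) W₀.2.1
  obtain ⟨e₂⟩ := nonempty_isoGrp_equiv (resForm B (orth B W₀.1)) (fun x => sympB_self _) (hresP W₀) (hPd W₀)
  rw [← Nat.card_congr (spIso d F).toEquiv, Nat.card_congr E.toEquiv, Nat.card_prod,
    Nat.card_congr e₁.toEquiv, Nat.card_congr e₂.toEquiv, GLOrder.card_Sp, GLOrder.card_Sp, GLOrder.card_Sp,
    Nat.card_eq_fintype_card (α := F)] at hcard
  set f : ℕ → ℕ := fun i => Fintype.card F ^ (2 * (i + 1)) - 1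
  have hfpos : 0 < ∏ i ∈ Finset.range (d - h), f i :=
    Finset.prod_pos fun i _ => Nat.sub_pos_of_lt (Nat.one_lt_pow (by omega) Fintype.one_lt_card)
  have hdvd : r ∣ Fintype.card F ^ (d ^ 2) * ∏ i ∈ Finset.Ico (d - h) d, f i := by
    refine Nat.dvd_of_mul_dvd_mul_right hfpos (?_ : r * _ ∣ _)
    rw [mul_assoc, mul_comm (∏ i ∈ Finset.Ico (d - h) d, f i),
      Finset.prod_range_mul_prod_Ico _ (Nat.sub_le d h), hcard]
    refine mul_dvd_mul hr ?_
    exact dvd_mul_of_dvd_right (dvd_mul_left _ _) _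
  obtain ⟨i, hi, hri⟩ := (Nat.Prime.prime (Fact.out : r.Prime)).exists_mem_finset_dvd
    (((Fact.out : r.Prime).dvd_mul.mp hdvd).resolve_left fun e => hrq ((Fact.out : r.Prime).dvd_of_dvd_pow e))
  rw [Finset.mem_Ico] at hi
  exact ⟨i + 1, by omega, by omega, hri⟩

end Count

end Cfsg.Agent.Elusive
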