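import Cfsg.Agent.Lib.Elusive.SymGeo
import Cfsg.Agent.Lib.Orth.Spinor
import Cfsg.Agent.Lib.Orth.Models
/-
Involutions of `Ω(Q)` in odd characteristic and maximal totally singular subspaces.
* `isom_ap`          : an involution as an `Isom`
* `exists_iso0_half` : with `-1` a square the moved space of an involution in `Ω` is hyperbolic
* `hasInv_max_of_square` : so a maximal totally singular subspace is invariant
* `exists_invol_no_max`  : without, an involution in `Ω` with none
-/

set_option autoImplicit false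
set_option linter.unusedSectionVars false
set_option linter.style.haveILetI false

namespace Cfsg.Agent.Elusive

open Module Cfsg
open QuadraticMap (polar)
open Cfsg.Agent.Orth
open Cfsg.Agent.PrimeGraphBC (IsSymF isoMon)
open Cfsg.Agent.PrimeOrderElt (Inv fix mem_fix)

variable {F : Type*} [Field F] [Fintype F] {ι : Type} [Fintype ι] [DecidableEq ι]
  {Q : QuadraticForm F (ι → F)}

theorem polarBilin_isSym (hQ : Q.polarBilin.Nondegenerate) : IsSymF (1 : F) Q.polarBilin :=
  ⟨fun x y => by
    rw [one_mul, QuadraticMap.polarBilin_apply_apply, QuadraticMap.polarBilin_apply_apply,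
      QuadraticMap.polar_comm],
    fun x hx => hQ.1 x hx⟩

theorem ap_pow_eq (g : IsoGrp Q) (n : ℕ) : ap (g ^ n) = ap g ^ n := by
  induction n with
  | zero => exact LinearMap.ext fun x => by simp
  | succ n ih => refine LinearMap.ext fun x => ?_; rw [pow_succ, pow_succ, ap_mul, ih, Module.End.mul_apply]

theorem isom_ap (hQ : Q.polarBilin.Nondegenerate) {g : IsoGrp Q} {r : ℕ} (hr : 0 < r) (hrF : (r : F) ≠ 0)
    (hg : g ^ r = 1) : Isom (1 : F) Q.polarBilin (ap g) r :=
  ⟨polarBilin_isSym hQ, fun x y => polar_ap g x y,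
    LinearMap.ext fun x => by rw [← ap_pow_eq, hg, ap_one, Module.End.one_apply], hr, hrF⟩

section

variable (hG : Good Q) (h2 : (2 : F) ≠ 0)
include hG h2

omit [Fintype F] in
theorem apply_range {g : IsoGrp Q} (hg : g * g = 1) {x : ι → F}
    (hx : x ∈ LinearMap.range (ap g - 1)) : ap g x = -x := by
  obtain ⟨z, rfl⟩ := hx
  rw [LinearMap.sub_apply, Module.End.one_apply, map_sub, ← ap_mul, hg, ap_one, neg_sub]

omit [Fintype F] in
theorem mem_range_of_neg {g : IsoGrp Q} {x : ι → F} (hx : ap g x = -x) :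
    x ∈ LinearMap.range (ap g - 1) := by
  refine ⟨(-(2 : F)⁻¹) • x, ?_⟩
  have e : (ap g - 1 : Module.End F (ι → F)) x = (-2 : F) • x := by
    rw [LinearMap.sub_apply, Module.End.one_apply, hx, neg_smul, two_smul]; abel
  rw [map_smul, e, smul_smul, neg_mul_neg, inv_mul_cancel₀ h2, one_smul]

/-- Splitting off two orthogonal anisotropic vectors from the moved space. -/
theorem split_two {g : IsoGrp Q} (hgΩ : g ∈ Omega F ⇑Q) (hg : g * g = 1) {v w : ι → F}
    (hv : v ∈ LinearMap.range (ap g - 1)) (hw : w ∈ LinearMap.range (ap g - 1)) (hQv : Q v ≠ 0)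
    (hQw : Q w ≠ 0) (hvw : polar ⇑Q v w = 0) :
    (g * (refl Q v * refl Q w)) * (g * (refl Q v * refl Q w)) = 1 ∧
    finrank F ↥(LinearMap.range (ap (g * (refl Q v * refl Q w)) - 1)) + 2 =
      finrank F ↥(LinearMap.range (ap g - 1)) ∧
    (∀ x ∈ LinearMap.range (ap (g * (refl Q v * refl Q w)) - 1),
      x ∈ LinearMap.range (ap g - 1) ∧ polar ⇑Q v x = 0 ∧ polar ⇑Q w x = 0) := by
  set g' := g * (refl Q v * refl Q w) with hg'
  have hI := isom_ap hG.nd two_pos (by exact_mod_cast h2) (show g ^ 2 = 1 by rw [pow_two, hg])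
  let R := LinearMap.range (ap g - 1)
  -- the action of the new element
  have hfix : ∀ z, ap g z = z → ap g' z = z := by
    intro z hz
    have hz' : ∀ u ∈ LinearMap.range (ap g - 1), polar ⇑Q u z = 0 := fun u hu => by
      rw [QuadraticMap.polar_comm]
      exact hI.range_le_orth_fix hu z (mem_fix.2 hz)
    rw [hg', ap_mul, ap_mul, refl_ap_of_orth Q (hz' w hw), refl_ap_of_orth Q (hz' v hv), hz]
  have hperp : ∀ x ∈ LinearMap.range (ap g - 1), polar ⇑Q v x = 0 → polar ⇑Q w x = 0 → ap g' x = -x := by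
    intro x hx h1 h3
    rw [hg', ap_mul, ap_mul, refl_ap_of_orth Q h3, refl_ap_of_orth Q h1, apply_range hG h2 hg hx]
  have hg'v : ap g' v = v := by
    rw [hg', ap_mul, ap_mul, refl_ap_of_orth Q ((pl_comm Q w v).trans hvw), refl_ap_self Q hQv, map_neg,
      apply_range hG h2 hg hv, neg_neg]
  have hg'w : ap g' w = w := by
    rw [hg', ap_mul, ap_mul, refl_ap_self Q hQw, map_neg, refl_ap_of_orth Q hvw, map_neg,
      apply_range hG h2 hg hw, neg_neg]
  -- decomposition
  have hdec : ∀ x, ∃ z r, r ∈ LinearMap.range (ap g - 1) ∧ polar ⇑Q v r = 0 ∧ polar ⇑Q w r = 0 ∧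
      ap g' z = z ∧ x = z + r := by
    intro x
    have hx : x ∈ fix (ap g) ⊔ LinearMap.range (ap g - 1) := by rw [hI.fix_sup_range]; exact Submodule.mem_top
    obtain ⟨a, ha, b, hb, rfl⟩ := Submodule.mem_sup.1 hx
    set α := polar ⇑Q v b / (2 * Q v)
    set β := polar ⇑Q w b / (2 * Q w)
    refine ⟨a + α • v + β • w, b - α • v - β • w, Submodule.sub_mem _ (Submodule.sub_mem _ hb
      (Submodule.smul_mem _ _ hv)) (Submodule.smul_mem _ _ hw), ?_, ?_, ?_, by abel⟩
    · rw [pl_sub_right, pl_sub_right, pl_smul_right, pl_smul_right, pl_self, hvw,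
        div_mul_cancel₀ _ (mul_ne_zero h2 hQv)]
      ring
    · rw [pl_sub_right, pl_sub_right, pl_smul_right, pl_smul_right, pl_self, pl_comm Q w v, hvw,
        div_mul_cancel₀ _ (mul_ne_zero h2 hQw)]
      ring
    · rw [map_add, map_add, map_smul, map_smul, hg'v, hg'w, hfix a (mem_fix.1 ha)]
  have hgg : g' * g' = 1 := ext_ap fun x => by
    obtain ⟨z, r, hr, h1, h3, hz, rfl⟩ := hdec x
    rw [ap_mul, ap_one, map_add, map_add, hz, hz, hperp r hr h1 h3, map_neg, hperp r hr h1 h3, neg_neg]
  have hrange : ∀ x ∈ LinearMap.range (ap g' - 1),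
      x ∈ LinearMap.range (ap g - 1) ∧ polar ⇑Q v x = 0 ∧ polar ⇑Q w x = 0 := by
    rintro _ ⟨x, rfl⟩
    obtain ⟨z, r, hr, h1, h3, hz, rfl⟩ := hdec x
    have e : (ap g' - 1 : Module.End F (ι → F)) (z + r) = (-2 : F) • r := by
      rw [LinearMap.sub_apply, Module.End.one_apply, map_add, hz, hperp r hr h1 h3, neg_smul, two_smul]
      abel
    rw [e, pl_smul_right, pl_smul_right, h1, h3, mul_zero]
    exact ⟨Submodule.smul_mem _ _ hr, rfl, rfl⟩
  refine ⟨hgg, ?_, hrange⟩
  let φ : R →ₗ[F] F × F :=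
    LinearMap.prod ((Q.polarBilin v) ∘ₗ R.subtype) ((Q.polarBilin w) ∘ₗ R.subtype)
  have hφ : Function.Surjective φ := by
    rintro ⟨a, b⟩
    refine ⟨⟨(a / (2 * Q v)) • v + (b / (2 * Q w)) • w, R.add_mem (R.smul_mem _ hv) (R.smul_mem _ hw)⟩, ?_⟩
    refine Prod.ext ?_ ?_
    · show polar ⇑Q v ((a / (2 * Q v)) • v + (b / (2 * Q w)) • w) = a
      rw [pl_add_right, pl_smul_right, pl_smul_right, pl_self, hvw, div_mul_cancel₀ _ (mul_ne_zero h2 hQv)]
      ring
    · show polar ⇑Q w ((a / (2 * Q v)) • v + (b / (2 * Q w)) • w) = b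
      rw [pl_add_right, pl_smul_right, pl_smul_right, pl_self, pl_comm Q w v, hvw,
        div_mul_cancel₀ _ (mul_ne_zero h2 hQw)]
      ring
  have hker : LinearMap.range (ap g' - 1) = (LinearMap.ker φ).map R.subtype := by
    refine le_antisymm (fun x hx => ?_) ?_
    · obtain ⟨h1, h3, h4⟩ := hrange x hx
      exact ⟨⟨x, h1⟩, Prod.ext h3 h4, rfl⟩
    · rintro _ ⟨x, hx, rfl⟩
      exact mem_range_of_neg hG h2 (hperp x x.2 (congrArg Prod.fst hx) (congrArg Prod.snd hx))
  have := LinearMap.finrank_range_add_finrank_ker φ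
  rw [LinearMap.range_eq_top.2 hφ, finrank_top, Module.finrank_prod, Module.finrank_self] at this
  rw [hker, Submodule.finrank_map_subtype_eq]
  show finrank F (LinearMap.ker φ) + 2 = finrank F R
  omega

/-- With `-1` a square, the moved space of an involution in `Ω` is hyperbolic. -/
theorem exists_iso0_half {s : F} (hs : s * s = -1) :
    ∀ (n : ℕ) (g : IsoGrp Q), g ∈ Omega F ⇑Q → g * g = 1 →
      finrank F ↥(LinearMap.range (ap g - 1)) = n →
      ∃ W : Submodule F (ι → F), W ≤ LinearMap.range (ap g - 1) ∧ Iso0 Q.polarBilin W ∧ 2 * finrank F W = n := by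
  classical
  intro n
  induction n using Nat.strong_induction_on with
  | _ n ih =>
    intro g hgΩ hg hn
    set R := LinearMap.range (ap g - 1) with hR
    rcases Nat.eq_zero_or_pos n with rfl | hpos
    · exact ⟨⊥, bot_le, iso0_bot _, by rw [finrank_bot]⟩
    have hev : Even n := by
      have h1 := ((mem_omega_iff hG g).1 hgΩ).1
      rw [dick, show resSpace g = R from rfl, hn] at h1
      exact (neg_one_pow_eq_one_iff_even (by norm_num)).1 h1
    rw [Nat.even_iff] at hev
    have hI := isom_ap hG.nd two_pos (by exact_mod_cast h2) (show g ^ 2 = 1 by rw [pow_two, hg])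
    -- an isotropic vector in the moved space
    obtain ⟨e, he, he0, hQe⟩ : ∃ e ∈ R, e ≠ 0 ∧ Q e = 0 := by
      by_contra hno
      push Not at hno
      have hR0 : R ≠ ⊥ := fun e0 => by rw [e0, finrank_bot] at hn; omega
      obtain ⟨v, hv, hv0⟩ := (Submodule.ne_bot_iff R).1 hR0
      have hQv := hno v hv hv0
      have hvS : (Submodule.span F {v}) ≤ R := by rwa [Submodule.span_singleton_le_iff_mem]
      have hd := finrank_inf_orth hI.sym hI.ndOn_range hvS
      rw [finrank_span_singleton hv0, ← hR] at hd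
      have hne : R ⊓ orth Q.polarBilin (Submodule.span F {v}) ≠ ⊥ := fun e0 => by
        rw [e0, finrank_bot] at hd; omega
      obtain ⟨w, hw, hw0⟩ := (Submodule.ne_bot_iff _).1 hne
      have hQw := hno w hw.1 hw0
      have hvw : polar ⇑Q v w = 0 := hw.2 v (Submodule.mem_span_singleton_self v)
      rcases le_or_gt 3 n with h3 | h3
      · obtain ⟨u, hu, hu0, huu⟩ := exists_null_sym Q.polarBilin R (by omega)
        rw [QuadraticMap.polarBilin_apply_apply, pl_self] at huu
        exact hno u hu hu0 ((mul_eq_zero.1 huu).resolve_left h2)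
      obtain ⟨hgg, hdim, -⟩ := split_two hG h2 hgΩ hg hv hw.1 hQv hQw hvw
      rw [← hR, hn] at hdim
      have h1 : g * (refl Q v * refl Q w) = 1 := eq_one_of_resSpace_eq_bot
        (Submodule.finrank_eq_zero.1 (Nat.add_right_cancel (hdim.trans ((show n = 2 by omega).trans (zero_add 2).symm))))
      have hge : g = refl Q w * refl Q v := by
        rw [mul_eq_one_iff_eq_inv.1 h1, mul_inv_rev, refl_inv, refl_inv]
      have hsp := ((mem_omega_iff hG g).1 hgΩ).2
      rw [hge, spin_mul hG, spin_refl hG.nd hQw, spin_refl hG.nd hQv, ← map_mul,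
        quadraticChar_one_iff_isSquare (mul_ne_zero hQw hQv)] at hsp
      obtain ⟨t, ht⟩ := hsp
      refine hno ((s * (t / Q v)) • v + w) (R.add_mem (R.smul_mem _ hv) hw.1) (fun e0 => ?_) ?_
      · have := congrArg (fun x => polar ⇑Q w x) e0
        simp only [pl_add_right, pl_smul_right, pl_comm Q w v, hvw, mul_zero, zero_add, pl_self, pl_zero_right]
          at this
        exact hQw ((mul_eq_zero.1 this).resolve_left h2)
      · rw [Q_add, Q_smul, pl_smul_left, hvw]
        field_simp
        linear_combination ht + (t * t) * hs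
    obtain ⟨f', hf', hef⟩ : ∃ f' ∈ R, polar ⇑Q e f' ≠ 0 := by
      by_contra hall
      push Not at hall
      exact he0 (hI.ndOn_range e he fun z hz => hall z hz)
    obtain ⟨f1, hf1R, hf1⟩ : ∃ f1 ∈ R, polar ⇑Q e f1 = 1 :=
      ⟨(polar ⇑Q e f')⁻¹ • f', R.smul_mem _ hf', by rw [pl_smul_right, inv_mul_cancel₀ hef]⟩
    obtain ⟨f, hfR, hef1, hQf⟩ : ∃ f ∈ R, polar ⇑Q e f = 1 ∧ Q f = 0 :=
      ⟨f1 - Q f1 • e, R.sub_mem hf1R (R.smul_mem _ he),
        by rw [pl_sub_right, hf1, pl_smul_right, pl_self, hQe]; ring,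
        by rw [Q_sub, Q_smul, hQe, pl_smul_right, pl_comm Q f1 e, hf1]; ring⟩
    set v := e + f with hvdef
    set w := s • (e - f) with hwdef
    have hQv : Q v = 1 := by rw [hvdef, Q_add, hQe, hQf, hef1]; ring
    have hQw : Q w = 1 := by rw [hwdef, Q_smul, Q_sub, hQe, hQf, hef1]; linear_combination (-1 : F) * hs
    have hvw : polar ⇑Q v w = 0 := by
      rw [hvdef, hwdef, pl_smul_right, pl_add_left, pl_sub_right, pl_sub_right, pl_self, pl_self, hQe, hQf,
        pl_comm Q f e]
      ring
    have hvwΩ : refl Q v * refl Q w ∈ Omega F ⇑Q := by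
      have h1 : Q (v - w) = 2 := by rw [Q_sub, hQv, hQw, hvw]; ring
      have h4 : ap (refl Q (v - w)) v = w := by
        rw [refl_ap, h1, pl_sub_left, pl_self, hQv, pl_comm Q w v, hvw, show (2 : F)⁻¹ * (2 * 1 - 0) = 1 by
          field_simp; ring, one_smul, sub_sub_cancel]
      have h5 := refl_mul_refl_ap_mem_omega (refl Q (v - w)) v
      rwa [h4] at h5
    obtain ⟨hgg, hdim, hsub⟩ := split_two hG h2 hgΩ hg (v := v) (w := w) (R.add_mem he hfR)
      (R.smul_mem _ (R.sub_mem he hfR)) (by rw [hQv]; exact one_ne_zero) (by rw [hQw]; exact one_ne_zero) hvw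
    rw [← hR, hn] at hdim
    obtain ⟨W, hW, hWB, hWd⟩ := ih _ (by omega) _ (mul_mem hgΩ hvwΩ) hgg rfl
    have horth : ∀ x ∈ W, polar ⇑Q e x = 0 ∧ polar ⇑Q f x = 0 := by
      intro x hx
      obtain ⟨-, h1, h3⟩ := hsub x (hW hx)
      have hs0 : s ≠ 0 := fun h0 => one_ne_zero (α := F) (by linear_combination hs - s * h0)
      rw [hvdef, pl_add_left] at h1
      rw [hwdef, pl_smul_left, pl_sub_left] at h3
      have h3' := (mul_eq_zero.1 h3).resolve_left hs0
      exact ⟨(mul_eq_zero.1 (show (2 : F) * polar ⇑Q e x = 0 by linear_combination h1 + h3')).resolve_left h2,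
        (mul_eq_zero.1 (show (2 : F) * polar ⇑Q f x = 0 by linear_combination h1 - h3')).resolve_left h2⟩
    set S := Submodule.span F {e}
    have hSW : W ≤ orth Q.polarBilin S := fun x hx z hz => by
      obtain ⟨a, rfl⟩ := Submodule.mem_span_singleton.1 hz
      rw [QuadraticMap.polarBilin_apply_apply, pl_smul_left, (horth x hx).1, mul_zero]
    have hS : Iso0 Q.polarBilin S := by
      intro a ha b hb
      obtain ⟨α, rfl⟩ := Submodule.mem_span_singleton.1 ha
      obtain ⟨β, rfl⟩ := Submodule.mem_span_singleton.1 hb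
      rw [QuadraticMap.polarBilin_apply_apply, pl_smul_left, pl_smul_right, pl_self, hQe]
      ring
    have hdis : S ⊓ W = ⊥ := by
      rw [eq_bot_iff]
      rintro x ⟨hx, hxW⟩
      obtain ⟨a, rfl⟩ := Submodule.mem_span_singleton.1 hx
      have := (horth _ hxW).2
      rw [pl_smul_right, pl_comm Q f e, hef1, mul_one] at this
      rw [this, zero_smul]
      exact Submodule.zero_mem _
    refine ⟨S ⊔ W, sup_le ((Submodule.span_singleton_le_iff_mem e R).2 he) (fun x hx => (hsub x (hW hx)).1),
      hS.sup hI.sym hWB hSW, ?_⟩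
    have := Submodule.finrank_sup_add_finrank_inf_eq S W
    rw [hdis, finrank_bot, finrank_span_singleton he0] at this
    omega

/-- An involution in `Ω` fixes a maximal totally singular subspace when `-1` is a square. -/
theorem hasInv_max_of_square {s : F} (hs : s * s = -1) {d : ℕ} (hd : Fintype.card ι = 2 * d + 1)
    {g : IsoGrp Q} (hgΩ : g ∈ Omega F ⇑Q) (hg : g ^ 2 = 1) : HasInv Q.polarBilin (ap g) d := by
  have hI := isom_ap hG.nd two_pos (by exact_mod_cast h2) hg
  obtain ⟨W, hW, hWB, hWd⟩ := exists_iso0_half hG h2 hs _ g hgΩ (by rw [← pow_two, hg]) rfl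
  have hadd := hI.finrank_fix_add_range
  rw [Orth.finrank_space, hd] at hadd
  obtain ⟨U, hU, hUB, hUd⟩ := exists_iso0_sym hI (d - finrank F W) (fix (ap g)) le_rfl hI.ndOn_fix (by omega)
  have h1 := hasInv_sup hI hU hUB hW (inv_of_le_range hI hW) hWB
  rwa [show finrank F U + finrank F W = d by omega] at h1

/-- Without a square root of `-1` some involution in `Ω` fixes no maximal totally singular subspace. -/
theorem exists_invol_no_max (hns : ∀ s : F, s * s ≠ -1) {d : ℕ} (hd : Fintype.card ι = 2 * d + 1)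
    {v w : ι → F} (hQv : Q v = 1) (hQw : Q w = 1) (hvw : polar ⇑Q v w = 0) :
    ∃ g : IsoGrp Q, g ∈ Omega F ⇑Q ∧ g ^ 2 = 1 ∧ g ≠ 1 ∧ ¬ HasInv Q.polarBilin (ap g) d := by
  have hwv : polar ⇑Q w v = 0 := (pl_comm Q w v).trans hvw
  set g := refl Q v * refl Q w with hg
  have hgΩ : g ∈ Omega F ⇑Q := by
    have h1 : Q (v - w) = 2 := by rw [Q_sub, hQv, hQw, hvw]; ring
    have h4 : ap (refl Q (v - w)) v = w := by
      rw [refl_ap, h1, pl_sub_left, pl_self, hQv, hwv, show (2 : F)⁻¹ * (2 * 1 - 0) = 1 by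
        field_simp; ring, one_smul, sub_sub_cancel]
    have h5 := refl_mul_refl_ap_mem_omega (refl Q (v - w)) v
    rwa [h4] at h5
  have hQv0 : Q v ≠ 0 := by rw [hQv]; exact one_ne_zero
  have hQw0 : Q w ≠ 0 := by rw [hQw]; exact one_ne_zero
  have happ : ∀ x, ap g x = x - polar ⇑Q w x • w - polar ⇑Q v x • v := by
    intro x
    rw [hg, ap_mul, refl_ap, refl_ap, hQv, hQw, inv_one, one_mul, one_mul, pl_sub_right, pl_smul_right, hvw,
      mul_zero, sub_zero]
  have hgg : g ^ 2 = 1 := ext_ap fun x => by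
    rw [pow_two, ap_mul, ap_one, happ, happ, pl_sub_right, pl_sub_right, pl_smul_right, pl_smul_right,
      pl_sub_right, pl_sub_right, pl_smul_right, pl_smul_right, pl_self, pl_self, hQv, hQw, hvw, hwv]
    module
  have hgv : ap g v = -v := by
    rw [happ, hwv, pl_self, hQv, zero_smul, sub_zero, mul_one, two_smul]; abel
  have hgw : ap g w = -w := by
    rw [happ, hvw, pl_self, hQw, zero_smul, sub_zero, mul_one, two_smul]; abel
  refine ⟨g, hgΩ, hgg, fun e => ?_, ?_⟩
  · rw [e, ap_one] at hgv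
    have h0 : (2 : F) • v = 0 := by rw [two_smul]; nth_rw 1 [hgv]; abel
    exact hQv0 (by rw [(smul_eq_zero.1 h0).resolve_left h2, QuadraticMap.map_zero])
  · rintro ⟨W, hWd, hW, hWi⟩
    have hI := isom_ap hG.nd two_pos (by exact_mod_cast h2) hgg
    have hWf : W ≤ fix (ap g) := by
      intro x hx
      have hy : ap g x - x ∈ W := W.sub_mem (hWi ⟨x, hx, rfl⟩) hx
      have hQy := hW _ hy _ hy
      rw [QuadraticMap.polarBilin_apply_apply, pl_self, happ,
        show x - polar ⇑Q w x • w - polar ⇑Q v x • v - x = -(polar ⇑Q w x • w + polar ⇑Q v x • v) by abel,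
        QuadraticMap.map_neg, Q_add, Q_smul, Q_smul, hQv, hQw, pl_smul_left, pl_smul_right, hwv] at hQy
      have hsum := (mul_eq_zero.1 hQy).resolve_left h2
      set a := polar ⇑Q w x
      set b := polar ⇑Q v x
      have hb : b = 0 := by
        by_contra hb
        refine hns (a / b) ?_
        field_simp
        linear_combination hsum
      have ha : a = 0 := by
        rw [hb] at hsum
        exact mul_self_eq_zero.1 (by linear_combination hsum)
      rw [mem_fix, happ]
      show x - a • w - b • v = x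
      rw [ha, hb, zero_smul, zero_smul, sub_zero, sub_zero]
    have h1 := finrank_le_half hI.sym hI.ndOn_fix hWf hW
    have h3 : 2 ≤ finrank F ↥(LinearMap.range (ap g - 1)) := by
      have hle : Submodule.span F (Set.range ![v, w]) ≤ LinearMap.range (ap g - 1) := Submodule.span_le.2 (by
        rintro _ ⟨k, rfl⟩
        fin_cases k
        · exact mem_range_of_neg hG h2 hgv
        · exact mem_range_of_neg hG h2 hgw)
      have hli : LinearIndependent F ![v, w] := by
        rw [LinearIndependent.pair_iff]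
        intro a b hab
        have e1 := congrArg (fun x => polar ⇑Q v x) hab
        have e2 := congrArg (fun x => polar ⇑Q w x) hab
        simp only [pl_add_right, pl_smul_right, pl_self, hQv, hQw, hvw, hwv, pl_zero_right, mul_zero,
          add_zero, zero_add, mul_one] at e1 e2
        exact ⟨(mul_eq_zero.1 e1).resolve_right h2, (mul_eq_zero.1 e2).resolve_right h2⟩
      exact (finrank_span_eq_card hli).ge.trans (Submodule.finrank_mono hle)
    have hadd := hI.finrank_fix_add_range
    rw [Orth.finrank_space, hd] at hadd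
    omega

end

end Cfsg.Agent.Elusive
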