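import Cfsg.Agent.Lib.Elusive.OddInvol
import Cfsg.Agent.Lib.Elusive.SympMat
import Cfsg.Agent.Lib.Orth.Derange
/-
The orthogonal group in odd dimension: elements of odd prime order.
* `exists_symBlock`    : a symmetric form on the fixed-point-free block of dimension `c`
* `exists_blocks_odd`  : the witnesses inside `Ω`
-/

set_option autoImplicit false
set_option linter.unusedSectionVars false
set_option linter.style.haveILetI false

namespace Cfsg.Agent.Elusive

open Module Cfsg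
open QuadraticMap (polar)
open Cfsg.Agent.PrimeGraphBC (IsSymF isoMon prodForm prodForm_apply oModel_exists finrank_oddSpace)
open Cfsg.Agent.PrimeOrderElt (Inv inv_apply fix mem_fix orderOf_card_pos)
open Cfsg.Agent.GLOrder (sympB sympB_self finrank_sympSpace)

variable {F : Type*} [Field F] {r : ℕ} [Fact r.Prime]

/-- An alternating fixed-point-free isometry of odd prime order preserves a symmetric form. -/
theorem exists_sym_of_alt {V : Type*} [AddCommGroup V] [Module F V] [FiniteDimensional F V]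
    {B : LinearMap.BilinForm F V} {g : Module.End F V} (h : Isom (-1 : F) B g r) (hr2 : r ≠ 2)
    (hf : fix g = ⊥) : ∃ C : LinearMap.BilinForm F V, Isom (1 : F) C g r := by
  set D : Module.End F V := g - g ^ (r - 1) with hD
  have hD0 : Function.Injective D := by
    rw [injective_iff_map_eq_zero]
    intro x hx
    rw [hD, LinearMap.sub_apply, sub_eq_zero] at hx
    refine pow_fixed_free h.pow hf (a := 2) (fun h2 => hr2 ?_) ?_
    · exact (Nat.prime_dvd_prime_iff_eq (Fact.out : r.Prime) Nat.prime_two).1 h2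
    · rw [pow_two, Module.End.mul_apply, hx, h.apply_pred]
  have hadj : ∀ x z, B (g x) z = B x ((g ^ (r - 1)) z) := fun x z => by
    rw [← h.iso x ((g ^ (r - 1)) z), h.apply_pred]
  have hcomm : ∀ x, D (g x) = g (D x) := fun x => by
    simp only [hD, LinearMap.sub_apply, map_sub, ← Module.End.mul_apply, ← pow_succ, ← pow_succ']
  refine ⟨B.compl₂ D, ⟨⟨fun x z => ?_, fun x hx => ?_⟩, fun x z => ?_, h.pow, h.pos, h.rF⟩⟩
  · show B z (D x) = 1 * B x (D z)
    simp only [hD, LinearMap.sub_apply, map_sub, ← hadj]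
    linear_combination h.sym.sym (g x) z - h.sym.sym x (g z)
  · refine h.sym.nd x fun z => ?_
    obtain ⟨w, rfl⟩ := LinearMap.injective_iff_surjective.1 hD0 z
    exact hx w
  · show B (g x) (D (g z)) = B x (D z)
    rw [hcomm, h.iso]

theorem orderOf_eq_of_pow_eq_one {G : Type*} [Monoid G] {g : G} (hg : g ^ r = 1) (h1 : g ≠ 1) :
    orderOf g = r :=
  orderOf_eq_prime hg h1

variable [Fintype F]

/-- A symmetric form on the block. -/
theorem exists_symBlock (hr : (r : F) ≠ 0) (hr2 : r ≠ 2) {c' : ℕ}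
    (hc' : 2 * c' = if Even (orderOf (Fintype.card F : ZMod r)) then orderOf (Fintype.card F : ZMod r)
      else 2 * orderOf (Fintype.card F : ZMod r)) :
    ∃ (C : LinearMap.BilinForm F (Fin c' ⊕ Fin c' → F)) (g : Module.End F (Fin c' ⊕ Fin c' → F)),
      Isom (1 : F) C g r ∧ fix g = ⊥ := by
  obtain ⟨g, hg, hgf⟩ := exists_block hr hr2 hc'
  obtain ⟨C, hC⟩ := exists_sym_of_alt hg hr2 hgf
  exact ⟨C, g, hC, hgf⟩

/-- The witnesses in odd dimension. -/
theorem exists_blocks_odd (h2 : (2 : F) ≠ 0) (hr : (r : F) ≠ 0) (hr2 : r ≠ 2) {d c' d0 u : ℕ}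
    (hc' : 2 * c' = if Even (orderOf (Fintype.card F : ZMod r)) then orderOf (Fintype.card F : ZMod r)
      else 2 * orderOf (Fintype.card F : ZMod r))
    (hd : d0 + u * c' = d) (hu : 0 < u) (e : Fin u → ℕ) (he : ∀ j, ¬ r ∣ e j) :
    ∃ (C : LinearMap.BilinForm F (Fin c' ⊕ Fin c' → F)) (g : Module.End F (Fin c' ⊕ Fin c' → F))
      (x : Orth.IsoGrp (Orth.quadOdd d F)),
      Isom (1 : F) C g r ∧ fix g = ⊥ ∧ x ∈ Omega F ⇑(Orth.quadOdd d F) ∧ orderOf x = r ∧
      ∀ m : ℕ, HasInv (Orth.quadOdd d F).polarBilin (Orth.ap x) m →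
        HasInv (prodForm (Orth.quadOdd d0 F).polarBilin (piForm C u))
          (blockMap (Unit ⊕ (Fin d0 ⊕ Fin d0) → F) g e) m := by
  obtain ⟨C, g, hg, hgf⟩ := exists_symBlock hr hr2 hc'
  have hP := PrimeGraphBC.polar_isSym (F := F) d0 h2
  have hY := blocks_isom hP hg e (u := u)
  have hdim : finrank F ((Unit ⊕ (Fin d0 ⊕ Fin d0) → F) × (Fin u → (Fin c' ⊕ Fin c' → F))) = 2 * d + 1 := by
    rw [Module.finrank_prod, finrank_oddSpace, Module.finrank_pi_fintype, Finset.sum_const,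
      Finset.card_univ, Fintype.card_fin, finrank_sympSpace, smul_eq_mul, ← hd]
    ring
  obtain ⟨Φ, c, φ, hc, hB, hap, hinj⟩ := oModel_exists h2 hY.sym hdim
  set y : isoMon (prodForm (Orth.quadOdd d0 F).polarBilin (piForm C u)) := ⟨_, hY.iso⟩
  have hy1 : y ≠ 1 := fun h1 => by
    have hfix := finrank_blocks_fix (P := Unit ⊕ (Fin d0 ⊕ Fin d0) → F) hg.pow hgf he
    have h1' : blockMap (Unit ⊕ (Fin d0 ⊕ Fin d0) → F) g e = 1 := congrArg Subtype.val h1
    have htop : fix (blockMap (Unit ⊕ (Fin d0 ⊕ Fin d0) → F) g e) = ⊤ := by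
      rw [eq_top_iff]; intro v _; rw [mem_fix, h1', Module.End.one_apply]
    rw [htop, finrank_top, hdim, finrank_oddSpace] at hfix
    have hc0 : 0 < c' := by
      have := orderOf_card_pos hr
      split_ifs at hc' <;> omega
    have := Nat.mul_pos hu hc0
    omega
  have hyr : y ^ r = 1 := Subtype.ext (by rw [SubmonoidClass.coe_pow]; exact hY.pow)
  have hord : orderOf (φ y) = r := by
    rw [orderOf_injective φ hinj, orderOf_eq_prime hyr hy1]
  refine ⟨C, g, φ y, hg, hgf, Orth.mem_omega_of_odd_pow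
    (Orth.Good.of_two_ne_zero (Orth.quadOdd_nondeg d h2) h2) ((Fact.out : r.Prime).odd_of_ne_two hr2)
    (by rw [← map_pow, hyr, map_one]), hord, ?_⟩
  rintro m ⟨W, hWd, hW, hWi⟩
  refine ⟨W.map Φ.toLinearMap, by rw [← hWd]; exact Φ.finrank_map_eq W, ?_, ?_⟩
  · rintro _ ⟨a, ha, rfl⟩ _ ⟨b, hb, rfl⟩
    show prodForm _ _ (Φ a) (Φ b) = 0
    rw [hB, show polar ⇑(Orth.quadOdd d F) a b = 0 from hW a ha b hb, mul_zero]
  · rintro _ ⟨_, ⟨a, ha, rfl⟩, rfl⟩
    refine ⟨Orth.ap (φ y) a, inv_apply hWi ha, ?_⟩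
    show Φ (Orth.ap (φ y) a) = (y : Module.End F _) (Φ a)
    rw [hap, Φ.apply_symm_apply]

end Cfsg.Agent.Elusive
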