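import Cfsg.Agent.Lib.Elusive.SymGeo
import Cfsg.Agent.Lib.Forms.Count
import Cfsg.Agent.Lib.Forms.Bases
/-
The number of totally isotropic subspaces of a symmetric form in odd dimension.
* `card_isoV_mul`   : `N * ∏ (q^(m-i) - 1) = ∏ (q^(2(d-i)) - 1)`
* `exists_index_odd` : a prime dividing the number divides some `q^(2l) - 1`, `d - m < l ≤ d`
-/

set_option autoImplicit false
set_option linter.unusedSectionVars false
set_option linter.style.haveILetI false

namespace Cfsg.Agent.Elusive

open Module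
open Cfsg.Agent.PrimeGraphBC (IsSymF isoMon)
open Cfsg.Agent.PrimeOrderElt (Inv fix mem_fix)

universe u

variable {F : Type u} [Field F] [Fintype F]

/-- Totally isotropic subspaces of dimension `m`. -/
abbrev IsoV {V : Type u} [AddCommGroup V] [Module F V] (B : LinearMap.BilinForm F V) (m : ℕ) : Type u :=
  {W : Submodule F V // finrank F W = m ∧ Iso0 B W}

theorem card_ne_zero {W : Type u} [AddCommGroup W] [Module F W] [FiniteDimensional F W] :
    Nat.card {v : W // v ≠ 0} = Fintype.card F ^ finrank F W - 1 := by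
  classical
  haveI : Finite W := Module.finite_of_finite F
  haveI := Fintype.ofFinite W
  rw [Nat.card_eq_fintype_card, Fintype.card_subtype_compl, Fintype.card_subtype_eq,
    ← Module.card_eq_pow_finrank (K := F)]

/-- Isotropic non-zero vectors in odd dimension. -/
theorem card_null {V : Type u} [AddCommGroup V] [Module F V] [FiniteDimensional F V]
    {B : LinearMap.BilinForm F V} (hB : IsSymF (1 : F) B) (h2 : (2 : F) ≠ 0) {d : ℕ}
    (hd : finrank F V = 2 * d + 1) :
    Nat.card {v : V // v ≠ 0 ∧ B v v = 0} = Fintype.card F ^ (2 * d) - 1 := by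
  haveI : Finite V := Module.finite_of_finite F
  have hpol : ∀ x y, QuadraticMap.polar (LinearMap.BilinMap.toQuadraticMap B) x y = 2 * B x y := fun x y => by
    simp only [QuadraticMap.polar, LinearMap.BilinMap.toQuadraticMap_apply, map_add, LinearMap.add_apply,
      hB.sym x y]
    ring
  have hnd : (QuadraticMap.polarBilin (LinearMap.BilinMap.toQuadraticMap B)).Nondegenerate := by
    refine (Forms.nondegenerate_polarBilin_iff _).2 fun x hx => hB.nd x fun y => ?_
    exact (mul_eq_zero.1 ((hpol x y).symm.trans (hx y))).resolve_left h2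
  obtain ⟨-, c, e, hc, he⟩ := Forms.classify_odd _ hnd hd
  have h1 := Forms.card_ne_zero_zeros (LinearMap.BilinMap.toQuadraticMap B)
  have h2 := Forms.card_zeros_congr (Forms.qfOdd d F) (LinearMap.BilinMap.toQuadraticMap B) e c hc he
  rw [h2, Forms.card_zeros_qfOdd, Nat.card_eq_fintype_card (α := F)] at h1
  have h3 : Nat.card {v : V // v ≠ 0 ∧ B v v = 0} =
      Nat.card {v : V // v ≠ 0 ∧ LinearMap.BilinMap.toQuadraticMap B v = 0} := rfl
  omega

/-- Isotropic subspaces through `S`, and those of a complement `R` of `S` in `orth S`. -/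
theorem card_through {V : Type u} [AddCommGroup V] [Module F V] [FiniteDimensional F V]
    {B : LinearMap.BilinForm F V} (hB : IsSymF (1 : F) B) {S R : Submodule F V} (hS : Iso0 B S)
    (hRS : R ≤ orth B S) (hdis : R ⊓ S = ⊥) (hd : finrank F R + 2 * finrank F S = finrank F V) (m : ℕ) :
    Nat.card {W : IsoV B (finrank F S + m) // S ≤ W.1} =
      Nat.card (IsoV (B.compl₁₂ R.subtype R.subtype) m) := by
  have hsup : S ⊔ R = orth B S := by
    refine Submodule.eq_of_le_of_finrank_eq (sup_le (iso0_iff_le_orth.1 hS) hRS) ?_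
    have h1 := Submodule.finrank_sup_add_finrank_inf_eq S R
    rw [inf_comm, hdis, finrank_bot] at h1
    have h2 := finrank_orth hB S
    omega
  have hinf : ∀ W : Submodule F V, S ≤ W → Iso0 B W → S ⊔ (W ⊓ R) = W := by
    intro W hSW hW
    have hle : W ≤ S ⊔ R := hsup ▸ fun v hv s hs => hW s (hSW hs) v hv
    conv_rhs => rw [← inf_eq_left.2 hle, inf_comm, sup_inf_assoc_of_le R hSW, inf_comm]
  have hdim : ∀ U : Submodule F V, U ≤ R → finrank F ↥(S ⊔ U) = finrank F S + finrank F U := by
    intro U hU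
    have h1 := Submodule.finrank_sup_add_finrank_inf_eq S U
    rw [show S ⊓ U = ⊥ from le_bot_iff.1 ((inf_comm S U).le.trans ((inf_le_inf_right S hU).trans hdis.le)),
      finrank_bot] at h1
    omega
  refine Nat.card_congr
    { toFun := fun W => ⟨(W.1.1 ⊓ R).comap R.subtype, ?_, fun a ha b hb => W.1.2.2 _ ha.1 _ hb.1⟩
      invFun := fun U => ⟨⟨S ⊔ U.1.map R.subtype, ?_, ?_⟩, le_sup_left⟩
      left_inv := fun W => Subtype.ext (Subtype.ext ?_)
      right_inv := fun U => Subtype.ext ?_ }
  · rw [← Submodule.finrank_map_subtype_eq, Submodule.map_comap_subtype, inf_comm, inf_assoc, inf_idem]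
    have h1 := hdim _ (inf_le_right : W.1.1 ⊓ R ≤ R)
    rw [hinf _ W.2 W.1.2.2, W.1.2.1] at h1
    omega
  · rw [hdim _ (Submodule.map_subtype_le R U.1), Submodule.finrank_map_subtype_eq, U.2.1]
  · refine hS.sup hB ?_ ((Submodule.map_subtype_le R U.1).trans hRS)
    rintro _ ⟨a, ha, rfl⟩ _ ⟨b, hb, rfl⟩
    exact U.2.2 a ha b hb
  · show S ⊔ ((W.1.1 ⊓ R).comap R.subtype).map R.subtype = W.1.1
    rw [Submodule.map_comap_subtype, inf_comm, inf_assoc, inf_idem]
    exact hinf _ W.2 W.1.2.2
  · show ((S ⊔ U.1.map R.subtype) ⊓ R).comap R.subtype = U.1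
    rw [inf_comm, sup_comm, ← sup_inf_assoc_of_le' hdis (Submodule.map_subtype_le R U.1)]
    exact Submodule.comap_map_eq_of_injective R.subtype_injective U.1
where
  sup_inf_assoc_of_le' {V : Type u} [AddCommGroup V] [Module F V] {R S X : Submodule F V}
      (hdis : R ⊓ S = ⊥) (hX : X ≤ R) : X = R ⊓ (X ⊔ S) := by
    rw [inf_comm, sup_inf_assoc_of_le S hX, inf_comm, hdis, sup_bot_eq]

theorem card_isoV_zero {V : Type u} [AddCommGroup V] [Module F V] [FiniteDimensional F V]
    (B : LinearMap.BilinForm F V) : Nat.card (IsoV B 0) = 1 := by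
  rw [Nat.card_eq_one_iff_unique]
  exact ⟨⟨fun a b => Subtype.ext ((Submodule.finrank_eq_zero.1 a.2.1).trans
    (Submodule.finrank_eq_zero.1 b.2.1).symm)⟩, ⟨⟨⊥, finrank_bot F V, iso0_bot B⟩⟩⟩

/-- The count. -/
theorem card_isoV_mul (h2 : (2 : F) ≠ 0) : ∀ (m : ℕ) {V : Type u} [AddCommGroup V] [Module F V]
    [FiniteDimensional F V] (B : LinearMap.BilinForm F V), IsSymF (1 : F) B → ∀ d : ℕ,
      finrank F V = 2 * d + 1 → m ≤ d →
      Nat.card (IsoV B m) * ∏ i ∈ Finset.range m, (Fintype.card F ^ (i + 1) - 1) =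
        ∏ i ∈ Finset.range m, (Fintype.card F ^ (2 * (d - i)) - 1) := by
  intro m
  induction m with
  | zero => intro V _ _ _ B _ d _ _; simp [card_isoV_zero]
  | succ m ih =>
    intro V _ _ _ B hB d hd hmd
    classical
    haveI : Finite V := Module.finite_of_finite F
    haveI : Finite (IsoV B (m + 1)) := Subtype.finite
    haveI := Fintype.ofFinite V
    haveI := Fintype.ofFinite (IsoV B (m + 1))
    have e : (Σ W : IsoV B (m + 1), {v : W.1 // v ≠ 0}) ≃
        Σ v : {v : V // v ≠ 0 ∧ B v v = 0}, {W : IsoV B (m + 1) // (v : V) ∈ W.1} :=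
      { toFun := fun p => ⟨⟨(p.2.1 : V), fun h => p.2.2 (Subtype.ext h), p.1.2.2 _ p.2.1.2 _ p.2.1.2⟩,
          p.1, p.2.1.2⟩
        invFun := fun p => ⟨p.2.1, ⟨p.1.1, p.2.2⟩, fun h => p.1.2.1 (congrArg Subtype.val h)⟩
        left_inv := fun _ => rfl
        right_inv := fun _ => rfl }
    have hcount := Nat.card_congr e
    have hrest : ∀ v : {v : V // v ≠ 0 ∧ B v v = 0},
        Nat.card {W : IsoV B (m + 1) // (v : V) ∈ W.1} * ∏ i ∈ Finset.range m, (Fintype.card F ^ (i + 1) - 1) =
          ∏ i ∈ Finset.range m, (Fintype.card F ^ (2 * (d - 1 - i)) - 1) := by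
      intro v
      set S := Submodule.span F {(v : V)}
      have hS : Iso0 B S := by
        intro a ha b hb
        obtain ⟨s, rfl⟩ := Submodule.mem_span_singleton.1 ha
        obtain ⟨t, rfl⟩ := Submodule.mem_span_singleton.1 hb
        simp [v.2.2]
      have h1 : Isom (1 : F) B (1 : Module.End F V) 1 :=
        ⟨hB, (isoMon B).one_mem, pow_one 1, one_pos, by rw [Nat.cast_one]; exact one_ne_zero⟩
      have htop : NdOn B (⊤ : Submodule F V) := fun x _ hx => hB.nd x fun z => hx z Submodule.mem_top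
      obtain ⟨R, -, -, hR, hRd, hRS, hdis⟩ := h1.hyperbolic_step (X := ⊤) le_top htop
        (S := S) (Submodule.map_id S).le le_top hS
      have hS1 : finrank F S = 1 := finrank_span_singleton v.2.1
      rw [finrank_top] at hRd
      have hc := card_through hB hS hRS hdis hRd m
      rw [hS1, add_comm 1 m] at hc
      rw [Nat.card_congr (Equiv.subtypeEquivRight fun W : IsoV B (m + 1) =>
        ((Submodule.span_singleton_le_iff_mem (v : V) W.1).symm : (v : V) ∈ W.1 ↔ S ≤ W.1)), hc]
      exact ih (B.compl₁₂ R.subtype R.subtype)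
        ⟨fun x y => hB.sym _ _, fun x hx => Subtype.ext (hR x x.2 fun z hz => hx ⟨z, hz⟩)⟩ (d - 1)
        (by omega) (by omega)
    rw [Nat.card_sigma, Nat.card_sigma,
      Finset.sum_congr rfl fun W _ => (card_ne_zero (F := F) (W := W.1)).trans (by rw [W.2.1]),
      Finset.sum_const, smul_eq_mul, Finset.card_univ, ← Nat.card_eq_fintype_card] at hcount
    rw [Finset.prod_range_succ, Finset.prod_range_succ', mul_comm (∏ i ∈ Finset.range m, _) (_ - 1),
      ← mul_assoc, hcount, Finset.sum_mul, Finset.sum_congr rfl fun v _ => hrest v, Finset.sum_const,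
      smul_eq_mul, Finset.card_univ, ← Nat.card_eq_fintype_card, card_null hB h2 hd, Nat.sub_zero, mul_comm]
    congr 1
    exact Finset.prod_congr rfl fun i _ => by rw [show d - 1 - i = d - (i + 1) by omega]

/-- A prime dividing the number of isotropic subspaces. -/
theorem exists_index_odd (h2 : (2 : F) ≠ 0) {r : ℕ} (hr : r.Prime) {V : Type u} [AddCommGroup V] [Module F V]
    [FiniteDimensional F V] {B : LinearMap.BilinForm F V} (hB : IsSymF (1 : F) B) {d m : ℕ}
    (hd : finrank F V = 2 * d + 1) (hmd : m ≤ d) (h : r ∣ Nat.card (IsoV B m)) :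
    ∃ l, d - m < l ∧ l ≤ d ∧ r ∣ Fintype.card F ^ (2 * l) - 1 := by
  have hdvd : r ∣ ∏ i ∈ Finset.range m, (Fintype.card F ^ (2 * (d - i)) - 1) := by
    rw [← card_isoV_mul h2 m B hB d hd hmd]
    exact h.mul_right _
  obtain ⟨i, hi, hdvd⟩ := hr.prime.exists_mem_finset_dvd hdvd
  exact ⟨d - i, by have := Finset.mem_range.1 hi; omega, Nat.sub_le _ _, hdvd⟩

end Cfsg.Agent.Elusive
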