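import Cfsg.Agent.Lib.Elusive.SympGeo
import Cfsg.Agent.Lib.Forms.Classify
/-
Symmetric forms over finite fields of odd characteristic: invariant totally isotropic subspaces.
* `exists_null_sym`      : an isotropic vector in a non-degenerate subspace of dimension at least three
* `exists_iso0_sym`      : isotropic subspaces of fixed vectors, `2j` below the dimension
* `hasInv_of_cond_odd`   : the sufficient condition in odd dimension, `r` odd
* `hasInv_of_sq_one_lt`  : involutions, `m < d`
-/

set_option autoImplicit false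
set_option linter.unusedSectionVars false
set_option linter.style.haveILetI false

namespace Cfsg.Agent.Elusive

open Module
open Cfsg.Agent.PrimeGraphBC (IsSymF isoMon)
open Cfsg.Agent.PrimeOrderElt (Inv inv_apply fix mem_fix inv_fix inv_inf inv_sup orderOf_card_pos exists_dims)

variable {F : Type*} [Field F] [Fintype F] {V : Type*} [AddCommGroup V] [Module F V] [FiniteDimensional F V]
  {B : LinearMap.BilinForm F V} {y : Module.End F V} {r : ℕ}

/-- An isotropic vector in dimension at least three. -/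
theorem exists_null_sym (B : LinearMap.BilinForm F V) (X : Submodule F V) (hd : 3 ≤ finrank F X) :
    ∃ v ∈ X, v ≠ 0 ∧ B v v = 0 := by
  obtain ⟨v, hv0, hv⟩ := Forms.exists_singular_of_three_le
    (LinearMap.BilinMap.toQuadraticMap (B.compl₁₂ X.subtype X.subtype)) hd
  exact ⟨v, v.2, fun e => hv0 (Subtype.ext e), hv⟩

/-- Isotropic subspaces of fixed vectors. -/
theorem exists_iso0_sym (h : Isom (1 : F) B y r) :
    ∀ (j : ℕ) (Z : Submodule F V), Z ≤ fix y → NdOn B Z → (j = 0 ∨ 2 * j < finrank F Z) →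
      ∃ W : Submodule F V, W ≤ Z ∧ Iso0 B W ∧ finrank F W = j := by
  intro j
  induction j with
  | zero => exact fun Z _ _ _ => ⟨⊥, bot_le, iso0_bot B, finrank_bot F V⟩
  | succ j ih =>
    intro Z hZ hnd hd
    replace hd := hd.resolve_left (Nat.succ_ne_zero j)
    obtain ⟨v, hv, hv0, hvv⟩ := exists_null_sym B Z (by omega)
    set S := Submodule.span F {v}
    have hSZ : S ≤ Z := by rwa [Submodule.span_singleton_le_iff_mem]
    have hS : Iso0 B S := by
      intro a ha b hb
      obtain ⟨s, rfl⟩ := Submodule.mem_span_singleton.1 ha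
      obtain ⟨t, rfl⟩ := Submodule.mem_span_singleton.1 hb
      simp [hvv]
    obtain ⟨R, -, hRZ, hR, hRd, hRS, hdis⟩ := h.hyperbolic_step (inv_of_le_fix hZ) hnd
      (inv_of_le_fix (hSZ.trans hZ)) hSZ hS
    rw [finrank_span_singleton hv0] at hRd
    obtain ⟨W, hWR, hW, hWd⟩ := ih R (hRZ.trans hZ) hR (.inr (by omega))
    refine ⟨S ⊔ W, sup_le hSZ (hWR.trans hRZ), hS.sup h.sym hW (hWR.trans hRS), ?_⟩
    have := Submodule.finrank_sup_add_finrank_inf_eq S W
    rw [show S ⊓ W = ⊥ from le_bot_iff.1 ((inf_comm S W).le.trans ((inf_le_inf_right S hWR).trans hdis.le)),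
      finrank_bot, finrank_span_singleton hv0, hWd] at this
    omega

/-- `n mod c` for odd `n`, translated to `n - 1`. -/
theorem odd_mod_translate {i d m : ℕ} (hi : 0 < i) :
    (2 * (m % i) < (2 * d + 1) % (if Even i then i else 2 * i) ↔
      2 * (m % i) ≤ (2 * d) % (if Even i then i else 2 * i)) ∧
    (Even i → (2 * d + 1) / i = (2 * d) / i) := by
  have key : ∀ c, 0 < c → (2 * d + 1) % (2 * c) = (2 * d) % (2 * c) + 1 ∧
      (2 * d + 1) / (2 * c) = (2 * d) / (2 * c) := by
    intro c hc
    have h1 : (2 * d) % (2 * c) = 2 * (d % c) := Nat.mul_mod_mul_left _ _ _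
    have h2 := Nat.mod_lt d hc
    have h3 := Nat.div_add_mod (2 * d) (2 * c)
    have h4 : (2 * d + 1) / (2 * c) = (2 * d) / (2 * c) :=
      Nat.div_eq_of_lt_le (by rw [mul_comm ((2 * d) / (2 * c))]; omega)
        (by rw [add_mul, one_mul, mul_comm ((2 * d) / (2 * c))]; omega)
    have h5 := Nat.div_add_mod (2 * d + 1) (2 * c)
    rw [h4] at h5
    exact ⟨by omega, h4⟩
  rcases Nat.even_or_odd i with he | ho
  · obtain ⟨c, rfl⟩ : ∃ c, i = 2 * c := by
      obtain ⟨c, hc⟩ := he
      exact ⟨c, by omega⟩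
    obtain ⟨k1, k2⟩ := key c (by omega)
    rw [if_pos he, k1]
    exact ⟨by omega, fun _ => k2⟩
  · rw [if_neg (Nat.not_even_iff_odd.2 ho), (key i hi).1]
    exact ⟨by omega, fun he => absurd he (Nat.not_even_iff_odd.2 ho)⟩

/-- The sufficient condition in odd dimension. -/
theorem hasInv_of_cond_odd [Fact r.Prime] (h : Isom (1 : F) B y r) (hr2 : r ≠ 2) {d m : ℕ}
    (hd : finrank F V = 2 * d + 1) (hmd : m ≤ d)
    (hk : 2 * (m % orderOf (Fintype.card F : ZMod r)) ≤ (2 * d) %
      (if Even (orderOf (Fintype.card F : ZMod r)) then orderOf (Fintype.card F : ZMod r)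
        else 2 * orderOf (Fintype.card F : ZMod r)))
    (ht : Odd (orderOf (Fintype.card F : ZMod r)) ∨ (r - 1) / orderOf (Fintype.card F : ZMod r) +
      2 * (m / orderOf (Fintype.card F : ZMod r)) ≤ (2 * d) / orderOf (Fintype.card F : ZMod r)) :
    HasInv B y m := by
  obtain ⟨N, hN⟩ := exists_range_dim h
  have hadd := h.finrank_fix_add_range
  rw [hN, hd] at hadd
  have hev : 2 ∣ N * orderOf (Fintype.card F : ZMod r) := by
    rcases Nat.even_or_odd (orderOf (Fintype.card F : ZMod r)) with he | ho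
    · exact (even_iff_two_dvd.1 he).mul_left _
    · exact (even_iff_two_dvd.1 (even_of_odd h hr2 ho hN)).mul_right _
  obtain ⟨k, j, hm, hj, hk'⟩ := exists_split hmd (by omega) (fun ho => even_of_odd h hr2 ho hN) hk ht
  obtain ⟨W, hWX, hWi, hW, hWd⟩ := exists_iso0_range h hr2 hN hk'
  obtain ⟨U, hU, hUB, hUd⟩ := exists_iso0_sym h j (fix y) le_rfl h.ndOn_fix (.inr (by omega))
  rw [hm, ← hUd, ← hWd]
  exact hasInv_sup h hU hUB hWX hWi hW

theorem Isom.neg_two {f : Module.End F V} {ε : F} (h : Isom ε B f 2) : Isom ε B (-f) 2 :=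
  ⟨h.sym, fun u v => by simp only [LinearMap.neg_apply, map_neg, neg_neg, h.iso u v],
    by rw [neg_sq, h.pow], two_pos, h.rF⟩

theorem range_le_fix_neg {f : Module.End F V} {ε : F} (h : Isom ε B f 2) :
    LinearMap.range (f - 1) ≤ fix (-f) := by
  rintro _ ⟨v, rfl⟩
  rw [mem_fix]
  have := LinearMap.congr_fun h.pow v
  rw [pow_two, Module.End.mul_apply, Module.End.one_apply] at this
  simp [this]

theorem inv_of_le_range {f : Module.End F V} {ε : F} (h : Isom ε B f 2) {W : Submodule F V}
    (hW : W ≤ LinearMap.range (f - 1)) : Inv f W := by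
  rintro _ ⟨v, hv, rfl⟩
  have := mem_fix.1 (range_le_fix_neg h (hW hv))
  rw [LinearMap.neg_apply, neg_eq_iff_eq_neg] at this
  rw [this]
  exact W.neg_mem hv

/-- Involutions fix isotropic subspaces below the maximal dimension. -/
theorem hasInv_of_sq_one_lt {f : Module.End F V} (h : Isom (1 : F) B f 2) {d m : ℕ}
    (hd : finrank F V = 2 * d + 1) (hmd : m < d) : HasInv B f m := by
  have hadd := h.finrank_fix_add_range
  rw [hd] at hadd
  set m1 := min m ((finrank F ↥(fix f) - 1) / 2) with hm1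
  obtain ⟨U, hU, hUB, hUd⟩ := exists_iso0_sym h m1 (fix f) le_rfl h.ndOn_fix (by omega)
  obtain ⟨W, hW, hWB, hWd⟩ := exists_iso0_sym h.neg_two (m - m1) _ (range_le_fix_neg h) h.ndOn_range (by omega)
  rw [show m = finrank F U + finrank F W by omega]
  exact hasInv_sup h hU hUB hW (inv_of_le_range h hW) hWB

end Cfsg.Agent.Elusive
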