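import Cfsg.Agent.Lib.Elusive.Common
/-
Alternating forms: invariant totally isotropic subspaces of isometries of prime order.
* `exists_iso0_fix`     : isotropic subspaces of every allowed dimension among fixed vectors
* `hasInv_of_cond`      : the sufficient condition for odd `r`
* `hasInv_of_sq_one`, `hasInv_of_sq_neg`, `hasInv_of_even` : the case `r = 2`
* `not_hasInv_of_odd_dim` : `f² = -1` and `-1` a non-square
-/

set_option autoImplicit false
set_option linter.unusedSectionVars false
set_option linter.style.haveILetI false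

namespace Cfsg.Agent.Elusive

open Module
open Cfsg.Agent.PrimeGraphBC (IsSymF isoMon)
open Cfsg.Agent.PrimeOrderElt (Inv inv_apply fix mem_fix inv_fix inv_inf inv_sup orderOf_card_pos exists_dims)

variable {F : Type*} [Field F] {V : Type*} [AddCommGroup V] [Module F V] [FiniteDimensional F V]
  {B : LinearMap.BilinForm F V} {y : Module.End F V} {r : ℕ}

/-- Isotropic subspaces of fixed vectors. -/
theorem exists_iso0_fix {ε : F} (h : Isom ε B y r) (halt : ∀ x, B x x = 0) :
    ∀ (j : ℕ) (Z : Submodule F V), Z ≤ fix y → NdOn B Z → 2 * j ≤ finrank F Z →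
      ∃ W : Submodule F V, W ≤ Z ∧ Iso0 B W ∧ finrank F W = j := by
  intro j
  induction j with
  | zero => exact fun Z _ _ _ => ⟨⊥, bot_le, iso0_bot B, finrank_bot F V⟩
  | succ j ih =>
    intro Z hZ hnd hd
    have hZ0 : Z ≠ ⊥ := fun e => by rw [e, finrank_bot] at hd; omega
    obtain ⟨v, hv, hv0⟩ := (Submodule.ne_bot_iff Z).1 hZ0
    set S := Submodule.span F {v}
    have hSZ : S ≤ Z := by rwa [Submodule.span_singleton_le_iff_mem]
    have hS : Iso0 B S := by
      intro a ha b hb
      obtain ⟨s, rfl⟩ := Submodule.mem_span_singleton.1 ha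
      obtain ⟨t, rfl⟩ := Submodule.mem_span_singleton.1 hb
      simp [halt]
    obtain ⟨R, -, hRZ, hR, hRd, hRS, hdis⟩ := h.hyperbolic_step (inv_of_le_fix hZ) hnd
      (inv_of_le_fix (hSZ.trans hZ)) hSZ hS
    rw [finrank_span_singleton hv0] at hRd
    obtain ⟨W, hWR, hW, hWd⟩ := ih R (hRZ.trans hZ) hR (by omega)
    refine ⟨S ⊔ W, sup_le hSZ (hWR.trans hRZ), hS.sup h.sym hW (hWR.trans hRS), ?_⟩
    have := Submodule.finrank_sup_add_finrank_inf_eq S W
    rw [show S ⊓ W = ⊥ from le_bot_iff.1 ((inf_comm S W).le.trans ((inf_le_inf_right S hWR).trans hdis.le)),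
      finrank_bot, finrank_span_singleton hv0, hWd] at this
    omega

/-- The arithmetic of the sufficient condition. -/
theorem exists_split {d m i N r : ℕ} (hmd : m ≤ d) (hN : N * i ≤ 2 * d) (hodd : Odd i → Even N)
    (hk : 2 * (m % i) ≤ (2 * d) % (if Even i then i else 2 * i))
    (ht : Odd i ∨ (r - 1) / i + 2 * (m / i) ≤ (2 * d) / i) :
    ∃ k j, m = j + k * i ∧ 2 * j + N * i ≤ 2 * d ∧ (k = 0 ∨ 2 * k + tPrime r i ≤ N + 1) := by
  have hdm := Nat.div_add_mod m i
  rcases Nat.even_or_odd i with he | ho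
  · rw [if_pos he] at hk
    rw [tPrime, if_neg (Nat.not_odd_iff_even.2 he)]
    have ht := ht.resolve_left (Nat.not_odd_iff_even.2 he)
    set t := (r - 1) / i
    set k := min ((N + 1 - t) / 2) (m / i) with hkdef
    have hki : k * i ≤ m := by
      calc k * i ≤ m / i * i := Nat.mul_le_mul_right _ (min_le_right _ _)
        _ ≤ m := Nat.div_mul_le_self m i
    refine ⟨k, m - k * i, by omega, ?_, by omega⟩
    rcases le_or_gt (m / i) ((N + 1 - t) / 2) with hle | hgt
    · rw [hkdef, min_eq_right hle]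
      have h1 : N * i + (2 * d - N * i) = 2 * d := by omega
      have h2 : (2 * d) % i ≤ 2 * d - N * i := by
        rw [← h1, Nat.mul_add_mod_self_right, h1]
        exact Nat.mod_le _ _
      rw [mul_comm (m / i) i]
      omega
    · rw [hkdef, min_eq_left hgt.le]
      have h1 : ((2 * (m / i)) + t) * i ≤ (2 * d) / i * i := Nat.mul_le_mul_right _ (by omega)
      have h2 := Nat.div_add_mod (2 * d) i
      have h3 : N * i ≤ (2 * ((N + 1 - t) / 2) + t) * i := Nat.mul_le_mul_right _ (by omega)
      rw [add_mul, mul_assoc] at h1 h3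
      rw [mul_comm (2 * d / i) i, mul_comm (m / i) i] at h1
      have h4 : (N + 1 - t) / 2 * i ≤ m := by
        calc (N + 1 - t) / 2 * i ≤ m / i * i := Nat.mul_le_mul_right _ hgt.le
          _ ≤ m := Nat.div_mul_le_self m i
      omega
  · rw [if_neg (Nat.not_even_iff_odd.2 ho), Nat.mul_mod_mul_left] at hk
    rw [tPrime, if_pos ho]
    obtain ⟨N1, rfl⟩ := hodd ho
    rw [add_mul] at hN
    rcases le_or_gt (m / i) N1 with hle | hgt
    · refine ⟨m / i, m % i, by rw [mul_comm]; omega, ?_, by omega⟩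
      have h1 : N1 * i + (d - N1 * i) = d := by omega
      have h2 : d % i ≤ d - N1 * i := by
        rw [← h1, Nat.mul_add_mod_self_right, h1]
        exact Nat.mod_le _ _
      rw [add_mul]
      omega
    · have : N1 * i ≤ m := by
        calc N1 * i ≤ m / i * i := Nat.mul_le_mul_right _ hgt.le
          _ ≤ m := Nat.div_mul_le_self m i
      exact ⟨N1, m - N1 * i, by omega, by rw [add_mul]; omega, by omega⟩

variable [Fintype F] [Fact r.Prime]

/-- The sufficient condition for `r` odd. -/
theorem hasInv_of_cond {ε : F} (h : Isom ε B y r) (halt : ∀ x, B x x = 0) (hr2 : r ≠ 2) {d m : ℕ}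
    (hd : finrank F V = 2 * d) (hmd : m ≤ d)
    (hk : 2 * (m % orderOf (Fintype.card F : ZMod r)) ≤ (2 * d) %
      (if Even (orderOf (Fintype.card F : ZMod r)) then orderOf (Fintype.card F : ZMod r)
        else 2 * orderOf (Fintype.card F : ZMod r)))
    (ht : Odd (orderOf (Fintype.card F : ZMod r)) ∨ (r - 1) / orderOf (Fintype.card F : ZMod r) +
      2 * (m / orderOf (Fintype.card F : ZMod r)) ≤ (2 * d) / orderOf (Fintype.card F : ZMod r)) :
    HasInv B y m := by
  obtain ⟨N, hN⟩ := exists_range_dim h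
  have hadd := h.finrank_fix_add_range
  rw [hN, hd] at hadd
  obtain ⟨k, j, hm, hj, hk'⟩ := exists_split hmd (by omega) (fun ho => even_of_odd h hr2 ho hN) hk ht
  obtain ⟨W, hWX, hWi, hW, hWd⟩ := exists_iso0_range h hr2 hN hk'
  obtain ⟨U, hU, hUB, hUd⟩ := exists_iso0_fix h halt j (fix y) le_rfl h.ndOn_fix (by omega)
  rw [hm, ← hUd, ← hWd]
  exact hasInv_sup h hU hUB hWX hWi hW

section Two

variable {f : Module.End F V}

omit [Fact r.Prime] in
theorem hasInv_of_sq_one (h2 : (2 : F) ≠ 0) (hB : IsSymF (-1 : F) B) (hf : f ∈ isoMon B)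
    (hff : ∀ v, f (f v) = v) {d m : ℕ} (hd : finrank F V = 2 * d) (hmd : m ≤ d) : HasInv B f m := by
  have halt := hB.alt h2
  have h : Isom (-1 : F) B f 2 := ⟨hB, hf, LinearMap.ext fun v => by
    rw [pow_two, Module.End.mul_apply, hff, Module.End.one_apply], two_pos, by exact_mod_cast h2⟩
  have hneg : Isom (-1 : F) B (-f) 2 := ⟨hB, fun u v => by
    simp only [LinearMap.neg_apply, map_neg, neg_neg, hf u v], by rw [neg_sq, h.pow], two_pos, h.rF⟩
  have hrange : LinearMap.range (f - 1) ≤ fix (-f) := by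
    rintro _ ⟨v, rfl⟩
    rw [mem_fix]
    simp [hff]
  have hadd := h.finrank_fix_add_range
  rw [hd] at hadd
  set m1 := min m (finrank F ↥(fix f) / 2) with hm1
  have hev : ∀ (g : Module.End F V) (hg : Isom (-1 : F) B g 2) (X : Submodule F V), X ≤ fix g → NdOn B X →
      Even (finrank F X) := by
    intro g hg X hX hnd
    by_contra hodd
    rw [Nat.not_even_iff_odd] at hodd
    obtain ⟨k, hk⟩ := hodd
    -- a maximal isotropic subspace leaves a nondegenerate line
    obtain ⟨W, hWX, hW, hWd⟩ := exists_iso0_fix hg halt k X hX hnd (by omega)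
    obtain ⟨R, -, hRX, hR, hRd, -, -⟩ := hg.hyperbolic_step (inv_of_le_fix hX) hnd
      (inv_of_le_fix (hWX.trans hX)) hWX hW
    have h1 : finrank F R = 1 := by omega
    obtain ⟨v, hv0, hv⟩ := finrank_eq_one_iff'.1 h1
    refine hv0 (Subtype.ext (hR _ v.2 fun z hz => ?_))
    obtain ⟨c, hc⟩ := hv ⟨z, hz⟩
    have : c • (v : V) = z := congrArg Subtype.val hc
    rw [← this, map_smul, halt, smul_zero]
  have he1 := hev f h _ le_rfl h.ndOn_fix
  have he2 := hev (-f) hneg _ hrange h.ndOn_range
  rw [Nat.even_iff] at he1 he2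
  obtain ⟨U, hU, hUB, hUd⟩ := exists_iso0_fix h halt m1 (fix f) le_rfl h.ndOn_fix (by omega)
  obtain ⟨W, hW, hWB, hWd⟩ := exists_iso0_fix hneg halt (m - m1) _ hrange h.ndOn_range (by omega)
  have hWi : Inv f W := by
    rintro _ ⟨v, hv, rfl⟩
    have := mem_fix.1 (hrange (hW hv))
    rw [LinearMap.neg_apply, neg_eq_iff_eq_neg] at this
    rw [this]
    exact W.neg_mem hv
  rw [show m = finrank F U + finrank F W by omega]
  exact hasInv_sup h hU hUB hW hWi hWB

omit [Fintype F] [Fact r.Prime] in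
/-- A square root of `-1` gives invariant Lagrangians. -/
theorem hasInv_of_sq_neg (h2 : (2 : F) ≠ 0) {ε : F} (hB : IsSymF ε B) (hf : f ∈ isoMon B)
    (hff : ∀ v, f (f v) = -v) {s : F} (hs : s * s = -1) {d m : ℕ} (hd : finrank F V = 2 * d) (hmd : m ≤ d) :
    HasInv B f m := by
  let K : F → Submodule F V := fun a => LinearMap.ker (f - a • (1 : Module.End F V))
  have hK : ∀ (a : F) (v : V), v ∈ K a ↔ f v = a • v := fun a v => by
    simp [K, sub_eq_zero]
  have hiso : ∀ a : F, a * a = -1 → Iso0 B (K a) := by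
    intro a ha u hu v hv
    have := hf u v
    rw [(hK a u).1 hu, (hK a v).1 hv, map_smul, LinearMap.map_smul₂, smul_eq_mul, smul_eq_mul, ← mul_assoc,
      ha, neg_one_mul, neg_eq_iff_add_eq_zero, ← two_mul] at this
    exact (mul_eq_zero.1 this).resolve_left h2
  have htop : NdOn B (⊤ : Submodule F V) := fun x _ hx => hB.nd x fun z => hx z Submodule.mem_top
  have hhalf : ∀ a : F, a * a = -1 → finrank F (K a) ≤ d := fun a ha => by
    have := finrank_le_half hB htop le_top (hiso a ha)
    rw [finrank_top] at this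
    omega
  have hsup : K s ⊔ K (-s) = ⊤ := eq_top_iff.2 fun v _ => by
    refine Submodule.mem_sup.2 ⟨(2⁻¹ : F) • (v - s • f v), ?_, (2⁻¹ : F) • (v + s • f v), ?_, ?_⟩
    · rw [hK, map_smul, map_sub, map_smul, hff, smul_comm s (2⁻¹ : F)]
      rw [smul_sub (s : F), smul_smul s s, hs, neg_one_smul, smul_neg]
      abel_nf
    · rw [hK, map_smul, map_add, map_smul, hff, smul_comm (-s) (2⁻¹ : F)]
      rw [smul_add (-s : F), smul_smul (-s) s, neg_mul, hs, neg_neg, one_smul, smul_neg, neg_smul]
      abel_nf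
    · rw [← smul_add, show v - s • f v + (v + s • f v) = (2 : F) • v by rw [two_smul]; abel, smul_smul,
        inv_mul_cancel₀ h2, one_smul]
  have := Submodule.finrank_sup_add_finrank_inf_eq (K s) (K (-s))
  rw [hsup, finrank_top, hd] at this
  have h1 := hhalf s hs
  have h1' := hhalf (-s) (by rw [neg_mul_neg, hs])
  obtain ⟨U, hU, hUd⟩ := exists_le_finrank (K s) (m := m) (by omega)
  refine ⟨U, hUd, (hiso s hs).mono hU, ?_⟩
  rintro _ ⟨v, hv, rfl⟩
  rw [(hK s v).1 (hU hv)]
  exact U.smul_mem s hv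

omit [Fintype F] [Fact r.Prime] in
/-- Without a square root of `-1`, invariant subspaces have even dimension. -/
theorem even_of_sq_neg (hns : ∀ s : F, s * s ≠ -1) (hff : ∀ v, f (f v) = -v) {W : Submodule F V}
    (hW : Inv f W) : Even (finrank F W) := by
  by_contra hodd
  rw [Nat.not_even_iff_odd] at hodd
  let g : Module.End F W := f.restrict fun v hv => inv_apply hW hv
  have hg : g * g = (-1 : F) • (1 : Module.End F W) :=
    LinearMap.ext fun v => Subtype.ext (by simpa [g] using hff v)
  have := congrArg LinearMap.det hg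
  rw [map_mul, LinearMap.det_smul, map_one, mul_one, hodd.neg_one_pow] at this
  exact hns _ this

/-- A vector `v ≠ 0` with `B v (f v) = 0`. -/
theorem exists_null (h : Isom (-1 : F) B f 4) (hff : ∀ v, f (f v) = -v) (halt : ∀ x, B x x = 0)
    {X : Submodule F V} (hXi : Inv f X) (hX : NdOn B X) (hd : 3 ≤ finrank F X) :
    ∃ v ∈ X, v ≠ 0 ∧ B v (f v) = 0 := by
  by_contra hno
  push Not at hno
  have hX0 : X ≠ ⊥ := fun e => by rw [e, finrank_bot] at hd; omega
  obtain ⟨v, hv, hv0⟩ := (Submodule.ne_bot_iff X).1 hX0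
  have hc := hno v hv hv0
  set H := Submodule.span F (Set.range ![v, f v]) with hH
  have hvH : v ∈ H := Submodule.subset_span ⟨0, rfl⟩
  have hfvH : f v ∈ H := Submodule.subset_span ⟨1, rfl⟩
  have hHd : finrank F H ≤ 2 := (finrank_range_le_card _).trans_eq (Fintype.card_fin 2)
  have hHX : H ≤ X := Submodule.span_le.2 (by
    rintro _ ⟨k, rfl⟩
    fin_cases k
    · exact hv
    · exact inv_apply hXi hv)
  have hdim := finrank_inf_orth h.sym hX hHX
  have hne : X ⊓ orth B H ≠ ⊥ := fun e => by rw [e, finrank_bot] at hdim; omega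
  obtain ⟨w, hw, hw0⟩ := (Submodule.ne_bot_iff _).1 hne
  have he := hno w hw.1 hw0
  obtain ⟨a, b, hab⟩ : ∃ a b : F, a ^ 2 + b ^ 2 = -(B w (f w)) / B v (f v) := by
    have hne : ringChar F ≠ 2 := fun h' => by
      have : CharP F 2 := ringChar.of_eq h'
      refine h.rF ?_
      rw [show (4 : ℕ) = 2 * 2 from rfl, Nat.cast_mul, CharP.cast_eq_zero F 2, mul_zero]
    obtain ⟨a, b, hab⟩ := FiniteField.exists_root_sum_quadratic (f := (Polynomial.X ^ 2 : Polynomial F))
      (g := Polynomial.X ^ 2 - Polynomial.C (-(B w (f w)) / B v (f v))) (Polynomial.degree_X_pow 2)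
      (Polynomial.degree_X_pow_sub_C two_pos _) (FiniteField.odd_card_of_char_ne_two hne)
    exact ⟨a, b, by simp at hab; linear_combination hab⟩
  set u := a • v + b • f v with hu
  have huH : u ∈ H := H.add_mem (H.smul_mem a hvH) (H.smul_mem b hfvH)
  have hfuH : f u ∈ H := by
    rw [hu, map_add, map_smul, map_smul, hff]
    exact H.add_mem (H.smul_mem a hfvH) (H.smul_mem b (H.neg_mem hvH))
  have h1 : B u (f w) = 0 := by
    rw [← h.iso u (f w), hff, map_neg, hw.2 _ hfuH, neg_zero]
  have h2 : B w (f u) = 0 := symm_zero h.sym (hw.2 _ hfuH)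
  have h3 : B u (f u) = (a ^ 2 + b ^ 2) * B v (f v) := by
    rw [hu]
    simp only [map_add, map_smul, hff, map_neg, LinearMap.add_apply, LinearMap.smul_apply,
      smul_eq_mul, halt]
    linear_combination (-(b ^ 2)) * h.sym.sym v (f v)
  have hz : u + w ≠ 0 := fun e => by
    have hwH : w ∈ H := by rw [show w = -u from eq_neg_of_add_eq_zero_right e]; exact H.neg_mem huH
    refine he ?_
    exact hw.2 _ hwH |> fun h0 => symm_zero h.sym (by
      have hfwH : f w ∈ H := by
        rw [show w = -u from eq_neg_of_add_eq_zero_right e, map_neg]; exact H.neg_mem hfuH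
      exact hw.2 _ hfwH)
  refine hno (u + w) (X.add_mem (hHX huH) hw.1) hz ?_
  rw [map_add]
  simp only [map_add, LinearMap.add_apply, h1, h2, h3, hab, div_mul_cancel₀ _ hc]
  ring

/-- Even-dimensional invariant isotropic subspaces for `f² = -1`. -/
theorem exists_iso0_even (h : Isom (-1 : F) B f 4) (hff : ∀ v, f (f v) = -v) (halt : ∀ x, B x x = 0)
    (hns : ∀ s : F, s * s ≠ -1) : ∀ (j : ℕ) (X : Submodule F V), Inv f X → NdOn B X →
      4 * j ≤ finrank F X + 1 → ∃ W : Submodule F V, W ≤ X ∧ Inv f W ∧ Iso0 B W ∧ finrank F W = 2 * j := by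
  intro j
  induction j with
  | zero => exact fun X _ _ _ => ⟨⊥, bot_le, (Submodule.map_bot f).le, iso0_bot B, finrank_bot F V⟩
  | succ j ih =>
    intro X hXi hX hd
    obtain ⟨v, hv, hv0, hnull⟩ := exists_null h hff halt hXi hX (by omega)
    set S := Submodule.span F (Set.range ![v, f v]) with hSdef
    have hSX : S ≤ X := Submodule.span_le.2 (by
      rintro _ ⟨k, rfl⟩
      fin_cases k
      · exact hv
      · exact inv_apply hXi hv)
    have hSi : Inv f S := by
      show Submodule.map f S ≤ S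
      rw [hSdef, Submodule.map_span, Submodule.span_le]
      rintro _ ⟨_, ⟨k, rfl⟩, rfl⟩
      fin_cases k
      · exact Submodule.subset_span ⟨1, rfl⟩
      · show f (f v) ∈ _
        rw [hff]
        exact Submodule.neg_mem _ (Submodule.subset_span ⟨0, rfl⟩)
    have hS : Iso0 B S := by
      have hle : S ≤ orth B S := by
        rw [hSdef, Submodule.span_le]
        rintro _ ⟨k, rfl⟩ s hs
        induction hs using Submodule.span_induction with
        | mem x hx =>
          obtain ⟨l, rfl⟩ := hx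
          fin_cases k <;> fin_cases l <;> simp [halt, hnull, symm_zero h.sym hnull]
        | zero => simp
        | add a b _ _ ha hb => rw [map_add, LinearMap.add_apply, ha, hb, add_zero]
        | smul c a _ ha => rw [map_smul, LinearMap.smul_apply, ha, smul_zero]
      exact iso0_iff_le_orth.2 hle
    have hSd : finrank F S = 2 := by
      have h1 : finrank F S ≤ 2 := (finrank_range_le_card _).trans_eq (Fintype.card_fin 2)
      have h2 := even_of_sq_neg hns hff hSi
      have h3 : finrank F S ≠ 0 := fun e =>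
        hv0 ((Submodule.mem_bot F).1 (Submodule.finrank_eq_zero.1 e ▸ Submodule.subset_span ⟨0, rfl⟩))
      rw [Nat.even_iff] at h2
      omega
    obtain ⟨R, hRi, hRX, hR, hRd, hRS, hdis⟩ := h.hyperbolic_step hXi hX hSi hSX hS
    obtain ⟨W, hWR, hWi, hW, hWd⟩ := ih R hRi hR (by omega)
    refine ⟨S ⊔ W, sup_le hSX (hWR.trans hRX), inv_sup hSi hWi, hS.sup h.sym hW (hWR.trans hRS), ?_⟩
    have := Submodule.finrank_sup_add_finrank_inf_eq S W
    rw [show S ⊓ W = ⊥ from le_bot_iff.1 ((inf_comm S W).le.trans ((inf_le_inf_right S hWR).trans hdis.le)),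
      finrank_bot, hSd, hWd] at this
    omega

omit [Fact r.Prime] in
/-- Without a square root of `-1`: every even dimension occurs. -/
theorem hasInv_of_even (h2 : (2 : F) ≠ 0) (hB : IsSymF (-1 : F) B) (hf : f ∈ isoMon B)
    (hff : ∀ v, f (f v) = -v) (hns : ∀ s : F, s * s ≠ -1) {d m : ℕ} (hd : finrank F V = 2 * d)
    (hmd : m ≤ d) (hm : Even m) : HasInv B f m := by
  have h4 : ((4 : ℕ) : F) ≠ 0 := by
    rw [show ((4 : ℕ) : F) = 2 * 2 by push_cast; ring]
    exact mul_ne_zero h2 h2
  have h : Isom (-1 : F) B f 4 := ⟨hB, hf, LinearMap.ext fun v => by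
    simp [pow_succ, Module.End.mul_apply, hff], by norm_num, h4⟩
  obtain ⟨j, rfl⟩ := hm
  obtain ⟨W, -, hWi, hW, hWd⟩ := exists_iso0_even h hff (hB.alt h2) hns j ⊤ le_top
    (fun x _ hx => hB.nd x fun z => hx z Submodule.mem_top) (by rw [finrank_top, hd]; omega)
  exact ⟨W, by omega, hW, hWi⟩

end Two

end Cfsg.Agent.Elusive
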