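import Cfsg.Agent.Lib.Elusive.Greedy
/-
Elements of prime order with few invariant totally isotropic subspaces.
* `blockMap`, `blockForm` : sums of copies of one orthogonal block, twisted by powers
* `blocks_isom`, `blocks_fix` : the isometry and its fixed space
* `no_isotropic_blocks` : powers in different cosets of `⟨q⟩` give no isotropic piece
-/

set_option autoImplicit false
set_option linter.unusedSectionVars false
set_option linter.style.haveILetI false

namespace Cfsg.Agent.Elusive

open Polynomial Module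
open Cfsg.Agent.PrimeGraphBC (IsSymF isoMon prodForm prodForm_apply)
open Cfsg.Agent.PrimeOrderElt (Inv inv_apply fix mem_fix inv_fix inv_inf inv_sup exists_minimal_invariant
  finrank_simple orderOf_card_pos exists_dims)

variable {F : Type*} [Field F] {P : Type*} [AddCommGroup P] [Module F P] {W : Type*} [AddCommGroup W] [Module F W]
  {u : ℕ}

/-- The sum of copies of a form. -/
def piForm (B : LinearMap.BilinForm F W) (u : ℕ) : LinearMap.BilinForm F (Fin u → W) :=
  ∑ j, B.compl₁₂ (LinearMap.proj j) (LinearMap.proj j)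

theorem piForm_apply (B : LinearMap.BilinForm F W) (x z : Fin u → W) :
    piForm B u x z = ∑ j, B (x j) (z j) := by simp [piForm]

theorem piForm_isSym {ε : F} {B : LinearMap.BilinForm F W} (hB : IsSymF ε B) :
    IsSymF ε (piForm B u) := by
  classical
  refine ⟨fun x z => ?_, fun x hx => funext fun j => hB.nd _ fun z => ?_⟩
  · rw [piForm_apply, piForm_apply, Finset.mul_sum]
    exact Finset.sum_congr rfl fun j _ => hB.sym _ _
  · have := hx (Pi.single j z)
    rw [piForm_apply, Finset.sum_eq_single j (fun k _ hk => by rw [Pi.single_eq_of_ne hk, map_zero])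
      (fun hj => absurd (Finset.mem_univ j) hj), Pi.single_eq_same] at this
    exact this

/-- The powers `g^(e j)` on the copies, the identity on `P`. -/
def blockMap (P : Type*) [AddCommGroup P] [Module F P] (g : Module.End F W) (e : Fin u → ℕ) :
    Module.End F (P × (Fin u → W)) :=
  LinearMap.prodMap LinearMap.id (LinearMap.pi fun j => (g ^ e j) ∘ₗ LinearMap.proj j)

theorem blockMap_apply (g : Module.End F W) (e : Fin u → ℕ) (x : P × (Fin u → W)) :
    blockMap P g e x = (x.1, fun j => (g ^ e j) (x.2 j)) := rfl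

theorem blockMap_pow (g : Module.End F W) (e : Fin u → ℕ) (n : ℕ) (x : P × (Fin u → W)) :
    (blockMap P g e ^ n) x = (x.1, fun j => (g ^ (e j * n)) (x.2 j)) := by
  induction n with
  | zero => simp
  | succ n ih =>
    rw [pow_succ', Module.End.mul_apply, ih, blockMap_apply]
    simp only [← Module.End.mul_apply, ← pow_add]
    congr 1
    funext j
    rw [mul_add, mul_one, add_comm]

/-- Projection to a copy. -/
def blockProj (P : Type*) [AddCommGroup P] [Module F P] (j : Fin u) : P × (Fin u → W) →ₗ[F] W :=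
  LinearMap.proj j ∘ₗ LinearMap.snd F P (Fin u → W)

theorem blockProj_aeval (g : Module.End F W) (e : Fin u → ℕ) (j : Fin u) (f : F[X]) :
    ∀ x : P × (Fin u → W), blockProj (F := F) (W := W) P j (aeval (blockMap P g e) f x) = aeval (g ^ e j) f (blockProj (F := F) (W := W) P j x) := by
  induction f using Polynomial.induction_on' with
  | add p q hp hq => intro x; simp [hp, hq]
  | monomial n c =>
    intro x
    simp only [aeval_monomial, Module.End.mul_apply, Module.algebraMap_end_apply, map_smul, blockMap_pow,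
      ← pow_mul]
    rfl

variable {r : ℕ} [Fact r.Prime]

theorem blocks_isom {ε : F} {BP : LinearMap.BilinForm F P} {B : LinearMap.BilinForm F W}
    (hP : IsSymF ε BP) {g : Module.End F W} (h : Isom ε B g r) (e : Fin u → ℕ) :
    Isom ε (prodForm BP (piForm B u)) (blockMap P g e) r := by
  refine ⟨hP.prod (piForm_isSym h.sym), fun x z => ?_, LinearMap.ext fun x => ?_, h.pos, h.rF⟩
  · simp only [prodForm_apply, piForm_apply, blockMap_apply]
    congr 1
    exact Finset.sum_congr rfl fun j _ => (isoMon B).pow_mem h.iso (e j) _ _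
  · rw [blockMap_pow, Module.End.one_apply]
    refine Prod.ext rfl (funext fun j => ?_)
    simp only [mul_comm (e j) r, pow_mul, h.pow, one_pow, Module.End.one_apply]

theorem pow_fixed_free {g : Module.End F W} (hg : g ^ r = 1) (hf : fix g = ⊥) {a : ℕ}
    (ha : ¬ r ∣ a) {x : W} (hx : (g ^ a) x = x) : x = 0 := by
  have hiter : ∀ n, ((g ^ a) ^ n) x = x := by
    intro n
    induction n with
    | zero => rfl
    | succ n ih => rw [pow_succ', Module.End.mul_apply, ih, hx]
  obtain ⟨b, -, hb⟩ := Nat.exists_mul_mod_eq_one_of_coprime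
    (((Fact.out : r.Prime).coprime_iff_not_dvd.2 ha).symm) (Fact.out : r.Prime).one_lt
  have h1 : (g ^ (a * b)) x = x := by rw [pow_mul]; exact hiter b
  rw [← Nat.div_add_mod (a * b) r, hb, pow_add, pow_mul, hg, one_pow, one_mul, pow_one] at h1
  have : x ∈ fix g := mem_fix.2 h1
  rwa [hf, Submodule.mem_bot] at this

theorem blocks_fix {g : Module.End F W} (hg : g ^ r = 1) (hf : fix g = ⊥) {e : Fin u → ℕ}
    (he : ∀ j, ¬ r ∣ e j) :
    fix (blockMap P g e) = LinearMap.range (LinearMap.inl F P (Fin u → W)) := by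
  ext x
  rw [mem_fix, blockMap_apply]
  constructor
  · intro h
    exact ⟨x.1, Prod.ext rfl (funext fun j =>
      (pow_fixed_free hg hf (he j) (congrFun (congrArg Prod.snd h) j)).symm)⟩
  · rintro ⟨p, rfl⟩
    exact Prod.ext rfl (funext fun j => map_zero _)

theorem finrank_blocks_fix [FiniteDimensional F P] {g : Module.End F W} (hg : g ^ r = 1)
    (hf : fix g = ⊥) {e : Fin u → ℕ} (he : ∀ j, ¬ r ∣ e j) :
    finrank F ↥(fix (blockMap P g e)) = finrank F P := by
  rw [blocks_fix hg hf he, LinearMap.finrank_range_of_inj LinearMap.inl_injective]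

variable [Fintype F]

/-- Exponents in different cosets of `⟨q⟩`. -/
theorem exists_exponents (hr : (r : F) ≠ 0) (hu : u * orderOf (Fintype.card F : ZMod r) ≤ r - 1) :
    ∃ e : Fin u → ℕ, (∀ j, ¬ r ∣ e j) ∧
      ∀ j k s, (e k : ZMod r) = e j * (Fintype.card F : ZMod r) ^ s → j = k := by
  classical
  set Q : (ZMod r)ˣ := Units.mk0 (Fintype.card F : ZMod r) (PrimeOrderElt.natCast_ne_zero hr) with hQ
  have hQo : orderOf Q = orderOf (Fintype.card F : ZMod r) := by rw [← orderOf_units, hQ, Units.val_mk0]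
  have hcard := Subgroup.card_eq_card_quotient_mul_card_subgroup (Subgroup.zpowers Q)
  rw [Nat.card_zpowers, hQo, Nat.card_eq_fintype_card (α := (ZMod r)ˣ), ZMod.card_units] at hcard
  rw [hcard] at hu
  have hle := Nat.le_of_mul_le_mul_right hu (orderOf_card_pos hr)
  haveI := Fintype.ofFinite ((ZMod r)ˣ ⧸ Subgroup.zpowers Q)
  obtain ⟨f⟩ := Function.Embedding.nonempty_of_card_le
    (show Fintype.card (Fin u) ≤ Fintype.card ((ZMod r)ˣ ⧸ Subgroup.zpowers Q) by
      rwa [Fintype.card_fin, ← Nat.card_eq_fintype_card])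
  refine ⟨fun j => ((f j).out : ZMod r).val, fun j hj => ?_, fun j k s hjk => f.injective ?_⟩
  · have := (ZMod.natCast_eq_zero_iff _ r).2 hj
    rw [ZMod.natCast_zmod_val] at this
    exact Units.ne_zero _ this
  · rw [ZMod.natCast_zmod_val, ZMod.natCast_zmod_val] at hjk
    rw [← (f j).out_eq', ← (f k).out_eq']
    refine QuotientGroup.eq.2 ?_
    have : (f k).out = (f j).out * Q ^ s := Units.ext (by push_cast [hQ, Units.val_mk0]; exact hjk)
    rw [this, inv_mul_cancel_left]
    exact pow_mem (Subgroup.mem_zpowers Q) s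

variable [FiniteDimensional F P] [FiniteDimensional F W]

/-- Powers in different cosets give no isotropic piece. -/
theorem no_isotropic_blocks {ε : F} {BP : LinearMap.BilinForm F P} {B : LinearMap.BilinForm F W}
    (hP : IsSymF ε BP) {g : Module.End F W} (h : Isom ε B g r) (hf : fix g = ⊥)
    (hdim : finrank F W = orderOf (Fintype.card F : ZMod r)) {e : Fin u → ℕ} (he : ∀ j, ¬ r ∣ e j)
    (hsep : ∀ j k s, (e k : ZMod r) = e j * (Fintype.card F : ZMod r) ^ s → j = k)
    {U : Submodule F (P × (Fin u → W))} (hUi : Inv (blockMap P g e) U)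
    (hU : Iso0 (prodForm BP (piForm B u)) U) :
    finrank F ↥(U ⊓ fix (blockMap P g e)) = finrank F U := by
  classical
  by_contra hne
  set y := blockMap P g e
  have hY := blocks_isom hP h e (u := u)
  have hy' : y ^ r = (1 : F) • (1 : Module.End F (P × (Fin u → W))) := by rw [one_smul, hY.pow]
  obtain ⟨C, hCi, hCU, hdis, hsup⟩ := PrimeOrderElt.exists_invariant_complement h.rF one_ne_zero hy' hUi
    (inv_inf hUi (inv_fix y)) inf_le_left
  have hC0 : C ≠ ⊥ := fun e0 => hne (by rw [e0, sup_bot_eq] at hsup; rw [hsup])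
  obtain ⟨S, hSC, hSi, hS0, hmin⟩ := exists_minimal_invariant y hCi hC0
  have hSf : S ⊓ fix y = ⊥ := le_bot_iff.1 fun v hv =>
    hdis ▸ ⟨⟨hCU (hSC hv.1), hv.2⟩, hSC hv.1⟩
  obtain ⟨f, hfT, hSker⟩ := exists_type hY hSi hS0 hmin hSf
  set i := orderOf (Fintype.card F : ZMod r) with hi
  have hipos : 0 < i := orderOf_card_pos h.rF
  have hSd : finrank F S = i := finrank_simple h.rF hY.pow hSi hS0 hmin
    fun hle => hS0 (by rw [← hSf, inf_eq_left.2 hle])
  -- the block is irreducible
  have hW0 : (⊤ : Submodule F W) ≠ ⊥ := fun e0 => by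
    have h1 := finrank_top F W
    rw [e0, finrank_bot, hdim] at h1
    omega
  have hWmin : ∀ X : Submodule F W, Inv g X → X ≤ ⊤ → X = ⊥ ∨ X = ⊤ := by
    intro X hX _
    obtain ⟨s, hs, -⟩ := exists_dims h.rF h.pow hX
    rw [hf, inf_bot_eq, finrank_bot, zero_add, ← hi] at hs
    rcases Nat.eq_zero_or_pos s with rfl | hs0
    · exact .inl (Submodule.finrank_eq_zero.1 (by simpa using hs))
    · refine .inr (Submodule.eq_top_of_finrank_eq (le_antisymm (Submodule.finrank_le X) ?_))
      rw [hdim, hs]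
      exact Nat.le_mul_of_pos_left i hs0
  obtain ⟨f0, hf0, hWker⟩ := exists_type h le_top hW0 hWmin (by rw [hf, inf_bot_eq])
  haveI := Fact.mk hf0.irred
  haveI := Fact.mk hfT.irred
  obtain ⟨w, -, hw⟩ := (Submodule.ne_bot_iff _).1 hW0
  set w' : LinearMap.ker (aeval g f0) := ⟨w, hWker Submodule.mem_top⟩
  have hw' : w' ≠ 0 := fun e0 => hw (congrArg Subtype.val e0)
  -- nonzero projections
  let p : Fin u → S →ₗ[F] W := fun j => blockProj (F := F) (W := W) P j ∘ₗ S.subtype
  have hsurj : ∀ j, p j ≠ 0 → Function.Surjective (p j) := by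
    intro j hj
    rw [← LinearMap.range_eq_top]
    refine (hWmin _ ?_ le_top).resolve_left fun e0 => hj (LinearMap.range_eq_bot.1 e0)
    -- invariance under `g`: a power of `g^(e j)` is `g`
    obtain ⟨b, -, hb⟩ := Nat.exists_mul_mod_eq_one_of_coprime
      (((Fact.out : r.Prime).coprime_iff_not_dvd.2 (he j)).symm) (Fact.out : r.Prime).one_lt
    rintro _ ⟨_, ⟨x, rfl⟩, rfl⟩
    refine ⟨⟨(y ^ b) (x : P × (Fin u → W)), Isom.inv_pow hSi b _ x.2⟩, ?_⟩
    show blockProj (F := F) (W := W) P j ((y ^ b) (x : P × (Fin u → W))) = g (blockProj (F := F) (W := W) P j (x : P × (Fin u → W)))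
    rw [blockMap_pow]
    show (g ^ (e j * b)) ((x : P × (Fin u → W)).2 j) = _
    rw [← Nat.div_add_mod (e j * b) r, hb, pow_add, pow_mul, h.pow, one_pow, one_mul, pow_one]
    rfl
  have hkill : ∀ j, p j ≠ 0 → ∀ z, aeval (g ^ e j) f z = 0 := by
    intro j hj z
    obtain ⟨x, rfl⟩ := hsurj j hj z
    show aeval (g ^ e j) f (blockProj (F := F) (W := W) P j (x : P × (Fin u → W))) = 0
    rw [← blockProj_aeval, LinearMap.mem_ker.1 (hSker x.2), map_zero]
  have hroot : ∀ j, p j ≠ 0 → aeval (AdjoinRoot.root f0 ^ e j) f = 0 := by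
    intro j hj
    rw [show aeval (AdjoinRoot.root f0 ^ e j) f = AdjoinRoot.mk f0 (f.comp (X ^ e j)) by
      rw [← AdjoinRoot.aeval_eq, Polynomial.aeval_comp, map_pow, aeval_X]]
    refine orbit_injective hf0.irred hw' ?_
    rw [map_zero, orbit_apply, act_coe, Polynomial.aeval_comp, map_pow, aeval_X]
    exact hkill j hj _
  -- at most one projection is nonzero
  have hone : ∀ j k, p j ≠ 0 → p k ≠ 0 → j = k := by
    intro j k hj hk
    let φ : AdjoinRoot f →ₐ[F] AdjoinRoot f0 :=
      AdjoinRoot.liftAlgHom f (Algebra.ofId F _) (AdjoinRoot.root f0 ^ e j) (hroot j hj)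
    have hφr : φ (AdjoinRoot.root f) = AdjoinRoot.root f0 ^ e j := AdjoinRoot.liftAlgHom_root _ _ _ _
    haveI : Module.Finite F (AdjoinRoot f) := (AdjoinRoot.powerBasis hfT.irred.ne_zero).finite
    haveI : Module.Finite F (AdjoinRoot f0) := (AdjoinRoot.powerBasis hf0.irred.ne_zero).finite
    have hφs : Function.Surjective φ :=
      (LinearMap.injective_iff_surjective_of_finrank_eq_finrank (f := φ.toLinearMap) (by
        rw [(AdjoinRoot.powerBasis hfT.irred.ne_zero).finrank, (AdjoinRoot.powerBasis hf0.irred.ne_zero).finrank,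
          AdjoinRoot.powerBasis_dim, AdjoinRoot.powerBasis_dim, hfT.deg, hf0.deg])).1 φ.toRingHom.injective
    obtain ⟨ρ, hρ⟩ := hφs (AdjoinRoot.root f0 ^ e k)
    have hρ0 : aeval ρ f = 0 := φ.toRingHom.injective (by
      show φ (aeval ρ f) = φ 0
      rw [← Polynomial.aeval_algHom_apply, hρ, hroot k hk, map_zero])
    obtain ⟨s, hs⟩ := hfT.root_eq h.rF hρ0
    rw [hs, map_pow, hφr, ← pow_mul, pow_eq_iff (hf0.orderOf_root h.rF)] at hρ
    push_cast at hρ
    exact hsep j k s hρ.symm
  obtain ⟨x, hxS, hx0⟩ := (Submodule.ne_bot_iff S).1 hS0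
  obtain ⟨j, hj⟩ : ∃ j, p j ≠ 0 := by
    by_contra hall
    push Not at hall
    refine hx0 ?_
    have hxf : x ∈ fix y := by
      rw [blocks_fix h.pow hf he]
      exact ⟨x.1, Prod.ext rfl (funext fun j => (LinearMap.congr_fun (hall j) ⟨x, hxS⟩).symm)⟩
    have hx' : x ∈ S ⊓ fix y := ⟨hxS, hxf⟩
    rwa [hSf, Submodule.mem_bot] at hx'
  have hsingle : ∀ z : S, ∀ k, k ≠ j → (z : P × (Fin u → W)).2 k = 0 := fun z k hk => by
    by_contra h0
    exact hk (hone k j (fun e0 => h0 (LinearMap.congr_fun e0 z)) hj)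
  -- the first component vanishes and the form is that of the block
  have hfst : ∀ z ∈ S, z.1 = 0 := by
    intro z hz
    have hS1 : S ≤ LinearMap.range (y - 1) := by
      intro v hv
      have hv' : v ∈ fix y ⊔ LinearMap.range (y - 1) := by rw [hY.fix_sup_range]; exact Submodule.mem_top
      by_contra hnr
      -- `(y - 1) S` is `S`, as `S` has no fixed vectors
      have hinjS : Function.Injective ((y - 1).restrict (p := S) (q := S)
          fun a ha => S.sub_mem (inv_apply hSi ha) ha) := by
        rw [injective_iff_map_eq_zero]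
        intro a ha
        have h1 : (y - 1) (a : P × (Fin u → W)) = 0 := congrArg Subtype.val ha
        have h2 : (a : P × (Fin u → W)) ∈ S ⊓ fix y := ⟨a.2, LinearMap.mem_ker.2 h1⟩
        rw [hSf, Submodule.mem_bot] at h2
        exact Subtype.ext h2
      obtain ⟨a, ha⟩ := (LinearMap.injective_iff_surjective.1 hinjS) ⟨v, hv⟩
      exact hnr ⟨a, congrArg Subtype.val ha⟩
    obtain ⟨a, rfl⟩ := hS1 hz
    simp [y, blockMap_apply]
  refine hw (h.sym.nd w fun v => ?_)
  obtain ⟨z1, rfl⟩ := hsurj j hj w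
  obtain ⟨z2, rfl⟩ := hsurj j hj v
  have := hU _ (hCU (hSC z1.2)) _ (hCU (hSC z2.2))
  rwa [prodForm_apply, hfst _ z1.2, map_zero, LinearMap.zero_apply, zero_add, piForm_apply,
    Finset.sum_eq_single j (fun k _ hk => by rw [hsingle z1 k hk, map_zero, LinearMap.zero_apply])
      (fun hj' => absurd (Finset.mem_univ j) hj')] at this

end Cfsg.Agent.Elusive
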